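import Cfsg.Agent.Lib.Leech.Simple.Co1
import Cfsg.Agent.Lib.Golay.Simple
import Cfsg.Agent.Lib.SLCover.Universal

/-!
Co0 is perfect, and covers Co1 once its own multiplier is trivial.
-/

set_option autoImplicit false

namespace CfsgLib.SchurCoOne

open Cfsg CfsgLib CfsgLib.Leech

theorem commutator_Co0 : commutator Co0 = ⊤ := by
  rcases normal_subgroup_cases Golay.isSimple_M24 (commutator Co0) with h | h
  · exact h
  · exfalso
    rw [← center_eq] at h
    have hle : commutator Co0 ≤ Subgroup.center Co0 := h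
    obtain ⟨hs, hcard⟩ := co1_simple Golay.isSimple_M24
    have hcomm : ∀ a b : Co0 ⧸ Subgroup.center Co0, a * b = b * a := by
      intro a b
      obtain ⟨x, rfl⟩ := QuotientGroup.mk'_surjective _ a
      obtain ⟨y, rfl⟩ := QuotientGroup.mk'_surjective _ b
      rw [← commutatorElement_eq_one_iff_mul_comm, ← map_commutatorElement, QuotientGroup.mk'_apply,
        QuotientGroup.eq_one_iff]
      exact hle (Subgroup.commutator_mem_commutator (Subgroup.mem_top x) (Subgroup.mem_top y))
    let _ : CommGroup (Co0 ⧸ Subgroup.center Co0) :=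
      { (inferInstance : Group (Co0 ⧸ Subgroup.center Co0)) with mul_comm := hcomm }
    have := @IsSimpleGroup.prime_card (Co0 ⧸ Subgroup.center Co0) _ hs
    rw [hcard] at this
    norm_num at this

/-- The multiplier of Co1 from the triviality of that of Co0. -/
theorem hasCyclic_of_closed
    (H : ∀ (Γ : Type) [Group Γ] [Finite Γ] (σ : Γ →* Co0), Function.Surjective σ →
      σ.ker ≤ Subgroup.center Γ → σ.ker ≤ commutator Γ → ∀ r : ℕ, r.Prime → ¬ r ∣ Nat.card σ.ker) :
    Cfsg.HasCyclicSchurMultiplier (Co0 ⧸ Subgroup.center Co0) 2 := by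
  have h2 : Nat.card (QuotientGroup.mk' (Subgroup.center Co0)).ker = 2 := by
    rw [QuotientGroup.ker_mk', card_center]
  have : Fact (Nat.Prime 2) := ⟨Nat.prime_two⟩
  have := isCyclic_of_prime_card h2
  refine SLCover.hasSchurMultiplier_of_closed _ (QuotientGroup.mk'_surjective _)
    (by rw [QuotientGroup.ker_mk']) commutator_Co0 ?_
    (A := Multiplicative (ZMod 2)) (mulEquivOfCyclicCardEq (by rw [h2, Nat.card_eq_fintype_card]; simp))
  intro E _ _ p hp hc hperf
  rw [← MonoidHom.ker_eq_bot_iff, ← Subgroup.card_eq_one]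
  by_contra hne
  obtain ⟨r, hr, hdvd⟩ := Nat.exists_prime_and_dvd hne
  exact H E p hp hc (hperf ▸ le_top) r hr hdvd

end CfsgLib.SchurCoOne
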