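import Cfsg.Agent.Lib.Schur.CoTwo.Check
import Cfsg.Agent.Lib.Leech.Order

/-!
Checks of Sylow certificates for central extensions of Co0.
-/

set_option autoImplicit false

namespace CfsgLib.SchurCoOne

open Cfsg CfsgLib CfsgLib.Leech CfsgLib.Leech.Stab CfsgLib.Leech.Aut CfsgLib.SchurLeech
open CfsgLib.Leech.Triangle CfsgLib.SchurCoTwo
open scoped Pointwise

/-- Check of one letter. -/
def letOK (m : Mat) : Bool := elB m.1 m.2 && colsB m.1

theorem card_G : Nat.card Co0 = 8315553613086720000 := Leech.card_Co0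

theorem not_mem_of_levOK {L : List (List ℕ)} (e : ℕ → Co0)
    (he : ∀ a < L.length, Valid (e a) (L.getD a idC)) {p k : ℕ} (hk : k < L.length) {v : Lev}
    (h : levOK L p k v = true) {i : ℕ} (hi0 : 0 < i) (hip : i < p) :
    e k ^ i ∉ Subgroup.closure {x | ∃ a < k, e a = x} := by
  simp only [levOK, Bool.and_eq_true, List.all_eq_true, List.any_eq_true, List.mem_range, Nat.beq_eq,
    Bool.or_eq_true, Bool.not_eq_true'] at h
  obtain ⟨⟨⟨⟨hb, hX⟩, hmem⟩, hinv⟩, hout⟩ := h
  obtain ⟨b, hbX, hbv⟩ := hmem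
  set S : Set leechLattice := {x | ∃ n ∈ v.2, lat n = x}
  have hSfin : S.Finite := (v.2.finite_toSet.image lat).subset fun x ⟨n, hn, hx⟩ => ⟨n, hn, hx⟩
  have hsub : Subgroup.closure {x | ∃ a < k, e a = x} ≤
      MulAction.stabilizer Co0 S := by
    rw [Subgroup.closure_le]
    rintro _ ⟨a, ha, rfl⟩
    show (e a) • S = S
    have h1 : (e a) • S ⊆ S := by
      rintro _ ⟨_, ⟨n, hn, rfl⟩, rfl⟩
      obtain ⟨hvb, y, hy, hye⟩ := hinv a ha n hn
      obtain ⟨hn1, hn2⟩ := rep_lat (hX n hn)
      obtain ⟨hy1, hy2⟩ := rep_lat (hX y hy)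
      have hr := rep_evalV e he hn1 [a] n hn2 hvb
      rw [hye] at hr
      simp only [SchurPath.wv, List.map_cons, List.map_nil, List.prod_cons, List.prod_nil, mul_one] at hr
      exact ⟨y, hy, (Subtype.ext (rep_inj hr hy2 (by rw [sqNorm_smul]; exact hn1) hy1)).symm⟩
    exact Set.eq_of_subset_of_ncard_le h1
      (Set.ncard_image_of_injective S (MulAction.injective (e a))).ge hSfin
  intro hc
  have hst : (e k ^ i) • S = S := hsub hc
  rcases hout i hip with h0 | ⟨hvb, hno⟩
  · omega
  obtain ⟨hb1, hb2⟩ := rep_lat hb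
  have hbS : lat v.1 ∈ S := ⟨b, hbX, by rw [hbv]⟩
  have : (e k ^ i) • lat v.1 ∈ S := by
    rw [← hst]; exact Set.smul_mem_smul_set hbS
  obtain ⟨y, hy, hye⟩ := this
  obtain ⟨hy1, hy2⟩ := rep_lat (hX y hy)
  have hr := rep_evalV e he hb1 (List.replicate i k) v.1 hb2 hvb
  rw [show SchurPath.wv e (List.replicate i k) = (e k ^ i) by
    simp [SchurPath.wv]] at hr
  rw [hye] at hy2
  have heq := rep_code hr hy2
  have : v.2.any (Nat.beq (evalV L (List.replicate i k) v.1)) = true :=
    List.any_eq_true.2 ⟨y, hy, Nat.beq_eq.symm ▸ heq⟩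
  rw [hno] at this
  exact Bool.noConfusion this

/-- The certificate at one prime, applied. -/
theorem not_dvd_of_data (M : List Mat) (V : List Lev) (C : SchurPath.Cert)
    {p : ℕ} [Fact p.Prime] (hC : C.check p = true) (hM : ∀ x ∈ M, letOK x = true) (hD : dataOK M C.rels V p C.m = true) {i : ℕ}
    (hNi : 8315553613086720000 = p ^ C.m * i) (hi : ¬ p ∣ i) {Γ : Type} [Group Γ] [Finite Γ]
    (σ : Γ →* Co0) (hσ : Function.Surjective σ) (hc : σ.ker ≤ Subgroup.center Γ)
    (hd : σ.ker ≤ commutator Γ) : ¬ p ∣ Nat.card σ.ker := by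
  classical
  have : Finite Co0 := Finite.of_surjective σ hσ
  simp only [dataOK, Bool.and_eq_true, Nat.ble_eq, List.all_eq_true, List.mem_range] at hD
  obtain ⟨⟨hR, hm⟩, hV⟩ := hD
  have hlen : (lettersC M).length = M.length := List.length_map _
  have hex : ∀ a, ∃ g : Co0, a < (lettersC M).length → Valid g ((lettersC M).getD a idC) := by
    intro a
    by_cases ha : a < M.length
    · have h := hM _ (List.getElem_mem ha)
      simp only [letOK, Bool.and_eq_true] at h
      obtain ⟨h1, h2⟩ := h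
      refine ⟨matEl h1, fun _ => ?_⟩
      have e : (lettersC M).getD a idC = colsOf (M[a]).1 := by
          rw [List.getD_eq_getElem _ _ (hlen.symm ▸ ha)]; simp [lettersC]
      rw [e]
      exact matEl_valid h1 h2
    · exact ⟨1, fun h => absurd (hlen ▸ h) ha⟩
  choose e he using hex
  refine SchurPath.not_dvd_card_ker_of_check C hC e ?_ ?_ card_G hNi hi σ hσ hc hd
  · intro r hr
    have h := hR _ (List.getElem_mem hr)
    simp only [relOK, Bool.and_eq_true] at h
    obtain ⟨⟨h1, h2⟩, h3⟩ := h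
    rw [List.getD_eq_getElem _ _ hr]
    exact eq_of_eqC (valid_evalC e he _ h1) (valid_evalC e he _ h2) h3
  · exact card_chain e p C.m
      (fun k hk i h0 h1 => not_mem_of_levOK e he (by rw [hlen]; omega) (hV k hk) h0 h1) C.m le_rfl

/-- The certificate at the prime 2, applied. -/
theorem not_dvd_of_maskData (M : List Mat) (V : List Lev) (C : SchurPath.Cert) (mus combs rows : List ℕ)
    (hC : SchurPath.maskCheck C mus combs rows = true) (hP : ∀ a ∈ rows, SchurPath.IsRow C.rels a) (hM : ∀ x ∈ M, letOK x = true) (hD : dataOK M C.rels V 2 C.m = true) {i : ℕ}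
    (hNi : 8315553613086720000 = 2 ^ C.m * i) (hi : ¬ 2 ∣ i) {Γ : Type} [Group Γ] [Finite Γ]
    (σ : Γ →* Co0) (hσ : Function.Surjective σ) (hc : σ.ker ≤ Subgroup.center Γ)
    (hd : σ.ker ≤ commutator Γ) : ¬ 2 ∣ Nat.card σ.ker := by
  classical
  have : Finite Co0 := Finite.of_surjective σ hσ
  simp only [dataOK, Bool.and_eq_true, Nat.ble_eq, List.all_eq_true, List.mem_range] at hD
  obtain ⟨⟨hR, hm⟩, hV⟩ := hD
  have hlen : (lettersC M).length = M.length := List.length_map _
  have hex : ∀ a, ∃ g : Co0, a < (lettersC M).length → Valid g ((lettersC M).getD a idC) := by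
    intro a
    by_cases ha : a < M.length
    · have h := hM _ (List.getElem_mem ha)
      simp only [letOK, Bool.and_eq_true] at h
      obtain ⟨h1, h2⟩ := h
      refine ⟨matEl h1, fun _ => ?_⟩
      have e : (lettersC M).getD a idC = colsOf (M[a]).1 := by
          rw [List.getD_eq_getElem _ _ (hlen.symm ▸ ha)]; simp [lettersC]
      rw [e]
      exact matEl_valid h1 h2
    · exact ⟨1, fun h => absurd (hlen ▸ h) ha⟩
  choose e he using hex
  refine SchurPath.not_dvd_card_ker_of_maskCheck C mus combs rows hC hP e ?_ ?_ card_G hNi hi σ hσ hc hd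
  · intro r hr
    have h := hR _ (List.getElem_mem hr)
    simp only [relOK, Bool.and_eq_true] at h
    obtain ⟨⟨h1, h2⟩, h3⟩ := h
    rw [List.getD_eq_getElem _ _ hr]
    exact eq_of_eqC (valid_evalC e he _ h1) (valid_evalC e he _ h2) h3
  · exact card_chain e 2 C.m
      (fun k hk i h0 h1 => not_mem_of_levOK e he (by rw [hlen]; omega) (hV k hk) h0 h1) C.m le_rfl

end CfsgLib.SchurCoOne
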