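import Cfsg.Agent.Lib.Schur.CoOne.Data2

/-! Kernel checks of lattice matrices. -/

set_option autoImplicit false
set_option maxRecDepth 100000

namespace CfsgLib.SchurCoOne.P2

theorem let8 : letOK (matA8, matT8) = true := by decide +kernel

theorem let9 : letOK (matA9, matT9) = true := by decide +kernel

theorem let10 : letOK (matA10, matT10) = true := by decide +kernel

theorem let11 : letOK (matA11, matT11) = true := by decide +kernel

end CfsgLib.SchurCoOne.P2
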