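import Cfsg.Agent.Lib.Schur.CoOne.Data2

/-! Kernel checks of lattice matrices. -/

set_option autoImplicit false
set_option maxRecDepth 100000

namespace CfsgLib.SchurCoOne.P2

theorem let24 : letOK (matA24, matT24) = true := by decide +kernel

theorem let25 : letOK (matA25, matT25) = true := by decide +kernel

theorem let26 : letOK (matA26, matT26) = true := by decide +kernel

theorem let27 : letOK (matA27, matT27) = true := by decide +kernel

end CfsgLib.SchurCoOne.P2
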