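import Cfsg.Agent.Lib.Schur.CoOne.Data2

/-! Kernel checks of closed paths. -/

set_option autoImplicit false
set_option maxRecDepth 100000

namespace CfsgLib.SchurCoOne.P2

theorem rows4_ok : CfsgLib.SchurCoTwo.rowsOK rels paths4 rows4 = true := by decide +kernel

theorem rows5_ok : CfsgLib.SchurCoTwo.rowsOK rels paths5 rows5 = true := by decide +kernel

theorem rows6_ok : CfsgLib.SchurCoTwo.rowsOK rels paths6 rows6 = true := by decide +kernel

theorem rows7_ok : CfsgLib.SchurCoTwo.rowsOK rels paths7 rows7 = true := by decide +kernel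

end CfsgLib.SchurCoOne.P2
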