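import Cfsg.Agent.Lib.Schur.CoOne.Data2

/-! Kernel checks of closed paths. -/

set_option autoImplicit false
set_option maxRecDepth 100000

namespace CfsgLib.SchurCoOne.P2

theorem rows16_ok : CfsgLib.SchurCoTwo.rowsOK rels paths16 rows16 = true := by decide +kernel

theorem rows17_ok : CfsgLib.SchurCoTwo.rowsOK rels paths17 rows17 = true := by decide +kernel

theorem rows18_ok : CfsgLib.SchurCoTwo.rowsOK rels paths18 rows18 = true := by decide +kernel

theorem rows19_ok : CfsgLib.SchurCoTwo.rowsOK rels paths19 rows19 = true := by decide +kernel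

end CfsgLib.SchurCoOne.P2
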