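import Cfsg.Agent.Lib.Schur.CoOne.Rows2_0
import Cfsg.Agent.Lib.Schur.CoOne.Rows2_1
import Cfsg.Agent.Lib.Schur.CoOne.Rows2_2
import Cfsg.Agent.Lib.Schur.CoOne.Rows2_3
import Cfsg.Agent.Lib.Schur.CoOne.Rows2_4
import Cfsg.Agent.Lib.Schur.CoOne.Letters2_0
import Cfsg.Agent.Lib.Schur.CoOne.Letters2_1
import Cfsg.Agent.Lib.Schur.CoOne.Letters2_2
import Cfsg.Agent.Lib.Schur.CoOne.Letters2_3
import Cfsg.Agent.Lib.Schur.CoOne.Letters2_4
import Cfsg.Agent.Lib.Schur.CoOne.Letters2_5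
import Cfsg.Agent.Lib.Schur.CoOne.Letters2_6

/-! Kernel checks at the prime 2. -/

set_option autoImplicit false
set_option maxRecDepth 100000

namespace CfsgLib.SchurCoOne.P2

theorem check_ok : CfsgLib.SchurPath.maskCheck cert mus combs rowsAll = true := by decide +kernel

theorem data_ok : CfsgLib.SchurCoTwo.dataOK mats cert.rels levels 2 cert.m = true := by decide +kernel

theorem lets_ok : ∀ x ∈ mats, letOK x = true := by
  simp only [mats, List.forall_mem_cons, List.not_mem_nil, IsEmpty.forall_iff, implies_true, and_true]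
  exact ⟨let0, let1, let2, let3, let4, let5, let6, let7, let8, let9, let10, let11, let12, let13, let14, let15, let16, let17, let18, let19, let20, let21, let22, let23, let24, let25, let26, let27⟩

theorem rows_ok : ∀ a ∈ rowsAll, CfsgLib.SchurPath.IsRow cert.rels a := by
  intro a ha
  simp only [rowsAll, List.mem_append] at ha
  rcases ha with (((((((((((((((((((h | h) | h) | h) | h) | h) | h) | h) | h) | h) | h) | h) | h) | h) | h) | h) | h) | h) | h) | h)
  · exact CfsgLib.SchurCoTwo.isRow_of_rowsOK rels _ _ rows0_ok a h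
  · exact CfsgLib.SchurCoTwo.isRow_of_rowsOK rels _ _ rows1_ok a h
  · exact CfsgLib.SchurCoTwo.isRow_of_rowsOK rels _ _ rows2_ok a h
  · exact CfsgLib.SchurCoTwo.isRow_of_rowsOK rels _ _ rows3_ok a h
  · exact CfsgLib.SchurCoTwo.isRow_of_rowsOK rels _ _ rows4_ok a h
  · exact CfsgLib.SchurCoTwo.isRow_of_rowsOK rels _ _ rows5_ok a h
  · exact CfsgLib.SchurCoTwo.isRow_of_rowsOK rels _ _ rows6_ok a h
  · exact CfsgLib.SchurCoTwo.isRow_of_rowsOK rels _ _ rows7_ok a h
  · exact CfsgLib.SchurCoTwo.isRow_of_rowsOK rels _ _ rows8_ok a h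
  · exact CfsgLib.SchurCoTwo.isRow_of_rowsOK rels _ _ rows9_ok a h
  · exact CfsgLib.SchurCoTwo.isRow_of_rowsOK rels _ _ rows10_ok a h
  · exact CfsgLib.SchurCoTwo.isRow_of_rowsOK rels _ _ rows11_ok a h
  · exact CfsgLib.SchurCoTwo.isRow_of_rowsOK rels _ _ rows12_ok a h
  · exact CfsgLib.SchurCoTwo.isRow_of_rowsOK rels _ _ rows13_ok a h
  · exact CfsgLib.SchurCoTwo.isRow_of_rowsOK rels _ _ rows14_ok a h
  · exact CfsgLib.SchurCoTwo.isRow_of_rowsOK rels _ _ rows15_ok a h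
  · exact CfsgLib.SchurCoTwo.isRow_of_rowsOK rels _ _ rows16_ok a h
  · exact CfsgLib.SchurCoTwo.isRow_of_rowsOK rels _ _ rows17_ok a h
  · exact CfsgLib.SchurCoTwo.isRow_of_rowsOK rels _ _ rows18_ok a h
  · exact CfsgLib.SchurCoTwo.isRow_of_rowsOK rels _ _ rows19_ok a h

end CfsgLib.SchurCoOne.P2
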