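import Cfsg.Agent.Lib.Schur.CoOne.Data3

/-! Kernel checks of lattice matrices. -/

set_option autoImplicit false
set_option maxRecDepth 100000

namespace CfsgLib.SchurCoOne.P3

theorem let4 : letOK (matA4, matT4) = true := by decide +kernel

theorem let5 : letOK (matA5, matT5) = true := by decide +kernel

theorem let6 : letOK (matA6, matT6) = true := by decide +kernel

theorem let7 : letOK (matA7, matT7) = true := by decide +kernel

end CfsgLib.SchurCoOne.P3
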