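import Cfsg.Agent.Lib.Schur.CoOne.Letters7_0

/-! Kernel checks at the prime 7. -/

set_option autoImplicit false
set_option maxRecDepth 100000

namespace CfsgLib.SchurCoOne.P7

theorem check_ok : cert.check 7 = true := by decide +kernel

theorem data_ok : CfsgLib.SchurCoTwo.dataOK mats cert.rels levels 7 cert.m = true := by decide +kernel

theorem lets_ok : ∀ x ∈ mats, letOK x = true := by
  simp only [mats, List.forall_mem_cons, List.not_mem_nil, IsEmpty.forall_iff, implies_true, and_true]
  exact ⟨let0, let1, let2, let3⟩

end CfsgLib.SchurCoOne.P7
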