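import Cfsg.Agent.Lib.Schur.CoOne.Check

/-! Generated certificate for the splitting over a Sylow 3-subgroup of Co0. -/

set_option autoImplicit false
set_option linter.all false
set_option maxRecDepth 100000

namespace CfsgLib.SchurCoOne.P3

open CfsgLib.SchurPath (Rels)
open CfsgLib.SchurCoTwo (Mat Lev expandAll)

def matA0 : List (List ℤ) := [[8, 0, 0, 0, 0, 0, 0, 0, 0, 0, 0, 0, 0, 0, 0, 0, 0, 0, 0, 0, 0, 0, 0, 0], [0, 0, 0, 0, 0, 0, 0, 0, 0, 0, 0, 8, 0, 0, 0, 0, 0, 0, 0, 0, 0, 0, 0, 0], [0, 0, 0, 0, 0, 0, 0, 0, 0, 8, 0, 0, 0, 0, 0, 0, 0, 0, 0, 0, 0, 0, 0, 0], [0, 0, 0, 8, 0, 0, 0, 0, 0, 0, 0, 0, 0, 0, 0, 0, 0, 0, 0, 0, 0, 0, 0, 0], [0, 8, 0, 0, 0, 0, 0, 0, 0, 0, 0, 0, 0, 0, 0, 0, 0, 0, 0, 0, 0, 0,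 0, 0], [0, 0, 0, 0, 0, 0, 0, 0, 0, 0, 0, 0, 8, 0, 0, 0, 0, 0, 0, 0, 0, 0, 0, 0], [0, 0, 0, 0, 0, 0, 0, 0, 0, 0, 0, 0, 0, 0, 0, 0, 0, 8, 0, 0, 0, 0, 0, 0], [0, 0, 8, 0, 0, 0, 0, 0, 0, 0, 0, 0, 0, 0, 0, 0, 0, 0, 0, 0, 0, 0, 0, 0], [0, 0, 0, 0, 0, 0, 0, 0, 0, 0, 0, 0, 0, 0, 0, 0, 0, 0, 8, 0, 0, 0, 0, 0], [0, 0, 0, 0, 0, 0, 0, 8, 0, 0, 0, 0, 0, 0, 0, 0, 0, 0, 0, 0, 0, 0, 0, 0], [0, 0, 0, 0, 0, 0, 8, 0, 0, 0, 0, 0, 0, 0, 0, 0, 0, 0, 0, 0, 0, 0, 0, 0], [0, 0, 0, 0, 8, 0, 0, 0, 0, 0, 0, 0, 0, 0, 0, 0, 0, 0, 0, 0, 0, 0, 0, 0], [0, 0, 0, 0, 0, 0, 0, 0, 0, 0, 0, 0, 0, 0, 0, 0, 0, 0, 0, 0, 0, 0, 8, 0], [0, 0, 0, 0, 0, 0, 0, 0, 0, 0, 0, 0, 0, 0, 0, 0, 0, 0, 0, 0, 0, 8, 0, 0], [0, 0, 0, 0, 0, 0, 0, 0, 0, 0, 0, 0,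 0, 0, 8, 0, 0, 0, 0, 0, 0, 0, 0, 0], [0, 0, 0, 0, 0, 0, 0, 0, 8, 0, 0, 0, 0, 0, 0, 0, 0, 0, 0, 0, 0, 0, 0, 0], [0, 0, 0, 0, 0, 0, 0, 0, 0, 0, 0, 0, 0, 8, 0, 0, 0, 0, 0, 0, 0, 0, 0, 0], [0, 0, 0, 0, 0, 0, 0, 0, 0, 0, 8, 0, 0, 0, 0, 0, 0, 0, 0, 0, 0, 0, 0, 0], [0, 0, 0, 0, 0, 0, 0, 0, 0, 0, 0, 0, 0, 0, 0, 8, 0, 0, 0, 0, 0, 0, 0, 0], [0, 0, 0, 0, 0, 0, 0, 0, 0, 0, 0, 0, 0, 0, 0, 0, 0, 0, 0, 8, 0, 0, 0, 0], [0, 0, 0, 0, 0, 0, 0, 0, 0, 0, 0, 0, 0, 0, 0, 0, 0, 0, 0, 0, 8, 0, 0, 0], [0, 0, 0, 0, 0, 0, 0, 0, 0, 0, 0, 0, 0, 0, 0, 0, 8, 0, 0, 0, 0, 0, 0, 0], [0, 0, 0, 0, 0, 8, 0, 0, 0, 0, 0, 0, 0, 0, 0, 0, 0, 0, 0, 0, 0, 0, 0, 0], [0, 0, 0, 0, 0, 0, 0, 0, 0, 0, 0, 0, 0, 0, 0, 0, 0, 0, 0, 0, 0, 0, 0, 8]]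

def matT0 : List (List ℤ) := [[8, 0, 0, 0, 0, 0, 0, 0, 0, 0, 0, 0, 0, 0, 0, 0, 0, 0, 0, 0, 0, 0, 0, 0], [0, 0, 0, 0, 8, 0, 0, 0, 0, 0, 0, 0, 0, 0, 0, 0, 0, 0, 0, 0, 0, 0, 0, 0], [0, 0, 0, 0, 0, 0, 0, 8, 0, 0, 0, 0, 0, 0, 0, 0, 0, 0, 0, 0, 0, 0, 0, 0], [0, 0, 0, 8, 0, 0, 0, 0, 0, 0, 0, 0, 0, 0, 0, 0, 0, 0, 0, 0, 0, 0, 0, 0], [0, 0, 0, 0, 0, 0, 0, 0, 0, 0, 0, 8, 0, 0, 0, 0, 0, 0, 0, 0, 0, 0, 0, 0], [0, 0, 0, 0, 0, 0, 0, 0, 0, 0, 0, 0, 0, 0, 0, 0, 0, 0, 0, 0, 0, 0, 8, 0], [0, 0, 0, 0, 0, 0, 0, 0, 0, 0, 8, 0, 0, 0, 0, 0, 0, 0, 0, 0, 0, 0, 0, 0], [0, 0, 0, 0, 0, 0, 0, 0, 0, 8, 0, 0, 0, 0, 0, 0, 0, 0, 0, 0, 0, 0, 0, 0], [0, 0, 0, 0, 0, 0, 0, 0, 0, 0, 0, 0, 0, 0, 0, 8, 0, 0, 0, 0, 0, 0, 0, 0], [0, 0, 8, 0,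 0, 0, 0, 0, 0, 0, 0, 0, 0, 0, 0, 0, 0, 0, 0, 0, 0, 0, 0, 0], [0, 0, 0, 0, 0, 0, 0, 0, 0, 0, 0, 0, 0, 0, 0, 0, 0, 8, 0, 0, 0, 0, 0, 0], [0, 8, 0, 0, 0, 0, 0, 0, 0, 0, 0, 0, 0, 0, 0, 0, 0, 0, 0, 0, 0, 0, 0, 0], [0, 0, 0, 0, 0, 8, 0, 0, 0, 0, 0, 0, 0, 0, 0, 0, 0, 0, 0, 0, 0, 0, 0, 0], [0, 0, 0, 0, 0, 0, 0, 0, 0, 0, 0, 0, 0, 0, 0, 0, 8, 0, 0, 0, 0, 0, 0, 0], [0, 0, 0, 0, 0, 0, 0, 0, 0, 0, 0, 0, 0, 0, 8, 0, 0, 0, 0, 0, 0, 0, 0, 0], [0, 0, 0, 0, 0, 0, 0, 0, 0, 0, 0, 0, 0, 0, 0, 0, 0, 0, 8, 0, 0, 0, 0, 0], [0, 0, 0, 0, 0, 0, 0, 0, 0, 0, 0, 0, 0, 0, 0, 0, 0, 0, 0, 0, 0, 8, 0, 0], [0, 0, 0, 0, 0, 0, 8, 0, 0, 0, 0, 0, 0, 0, 0, 0, 0, 0, 0, 0, 0, 0, 0, 0], [0, 0, 0, 0, 0, 0, 0, 0, 8, 0, 0, 0, 0, 0, 0, 0, 0, 0,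 0, 0, 0, 0, 0, 0], [0, 0, 0, 0, 0, 0, 0, 0, 0, 0, 0, 0, 0, 0, 0, 0, 0, 0, 0, 8, 0, 0, 0, 0], [0, 0, 0, 0, 0, 0, 0, 0, 0, 0, 0, 0, 0, 0, 0, 0, 0, 0, 0, 0, 8, 0, 0, 0], [0, 0, 0, 0, 0, 0, 0, 0, 0, 0, 0, 0, 0, 8, 0, 0, 0, 0, 0, 0, 0, 0, 0, 0], [0, 0, 0, 0, 0, 0, 0, 0, 0, 0, 0, 0, 8, 0, 0, 0, 0, 0, 0, 0, 0, 0, 0, 0], [0, 0, 0, 0, 0, 0, 0, 0, 0, 0, 0, 0, 0, 0, 0, 0, 0, 0, 0, 0, 0, 0, 0, 8]]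

def matA1 : List (List ℤ) := [[6, 0, 0, 2, 0, 0, 0, 0, -2, 0, 0, 0, 0, 0, -2, -2, 0, 0, -2, 0, -2, 0, 0, 2], [0, 2, 2, 0, 2, -2, 2, 2, 0, -2, 2, 2, -2, 2, 0, 0, -2, -2, 0, 2, 0, -2, 2, 0], [0, 2, 2, 0, -2, 2, -2, 2, 0, 2, -2, 2, -2, 2, 0, 0, 2, 2, 0, -2, 0, -2, 2, 0], [-2, 0, 0, 2, 0, 0, 0, 0, -2, 0, 0, 0, 0, 0, -2, -2, 0, 0, -2, 0, 6, 0, 0, 2], [0, 2, -2, 0, 2, -2, -2, 2, 0, 2, 2, 2, 2, -2, 0, 0, 2, 2, 0, 2, 0, -2, -2, 0], [0, -2, 2, 0, -2, 2, 2, -2, 0, 2, 2, 2, 2, -2, 0, 0, 2, -2, 0, 2, 0, -2, 2, 0], [0, -2, 2, 0, 2, -2, -2, -2, 0, 2, 2, -2, -2, 2, 0, 0, 2, 2, 0, 2, 0, 2, 2, 0], [0, 2, 2, 0, 2, -2, 2, 2, 0, 2, -2, -2, 2, -2, 0, 0, 2, -2, 0, -2, 0, 2, 2, 0], [-2, 0, 0, 2, 0, 0, 0, 0, 6, 0, 0, 0, 0,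 0, -2, -2, 0, 0, -2, 0, -2, 0, 0, 2], [0, -2, 2, 0, 2, 2, -2, 2, 0, 2, 2, 2, 2, 2, 0, 0, -2, -2, 0, -2, 0, 2, -2, 0], [0, -2, 2, 0, -2, -2, 2, 2, 0, -2, -2, 2, 2, 2, 0, 0, 2, 2, 0, 2, 0, 2, -2, 0], [0, 2, 2, 0, 2, 2, 2, -2, 0, 2, -2, 2, -2, -2, 0, 0, -2, 2, 0, 2, 0, 2, -2, 0], [0, -2, -2, 0, 2, 2, 2, 2, 0, 2, -2, -2, 2, 2, 0, 0, -2, 2, 0, 2, 0, -2, 2, 0], [0, -2, -2, 0, 2, 2, 2, 2, 0, -2, 2, 2, -2, -2, 0, 0, 2, 2, 0, -2, 0, 2, 2, 0], [-2, 0, 0, 2, 0, 0, 0, 0, -2, 0, 0, 0, 0, 0, 6, -2, 0, 0, -2, 0, -2, 0, 0, 2], [-2, 0, 0, 2, 0, 0, 0, 0, -2, 0, 0, 0, 0, 0, -2, 6, 0, 0, -2, 0, -2, 0, 0, 2], [0, 2, -2, 0, -2, -2, 2, -2, 0, 2, 2, 2, 2, 2, 0, 0, -2, 2, 0, -2, 0, 2, 2, 0], [0, 2, -2, 0, -2, 2, 2, 2, 0, 2,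 2, -2, -2, 2, 0, 0, 2, -2, 0, 2, 0, 2, -2, 0], [-2, 0, 0, 2, 0, 0, 0, 0, -2, 0, 0, 0, 0, 0, -2, -2, 0, 0, 6, 0, -2, 0, 0, 2], [0, 2, -2, 0, 2, 2, -2, -2, 0, -2, -2, 2, 2, 2, 0, 0, 2, -2, 0, 2, 0, 2, 2, 0], [2, 0, 0, 6, 0, 0, 0, 0, 2, 0, 0, 0, 0, 0, 2, 2, 0, 0, 2, 0, 2, 0, 0, -2], [0, 2, 2, 0, 2, 2, 2, -2, 0, -2, 2, -2, 2, 2, 0, 0, 2, 2, 0, -2, 0, -2, -2, 0], [0, 2, 2, 0, -2, 2, -2, 2, 0, -2, 2, -2, 2, -2, 0, 0, -2, 2, 0, 2, 0, 2, 2, 0], [2, 0, 0, -2, 0, 0, 0, 0, 2, 0, 0, 0, 0, 0, 2, 2, 0, 0, 2, 0, 2, 0, 0, 6]]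

def matT1 : List (List ℤ) := [[6, 0, 0, -2, 0, 0, 0, 0, -2, 0, 0, 0, 0, 0, -2, -2, 0, 0, -2, 0, 2, 0, 0, 2], [0, 2, 2, 0, 2, -2, -2, 2, 0, -2, -2, 2, -2, -2, 0, 0, 2, 2, 0, 2, 0, 2, 2, 0], [0, 2, 2, 0, -2, 2, 2, 2, 0, 2, 2, 2, -2, -2, 0, 0, -2, -2, 0, -2, 0, 2, 2, 0], [2, 0, 0, 2, 0, 0, 0, 0, 2, 0, 0, 0, 0, 0, 2, 2, 0, 0, 2, 0, 6, 0, 0, -2], [0, 2, -2, 0, 2, -2, 2, 2, 0, 2, -2, 2, 2, 2, 0, 0, -2, -2, 0, 2, 0, 2, -2, 0], [0, -2, 2, 0, -2, 2, -2, -2, 0, 2, -2, 2, 2, 2, 0, 0, -2, 2, 0, 2, 0, 2, 2, 0], [0, 2, -2, 0, -2, 2, -2, 2, 0, -2, 2, 2, 2, 2, 0, 0, 2, 2, 0, -2, 0, 2, -2, 0], [0, 2, 2, 0, 2, -2, -2, 2, 0, 2, 2, -2, 2, 2, 0, 0, -2, 2, 0, -2, 0, -2, 2, 0], [-2, 0, 0, -2, 0, 0, 0, 0, 6, 0, 0, 0, 0, 0,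 -2, -2, 0, 0, -2, 0, 2, 0, 0, 2], [0, -2, 2, 0, 2, 2, 2, 2, 0, 2, -2, 2, 2, -2, 0, 0, 2, 2, 0, -2, 0, -2, -2, 0], [0, 2, -2, 0, 2, 2, 2, -2, 0, 2, -2, -2, -2, 2, 0, 0, 2, 2, 0, -2, 0, 2, 2, 0], [0, 2, 2, 0, 2, 2, -2, -2, 0, 2, 2, 2, -2, 2, 0, 0, 2, -2, 0, 2, 0, -2, -2, 0], [0, -2, -2, 0, 2, 2, -2, 2, 0, 2, 2, -2, 2, -2, 0, 0, 2, -2, 0, 2, 0, 2, 2, 0], [0, 2, 2, 0, -2, -2, 2, -2, 0, 2, 2, -2, 2, -2, 0, 0, 2, 2, 0, 2, 0, 2, -2, 0], [-2, 0, 0, -2, 0, 0, 0, 0, -2, 0, 0, 0, 0, 0, 6, -2, 0, 0, -2, 0, 2, 0, 0, 2], [-2, 0, 0, -2, 0, 0, 0, 0, -2, 0, 0, 0, 0, 0, -2, 6, 0, 0, -2, 0, 2, 0, 0, 2], [0, -2, 2, 0, 2, 2, 2, 2, 0, -2, 2, -2, -2, 2, 0, 0, -2, 2, 0, 2, 0, 2, -2, 0], [0, -2, 2, 0, 2, -2, 2, -2, 0, -2, 2,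 2, 2, 2, 0, 0, 2, -2, 0, -2, 0, 2, 2, 0], [-2, 0, 0, -2, 0, 0, 0, 0, -2, 0, 0, 0, 0, 0, -2, -2, 0, 0, 6, 0, 2, 0, 0, 2], [0, 2, -2, 0, 2, 2, 2, -2, 0, -2, 2, 2, 2, -2, 0, 0, -2, 2, 0, 2, 0, -2, 2, 0], [-2, 0, 0, 6, 0, 0, 0, 0, -2, 0, 0, 0, 0, 0, -2, -2, 0, 0, -2, 0, 2, 0, 0, 2], [0, -2, -2, 0, -2, -2, 2, 2, 0, 2, 2, 2, -2, 2, 0, 0, 2, 2, 0, 2, 0, -2, 2, 0], [0, 2, 2, 0, -2, 2, 2, 2, 0, -2, -2, -2, 2, 2, 0, 0, 2, -2, 0, 2, 0, -2, 2, 0], [2, 0, 0, 2, 0, 0, 0, 0, 2, 0, 0, 0, 0, 0, 2, 2, 0, 0, 2, 0, -2, 0, 0, 6]]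

def matA2 : List (List ℤ) := [[5, -1, 1, 1, -1, -1, -1, 1, -1, 1, -1, -1, -1, -1, -3, -1, -1, -1, -1, 1, 1, -1, -1, 3], [1, -1, 1, 1, 3, -1, -1, 1, 3, 1, -1, 3, -1, 3, 1, -1, -1, 3, -1, 1, 1, -1, -1, -1], [-1, 1, -1, -1, 1, 1, 1, 3, 1, 3, 1, 1, 1, 1, -1, -3, 1, -3, 1, -1, -1, -3, 1, 1], [-1, 1, -1, -1, 1, 1, -3, -1, 1, -1, -3, 1, 1, 1, -1, 1, 1, -3, 1, 3, 3, 1, 1, 1], [1, 3, 1, 1, -1, -1, 3, 1, -1, 1, -1, 3, -1, -1, 1, 3, 3, -1, -1, 1, 1, -1, -1, -1], [1, -1, 1, 1, -1, -1, -1, 1, -1, 1, -1, -1, 3, -1, 1, -1, 3, 3, 3, 1, 1, -1, 3, -1], [-1, 1, -1, 3, -3, 1, -3, 3, 1, -1, 1, 1, 1, 1, -1, 1, 1, 1, 1, -1, -1, 1, -3, 1], [-1, 1, 3, -1, 1, 1, -3, -1, 1, 3, 1, 1, 1, -3, -1, 1, 1, 1, -3, -1, -1, 1, 1, 1],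 [-1, -3, -1, -1, 1, 1, 1, -1, -3, 3, 1, 1, 1, 1, -1, 1, 1, 1, 1, 3, -1, 1, -3, 1], [-1, 1, 3, -1, 1, 1, 1, 3, -3, -1, -3, 1, 1, 1, -1, 1, -3, 1, 1, -1, -1, 1, 1, 1], [-1, 1, -1, 3, 1, 1, 1, -1, 1, 3, -3, -3, -3, 1, -1, 1, 1, 1, 1, -1, -1, 1, 1, 1], [1, 3, 1, 1, 3, -1, -1, 1, -1, 1, 3, -1, -1, -1, 1, -1, -1, -1, 3, 1, 1, 3, -1, -1], [1, -1, 1, 1, -1, 3, -1, 1, -1, 1, 3, -1, -1, 3, 1, 3, -1, -1, -1, 1, 1, -1, 3, -1], [-1, -3, -1, -1, 1, 1, 1, 3, 1, -1, 1, 1, -3, -3, -1, 1, 1, 1, 1, -1, 3, 1, 1, 1], [-3, -1, 1, 1, -1, -1, -1, 1, -1, 1, -1, -1, -1, -1, 5, -1, -1, -1, -1, 1, 1, -1, -1, 3], [-1, 1, 3, -1, -3, 1, 1, -1, 1, -1, 1, 1, -3, 1, -1, -3, 1, 1, 1, 3, -1, 1, 1, 1], [-1, 1, -1, -1, -3, -3, 1, -1, 1,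 3, 1, 1, 1, 1, -1, 1, -3, 1, 1, -1, 3, 1, 1, 1], [-1, -3, 3, 3, 1, -3, 1, -1, 1, -1, 1, 1, 1, 1, -1, 1, 1, -3, 1, -1, -1, 1, 1, 1], [-1, 1, -1, -1, 1, -3, 1, 3, 1, -1, 1, -3, 1, 1, -1, 1, 1, 1, -3, 3, -1, 1, 1, 1], [-1, 1, -1, 3, 1, 1, 1, -1, -3, -1, 1, 1, 1, 1, -1, -3, 1, 1, -3, -1, 3, 1, 1, 1], [-1, 1, -1, 3, 1, 1, 1, -1, 1, -1, 1, 1, 1, -3, -1, 1, -3, 1, 1, 3, -1, -3, 1, 1], [-1, 1, 3, -1, 1, 1, 1, -1, 1, -1, 1, -3, 1, 1, -1, 1, 1, 1, 1, -1, 3, -3, -3, 1], [1, -1, 1, 1, -1, 3, 3, 1, 3, 1, -1, -1, 3, -1, 1, -1, -1, -1, -1, 1, 1, 3, -1, -1], [3, 1, -1, -1, 1, 1, 1, -1, 1, -1, 1, 1, 1, 1, 3, 1, 1, 1, 1, -1, -1, 1, 1, 5]]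

def matT2 : List (List ℤ) := [[5, 1, -1, -1, 1, 1, -1, -1, -1, -1, -1, 1, 1, -1, -3, -1, -1, -1, -1, -1, -1, -1, 1, 3], [-1, -1, 1, 1, 3, -1, 1, 1, -3, 1, 1, 3, -1, -3, -1, 1, 1, -3, 1, 1, 1, 1, -1, 1], [1, 1, -1, -1, 1, 1, -1, 3, -1, 3, -1, 1, 1, -1, 1, 3, -1, 3, -1, -1, -1, 3, 1, -1], [1, 1, -1, -1, 1, 1, 3, -1, -1, -1, 3, 1, 1, -1, 1, -1, -1, 3, -1, 3, 3, -1, 1, -1], [-1, 3, 1, 1, -1, -1, -3, 1, 1, 1, 1, 3, -1, 1, -1, -3, -3, 1, 1, 1, 1, 1, -1, 1], [-1, -1, 1, 1, -1, -1, 1, 1, 1, 1, 1, -1, 3, 1, -1, 1, -3, -3, -3, 1, 1, 1, 3, 1], [-1, -1, 1, -3, 3, -1, -3, -3, 1, 1, 1, -1, -1, 1, -1, 1, 1, 1, 1, 1, 1, 1, 3, 1], [1, 1, 3, -1, 1, 1, 3, -1, -1, 3, -1, 1, 1, 3, 1, -1, -1, -1, 3, -1, -1, -1, 1, -1],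 [-1, 3, 1, 1, -1, -1, 1, 1, -3, -3, 1, -1, -1, 1, -1, 1, 1, 1, 1, -3, 1, 1, 3, 1], [1, 1, 3, -1, 1, 1, -1, 3, 3, -1, 3, 1, 1, -1, 1, -1, 3, -1, -1, -1, -1, -1, 1, -1], [-1, -1, 1, -3, -1, -1, 1, 1, 1, -3, -3, 3, 3, 1, -1, 1, 1, 1, 1, 1, 1, 1, -1, 1], [-1, 3, 1, 1, 3, -1, 1, 1, 1, 1, -3, -1, -1, 1, -1, 1, 1, 1, -3, 1, 1, -3, -1, 1], [-1, -1, 1, 1, -1, 3, 1, 1, 1, 1, -3, -1, -1, -3, -1, -3, 1, 1, 1, 1, 1, 1, 3, 1], [-1, 3, 1, 1, -1, -1, 1, -3, 1, 1, 1, -1, 3, -3, -1, 1, 1, 1, 1, 1, -3, 1, -1, 1], [-3, 1, -1, -1, 1, 1, -1, -1, -1, -1, -1, 1, 1, -1, 5, -1, -1, -1, -1, -1, -1, -1, 1, 3], [-1, -1, -3, 1, 3, -1, 1, 1, 1, 1, 1, -1, 3, 1, -1, -3, 1, 1, 1, -3, 1, 1, -1, 1], [-1, -1, 1, 1, 3, 3, 1, 1, 1, -3, 1,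 -1, -1, 1, -1, 1, -3, 1, 1, 1, -3, 1, -1, 1], [-1, 3, -3, -3, -1, 3, 1, 1, 1, 1, 1, -1, -1, 1, -1, 1, 1, -3, 1, 1, 1, 1, -1, 1], [-1, -1, 1, 1, -1, 3, 1, -3, 1, 1, 1, 3, -1, 1, -1, 1, 1, 1, -3, -3, 1, 1, -1, 1], [1, 1, -1, 3, 1, 1, -1, -1, 3, -1, -1, 1, 1, -1, 1, 3, -1, -1, 3, -1, 3, -1, 1, -1], [1, 1, -1, 3, 1, 1, -1, -1, -1, -1, -1, 1, 1, 3, 1, -1, 3, -1, -1, 3, -1, 3, 1, -1], [-1, -1, -3, 1, -1, -1, 1, 1, 1, 1, 1, 3, -1, 1, -1, 1, 1, 1, 1, 1, -3, -3, 3, 1], [-1, -1, 1, 1, -1, 3, -3, 1, -3, 1, 1, -1, 3, 1, -1, 1, 1, 1, 1, 1, 1, -3, -1, 1], [3, -1, 1, 1, -1, -1, 1, 1, 1, 1, 1, -1, -1, 1, 3, 1, 1, 1, 1, 1, 1, 1, -1, 5]]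

def matA3 : List (List ℤ) := [[6, 0, 0, 2, 0, 0, 0, 0, -2, 0, 0, 0, 0, 0, -2, -2, 0, 0, -2, 0, -2, 0, 0, 2], [0, 2, -2, 0, 2, -2, -2, 2, 0, 2, 2, 2, 2, -2, 0, 0, 2, 2, 0, 2, 0, -2, -2, 0], [0, -2, 2, 0, 2, 2, -2, 2, 0, 2, 2, 2, 2, 2, 0, 0, -2, -2, 0, -2, 0, 2, -2, 0], [2, 0, 0, 6, 0, 0, 0, 0, 2, 0, 0, 0, 0, 0, 2, 2, 0, 0, 2, 0, 2, 0, 0, -2], [0, 2, 2, 0, 2, 2, 2, -2, 0, 2, -2, 2, -2, -2, 0, 0, -2, 2, 0, 2, 0, 2, -2, 0], [0, -2, 2, 0, -2, 2, 2, -2, 0, 2, 2, 2, 2, -2, 0, 0, 2, -2, 0, 2, 0, -2, 2, 0], [0, 2, 2, 0, 2, 2, 2, -2, 0, -2, 2, -2, 2, 2, 0, 0, 2, 2, 0, -2, 0, -2, -2, 0], [0, 2, 2, 0, -2, 2, -2, 2, 0, 2, -2, 2, -2, 2, 0, 0, 2, 2, 0, -2, 0, -2, 2, 0], [0, -2, 2, 0, 2, -2, -2, -2, 0, 2, 2, -2, -2,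 2, 0, 0, 2, 2, 0, 2, 0, 2, 2, 0], [0, 2, 2, 0, 2, -2, 2, 2, 0, 2, -2, -2, 2, -2, 0, 0, 2, -2, 0, -2, 0, 2, 2, 0], [0, -2, -2, 0, 2, 2, 2, 2, 0, -2, 2, 2, -2, -2, 0, 0, 2, 2, 0, -2, 0, 2, 2, 0], [0, 2, 2, 0, 2, -2, 2, 2, 0, -2, 2, 2, -2, 2, 0, 0, -2, -2, 0, 2, 0, -2, 2, 0], [0, -2, -2, 0, 2, 2, 2, 2, 0, 2, -2, -2, 2, 2, 0, 0, -2, 2, 0, 2, 0, -2, 2, 0], [-2, 0, 0, 2, 0, 0, 0, 0, -2, 0, 0, 0, 0, 0, -2, 6, 0, 0, -2, 0, -2, 0, 0, 2], [-2, 0, 0, 2, 0, 0, 0, 0, -2, 0, 0, 0, 0, 0, 6, -2, 0, 0, -2, 0, -2, 0, 0, 2], [0, -2, 2, 0, -2, -2, 2, 2, 0, -2, -2, 2, 2, 2, 0, 0, 2, 2, 0, 2, 0, 2, -2, 0], [-2, 0, 0, 2, 0, 0, 0, 0, -2, 0, 0, 0, 0, 0, -2, -2, 0, 0, 6, 0, -2, 0, 0, 2], [0, 2, -2, 0, -2, -2, 2, -2, 0, 2, 2,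 2, 2, 2, 0, 0, -2, 2, 0, -2, 0, 2, 2, 0], [0, 2, -2, 0, -2, 2, 2, 2, 0, 2, 2, -2, -2, 2, 0, 0, 2, -2, 0, 2, 0, 2, -2, 0], [-2, 0, 0, 2, 0, 0, 0, 0, -2, 0, 0, 0, 0, 0, -2, -2, 0, 0, -2, 0, 6, 0, 0, 2], [0, 2, -2, 0, 2, 2, -2, -2, 0, -2, -2, 2, 2, 2, 0, 0, 2, -2, 0, 2, 0, 2, 2, 0], [-2, 0, 0, 2, 0, 0, 0, 0, 6, 0, 0, 0, 0, 0, -2, -2, 0, 0, -2, 0, -2, 0, 0, 2], [0, 2, 2, 0, -2, 2, -2, 2, 0, -2, 2, -2, 2, -2, 0, 0, -2, 2, 0, 2, 0, 2, 2, 0], [2, 0, 0, -2, 0, 0, 0, 0, 2, 0, 0, 0, 0, 0, 2, 2, 0, 0, 2, 0, 2, 0, 0, 6]]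

def matT3 : List (List ℤ) := [[6, 0, 0, 2, 0, 0, 0, 0, 0, 0, 0, 0, 0, -2, -2, 0, -2, 0, 0, -2, 0, -2, 0, 2], [0, 2, -2, 0, 2, -2, 2, 2, -2, 2, -2, 2, -2, 0, 0, -2, 0, 2, 2, 0, 2, 0, 2, 0], [0, -2, 2, 0, 2, 2, 2, 2, 2, 2, -2, 2, -2, 0, 0, 2, 0, -2, -2, 0, -2, 0, 2, 0], [2, 0, 0, 6, 0, 0, 0, 0, 0, 0, 0, 0, 0, 2, 2, 0, 2, 0, 0, 2, 0, 2, 0, -2], [0, 2, 2, 0, 2, -2, 2, -2, 2, 2, 2, 2, 2, 0, 0, -2, 0, -2, -2, 0, 2, 0, -2, 0], [0, -2, 2, 0, 2, 2, 2, 2, -2, -2, 2, -2, 2, 0, 0, -2, 0, -2, 2, 0, 2, 0, 2, 0], [0, -2, -2, 0, 2, 2, 2, -2, -2, 2, 2, 2, 2, 0, 0, 2, 0, 2, 2, 0, -2, 0, -2, 0], [0, 2, 2, 0, -2, -2, -2, 2, -2, 2, 2, 2, 2, 0, 0, 2, 0, -2, 2, 0, -2, 0, 2, 0], [-2, 0, 0, 2, 0, 0, 0, 0, 0, 0, 0, 0, 0, -2,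 -2, 0, -2, 0, 0, -2, 0, 6, 0, 2], [0, 2, 2, 0, 2, 2, -2, 2, 2, 2, -2, -2, 2, 0, 0, -2, 0, 2, 2, 0, -2, 0, -2, 0], [0, 2, 2, 0, -2, 2, 2, -2, 2, -2, 2, 2, -2, 0, 0, -2, 0, 2, 2, 0, -2, 0, 2, 0], [0, 2, 2, 0, 2, 2, -2, 2, -2, -2, 2, 2, -2, 0, 0, 2, 0, 2, -2, 0, 2, 0, -2, 0], [0, 2, 2, 0, -2, 2, 2, -2, -2, 2, -2, -2, 2, 0, 0, 2, 0, 2, -2, 0, 2, 0, 2, 0], [0, -2, 2, 0, -2, -2, 2, 2, 2, -2, -2, 2, 2, 0, 0, 2, 0, 2, 2, 0, 2, 0, -2, 0], [-2, 0, 0, 2, 0, 0, 0, 0, 0, 0, 0, 0, 0, -2, 6, 0, -2, 0, 0, -2, 0, -2, 0, 2], [-2, 0, 0, 2, 0, 0, 0, 0, 0, 0, 0, 0, 0, 6, -2, 0, -2, 0, 0, -2, 0, -2, 0, 2], [0, 2, -2, 0, -2, 2, 2, 2, 2, 2, 2, -2, -2, 0, 0, 2, 0, -2, 2, 0, 2, 0, -2, 0], [0, 2, -2, 0, 2, -2, 2, 2, 2, -2, 2,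 -2, 2, 0, 0, 2, 0, 2, -2, 0, -2, 0, 2, 0], [-2, 0, 0, 2, 0, 0, 0, 0, 0, 0, 0, 0, 0, -2, -2, 0, 6, 0, 0, -2, 0, -2, 0, 2], [0, 2, -2, 0, 2, 2, -2, -2, 2, -2, -2, 2, 2, 0, 0, 2, 0, -2, 2, 0, 2, 0, 2, 0], [-2, 0, 0, 2, 0, 0, 0, 0, 0, 0, 0, 0, 0, -2, -2, 0, -2, 0, 0, 6, 0, -2, 0, 2], [0, -2, 2, 0, 2, -2, -2, -2, 2, 2, 2, -2, -2, 0, 0, 2, 0, 2, 2, 0, 2, 0, 2, 0], [0, -2, -2, 0, -2, 2, -2, 2, 2, 2, 2, 2, 2, 0, 0, -2, 0, 2, -2, 0, 2, 0, 2, 0], [2, 0, 0, -2, 0, 0, 0, 0, 0, 0, 0, 0, 0, 2, 2, 0, 2, 0, 0, 2, 0, 2, 0, 6]]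

def matA4 : List (List ℤ) := [[6, 0, 0, 0, 0, 0, 0, 0, 0, 0, 0, 0, 2, 0, -2, 0, -2, -2, -2, 0, 0, 0, -2, 2], [0, 2, 2, 2, 2, -2, -2, 2, 2, -2, -2, 2, 0, -2, 0, 2, 0, 0, 0, 2, -2, 2, 0, 0], [0, 2, 2, -2, 2, 2, 2, 2, -2, 2, 2, -2, 0, -2, 0, 2, 0, 0, 0, 2, -2, -2, 0, 0], [0, -2, 2, 2, 2, 2, 2, -2, -2, -2, -2, 2, 0, 2, 0, 2, 0, 0, 0, 2, 2, -2, 0, 0], [0, 2, 2, 2, 2, -2, 2, -2, 2, 2, 2, 2, 0, -2, 0, -2, 0, 0, 0, -2, 2, -2, 0, 0], [2, 0, 0, 0, 0, 0, 0, 0, 0, 0, 0, 0, 6, 0, 2, 0, 2, 2, 2, 0, 0, 0, 2, -2], [0, 2, -2, 2, 2, 2, 2, -2, 2, 2, -2, -2, 0, 2, 0, 2, 0, 0, 0, -2, -2, 2, 0, 0], [0, 2, 2, -2, -2, 2, -2, 2, 2, 2, -2, 2, 0, 2, 0, 2, 0, 0, 0, -2, 2, -2, 0, 0], [0, 2, 2, -2, -2, 2, 2, -2, 2, -2, 2, 2, 0,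 2, 0, -2, 0, 0, 0, 2, -2, 2, 0, 0], [0, -2, 2, 2, 2, 2, -2, 2, -2, 2, 2, 2, 0, 2, 0, -2, 0, 0, 0, -2, -2, 2, 0, 0], [-2, 0, 0, 0, 0, 0, 0, 0, 0, 0, 0, 0, 2, 0, -2, 0, -2, 6, -2, 0, 0, 0, -2, 2], [0, 2, -2, -2, 2, -2, 2, 2, -2, 2, -2, 2, 0, 2, 0, -2, 0, 0, 0, 2, 2, 2, 0, 0], [0, -2, 2, 2, -2, 2, 2, 2, 2, 2, -2, -2, 0, -2, 0, -2, 0, 0, 0, 2, 2, 2, 0, 0], [-2, 0, 0, 0, 0, 0, 0, 0, 0, 0, 0, 0, 2, 0, -2, 0, 6, -2, -2, 0, 0, 0, -2, 2], [-2, 0, 0, 0, 0, 0, 0, 0, 0, 0, 0, 0, 2, 0, 6, 0, -2, -2, -2, 0, 0, 0, -2, 2], [-2, 0, 0, 0, 0, 0, 0, 0, 0, 0, 0, 0, 2, 0, -2, 0, -2, -2, 6, 0, 0, 0, -2, 2], [0, -2, -2, 2, -2, -2, 2, 2, 2, 2, 2, 2, 0, 2, 0, 2, 0, 0, 0, 2, -2, -2, 0, 0], [0, -2, 2, -2, 2, -2, -2, -2, 2, 2,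 2, -2, 0, 2, 0, 2, 0, 0, 0, 2, 2, 2, 0, 0], [0, 2, 2, 2, -2, -2, 2, 2, -2, -2, 2, -2, 0, 2, 0, 2, 0, 0, 0, -2, 2, 2, 0, 0], [0, 2, -2, 2, 2, 2, -2, 2, 2, -2, 2, -2, 0, 2, 0, -2, 0, 0, 0, 2, 2, -2, 0, 0], [0, 2, -2, 2, -2, 2, -2, -2, -2, 2, 2, 2, 0, -2, 0, 2, 0, 0, 0, 2, 2, 2, 0, 0], [0, -2, -2, -2, 2, 2, 2, 2, 2, -2, 2, 2, 0, -2, 0, 2, 0, 0, 0, -2, 2, 2, 0, 0], [-2, 0, 0, 0, 0, 0, 0, 0, 0, 0, 0, 0, 2, 0, -2, 0, -2, -2, -2, 0, 0, 0, 6, 2], [2, 0, 0, 0, 0, 0, 0, 0, 0, 0, 0, 0, -2, 0, 2, 0, 2, 2, 2, 0, 0, 0, 2, 6]]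

def matT4 : List (List ℤ) := [[6, 0, 0, 0, 0, 2, 0, 0, 0, 0, -2, 0, 0, -2, -2, -2, 0, 0, 0, 0, 0, 0, -2, 2], [0, 2, 2, -2, 2, 0, 2, 2, 2, -2, 0, 2, -2, 0, 0, 0, -2, -2, 2, 2, 2, -2, 0, 0], [0, 2, 2, 2, 2, 0, -2, 2, 2, 2, 0, -2, 2, 0, 0, 0, -2, 2, 2, -2, -2, -2, 0, 0], [0, 2, -2, 2, 2, 0, 2, -2, -2, 2, 0, -2, 2, 0, 0, 0, 2, -2, 2, 2, 2, -2, 0, 0], [0, 2, 2, 2, 2, 0, 2, -2, -2, 2, 0, 2, -2, 0, 0, 0, -2, 2, -2, 2, -2, 2, 0, 0], [0, -2, 2, 2, -2, 0, 2, 2, 2, 2, 0, -2, 2, 0, 0, 0, -2, -2, -2, 2, 2, 2, 0, 0], [0, -2, 2, 2, 2, 0, 2, -2, 2, -2, 0, 2, 2, 0, 0, 0, 2, -2, 2, -2, -2, 2, 0, 0], [0, 2, 2, -2, -2, 0, -2, 2, -2, 2, 0, 2, 2, 0, 0, 0, 2, -2, 2, 2, -2, 2, 0, 0], [0, 2, -2, -2, 2, 0, 2, 2, 2, -2, 0, -2,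 2, 0, 0, 0, 2, 2, -2, 2, -2, 2, 0, 0], [0, -2, 2, -2, 2, 0, 2, 2, -2, 2, 0, 2, 2, 0, 0, 0, 2, 2, -2, -2, 2, -2, 0, 0], [0, -2, 2, -2, 2, 0, -2, -2, 2, 2, 0, -2, -2, 0, 0, 0, 2, 2, 2, 2, 2, 2, 0, 0], [0, 2, -2, 2, 2, 0, -2, 2, 2, 2, 0, 2, -2, 0, 0, 0, 2, -2, -2, -2, 2, 2, 0, 0], [2, 0, 0, 0, 0, 6, 0, 0, 0, 0, 2, 0, 0, 2, 2, 2, 0, 0, 0, 0, 0, 0, 2, -2], [0, -2, -2, 2, -2, 0, 2, 2, 2, 2, 0, 2, -2, 0, 0, 0, 2, 2, 2, 2, -2, -2, 0, 0], [-2, 0, 0, 0, 0, 2, 0, 0, 0, 0, -2, 0, 0, -2, 6, -2, 0, 0, 0, 0, 0, 0, -2, 2], [0, 2, 2, 2, -2, 0, 2, 2, -2, -2, 0, -2, -2, 0, 0, 0, 2, 2, 2, -2, 2, 2, 0, 0], [-2, 0, 0, 0, 0, 2, 0, 0, 0, 0, -2, 0, 0, 6, -2, -2, 0, 0, 0, 0, 0, 0, -2, 2], [-2, 0, 0, 0, 0, 2, 0, 0, 0, 0, 6, 0,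 0, -2, -2, -2, 0, 0, 0, 0, 0, 0, -2, 2], [-2, 0, 0, 0, 0, 2, 0, 0, 0, 0, -2, 0, 0, -2, -2, 6, 0, 0, 0, 0, 0, 0, -2, 2], [0, 2, 2, 2, -2, 0, -2, -2, 2, -2, 0, 2, 2, 0, 0, 0, 2, 2, -2, 2, 2, -2, 0, 0], [0, -2, -2, 2, 2, 0, -2, 2, -2, -2, 0, 2, 2, 0, 0, 0, -2, 2, 2, 2, 2, 2, 0, 0], [0, 2, -2, -2, -2, 0, 2, -2, 2, 2, 0, 2, 2, 0, 0, 0, -2, 2, 2, -2, 2, 2, 0, 0], [-2, 0, 0, 0, 0, 2, 0, 0, 0, 0, -2, 0, 0, -2, -2, -2, 0, 0, 0, 0, 0, 0, 6, 2], [2, 0, 0, 0, 0, -2, 0, 0, 0, 0, 2, 0, 0, 2, 2, 2, 0, 0, 0, 0, 0, 0, 2, 6]]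

def matA5 : List (List ℤ) := [[6, 0, 2, 0, 0, 0, 0, 0, 0, 0, 0, -2, 0, 0, -2, 0, 0, 0, 0, 0, -2, -2, -2, 2], [0, 2, 0, 2, 2, 2, -2, 2, 2, 2, -2, 0, 2, -2, 0, -2, -2, 2, 2, -2, 0, 0, 0, 0], [-2, 0, 2, 0, 0, 0, 0, 0, 0, 0, 0, 6, 0, 0, -2, 0, 0, 0, 0, 0, -2, -2, -2, 2], [0, -2, 0, 2, -2, 2, 2, 2, -2, 2, -2, 0, 2, 2, 0, 2, 2, -2, 2, -2, 0, 0, 0, 0], [0, 2, 0, -2, 2, 2, 2, 2, -2, 2, 2, 0, 2, -2, 0, 2, -2, -2, -2, 2, 0, 0, 0, 0], [0, -2, 0, -2, 2, 2, 2, 2, 2, -2, 2, 0, -2, -2, 0, 2, 2, 2, 2, -2, 0, 0, 0, 0], [0, 2, 0, 2, 2, 2, 2, -2, -2, -2, 2, 0, 2, 2, 0, -2, 2, 2, -2, -2, 0, 0, 0, 0], [0, 2, 0, 2, 2, -2, -2, 2, 2, 2, 2, 0, -2, 2, 0, 2, 2, -2, -2, -2, 0, 0, 0, 0], [0, 2, 0, -2, 2, 2, -2, -2, 2, -2, -2,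 0, 2, 2, 0, 2, 2, -2, 2, 2, 0, 0, 0, 0], [0, 2, 0, -2, 2, -2, 2, 2, -2, 2, -2, 0, -2, 2, 0, -2, 2, 2, 2, 2, 0, 0, 0, 0], [0, -2, 0, 2, 2, 2, 2, -2, 2, 2, 2, 0, -2, 2, 0, -2, -2, -2, 2, 2, 0, 0, 0, 0], [2, 0, 6, 0, 0, 0, 0, 0, 0, 0, 0, 2, 0, 0, 2, 0, 0, 0, 0, 0, 2, 2, 2, -2], [0, 2, 0, -2, -2, -2, 2, -2, 2, 2, 2, 0, 2, 2, 0, 2, -2, 2, 2, -2, 0, 0, 0, 0], [0, -2, 0, 2, 2, -2, -2, 2, -2, -2, 2, 0, 2, 2, 0, 2, -2, 2, 2, 2, 0, 0, 0, 0], [-2, 0, 2, 0, 0, 0, 0, 0, 0, 0, 0, -2, 0, 0, 6, 0, 0, 0, 0, 0, -2, -2, -2, 2], [0, 2, 0, 2, -2, 2, 2, 2, 2, -2, -2, 0, -2, 2, 0, 2, -2, 2, -2, 2, 0, 0, 0, 0], [0, 2, 0, 2, -2, 2, -2, -2, -2, 2, 2, 0, -2, -2, 0, 2, 2, 2, 2, 2, 0, 0, 0, 0], [0, -2, 0, 2, 2, -2, 2, -2, 2, 2,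 -2, 0, 2, -2, 0, 2, 2, 2, -2, 2, 0, 0, 0, 0], [0, 2, 0, 2, -2, -2, 2, 2, 2, -2, 2, 0, 2, -2, 0, -2, 2, -2, 2, 2, 0, 0, 0, 0], [0, -2, 0, -2, -2, 2, -2, 2, 2, 2, 2, 0, 2, 2, 0, -2, 2, 2, -2, 2, 0, 0, 0, 0], [-2, 0, 2, 0, 0, 0, 0, 0, 0, 0, 0, -2, 0, 0, -2, 0, 0, 0, 0, 0, -2, -2, 6, 2], [-2, 0, 2, 0, 0, 0, 0, 0, 0, 0, 0, -2, 0, 0, -2, 0, 0, 0, 0, 0, 6, -2, -2, 2], [-2, 0, 2, 0, 0, 0, 0, 0, 0, 0, 0, -2, 0, 0, -2, 0, 0, 0, 0, 0, -2, 6, -2, 2], [2, 0, -2, 0, 0, 0, 0, 0, 0, 0, 0, 2, 0, 0, 2, 0, 0, 0, 0, 0, 2, 2, 2, 6]]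

def matT5 : List (List ℤ) := [[6, 0, -2, 0, 0, 0, 0, 0, 0, 0, 0, 2, 0, 0, -2, 0, 0, 0, 0, 0, -2, -2, -2, 2], [0, 2, 0, -2, 2, -2, 2, 2, 2, 2, -2, 0, 2, -2, 0, 2, 2, -2, 2, -2, 0, 0, 0, 0], [2, 0, 2, 0, 0, 0, 0, 0, 0, 0, 0, 6, 0, 0, 2, 0, 0, 0, 0, 0, 2, 2, 2, -2], [0, 2, 0, 2, -2, -2, 2, 2, -2, -2, 2, 0, -2, 2, 0, 2, 2, 2, 2, -2, 0, 0, 0, 0], [0, 2, 0, -2, 2, 2, 2, 2, 2, 2, 2, 0, -2, 2, 0, -2, -2, 2, -2, -2, 0, 0, 0, 0], [0, 2, 0, 2, 2, 2, 2, -2, 2, -2, 2, 0, -2, -2, 0, 2, 2, -2, -2, 2, 0, 0, 0, 0], [0, -2, 0, 2, 2, 2, 2, -2, -2, 2, 2, 0, 2, -2, 0, 2, -2, 2, 2, -2, 0, 0, 0, 0], [0, 2, 0, 2, 2, 2, -2, 2, -2, 2, -2, 0, -2, 2, 0, 2, -2, -2, 2, 2, 0, 0, 0, 0], [0, 2, 0, -2, -2, 2, -2, 2, 2, -2, 2, 0, 2,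 -2, 0, 2, -2, 2, 2, 2, 0, 0, 0, 0], [0, 2, 0, 2, 2, -2, -2, 2, -2, 2, 2, 0, 2, -2, 0, -2, 2, 2, -2, 2, 0, 0, 0, 0], [0, -2, 0, -2, 2, 2, 2, 2, -2, -2, 2, 0, 2, 2, 0, -2, 2, -2, 2, 2, 0, 0, 0, 0], [-2, 0, 6, 0, 0, 0, 0, 0, 0, 0, 0, 2, 0, 0, -2, 0, 0, 0, 0, 0, -2, -2, -2, 2], [0, 2, 0, 2, 2, -2, 2, -2, 2, -2, -2, 0, 2, 2, 0, -2, -2, 2, 2, 2, 0, 0, 0, 0], [0, -2, 0, 2, -2, -2, 2, 2, 2, 2, 2, 0, 2, 2, 0, 2, -2, -2, -2, 2, 0, 0, 0, 0], [-2, 0, -2, 0, 0, 0, 0, 0, 0, 0, 0, 2, 0, 0, 6, 0, 0, 0, 0, 0, -2, -2, -2, 2], [0, -2, 0, 2, 2, 2, -2, 2, 2, -2, -2, 0, 2, 2, 0, 2, 2, 2, -2, -2, 0, 0, 0, 0], [0, -2, 0, 2, -2, 2, 2, 2, 2, 2, -2, 0, -2, -2, 0, -2, 2, 2, 2, 2, 0, 0, 0, 0], [0, 2, 0, -2, -2, 2, 2, -2, -2, 2,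 -2, 0, 2, 2, 0, 2, 2, 2, -2, 2, 0, 0, 0, 0], [0, 2, 0, 2, -2, 2, -2, -2, 2, 2, 2, 0, 2, 2, 0, -2, 2, -2, 2, -2, 0, 0, 0, 0], [0, -2, 0, -2, 2, -2, -2, -2, 2, 2, 2, 0, -2, 2, 0, 2, 2, 2, 2, 2, 0, 0, 0, 0], [-2, 0, -2, 0, 0, 0, 0, 0, 0, 0, 0, 2, 0, 0, -2, 0, 0, 0, 0, 0, -2, 6, -2, 2], [-2, 0, -2, 0, 0, 0, 0, 0, 0, 0, 0, 2, 0, 0, -2, 0, 0, 0, 0, 0, -2, -2, 6, 2], [-2, 0, -2, 0, 0, 0, 0, 0, 0, 0, 0, 2, 0, 0, -2, 0, 0, 0, 0, 0, 6, -2, -2, 2], [2, 0, 2, 0, 0, 0, 0, 0, 0, 0, 0, -2, 0, 0, 2, 0, 0, 0, 0, 0, 2, 2, 2, 6]]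

def matA6 : List (List ℤ) := [[-3, 1, -1, -3, 1, -1, -1, -1, -1, -1, -1, 1, -1, -1, 3, -1, -1, -1, -1, 1, -3, -1, -1, -3], [-1, -1, 1, -1, -1, 1, 1, 1, 1, -3, 1, -1, 1, -3, -3, 1, 1, -3, 1, -1, -1, 1, -3, -1], [1, 1, -1, 1, -3, -1, -1, -1, -1, -1, -1, 1, 3, -1, -1, -1, -1, 3, -1, 1, 1, 3, -1, -3], [1, 1, -1, -3, 1, -1, 3, -1, -1, -1, 3, 1, -1, -1, -1, -1, -1, 3, -1, -3, 1, -1, -1, 1], [-1, -1, -3, -1, -1, 1, -3, 1, 1, 1, 1, -1, -3, 1, -3, 1, -3, 1, 1, -1, -1, 1, 1, -1], [1, 1, -1, 1, 1, -1, -1, -1, 3, -1, -1, 1, -1, -1, -1, 3, -1, -1, -5, 1, 1, -1, -1, 1], [1, 1, 3, -3, 1, -1, -1, -1, -1, -1, -1, -3, -1, -1, -1, -1, -1, -1, -1, 1, 1, 3, 3, 1], [1, 1, -1, 1, 1, 3, 3, -1, -1, -1, -1, -3, -1, 3, -1, -1,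 -1, -1, -1, 1, 1, -1, -1, -3], [3, 3, 1, -1, -1, 1, -3, 1, 1, -3, 1, -1, 1, 1, 1, 1, 1, 1, 1, -1, -1, -3, 1, -1], [1, -3, -1, 1, 1, -1, -1, -1, -1, -1, 3, 1, -1, -1, -1, -1, 3, -1, -1, 1, 1, -1, 3, -3], [1, -3, -1, -3, 1, -1, -1, 3, -1, -1, -1, 1, 3, 3, -1, -1, -1, -1, -1, 1, 1, -1, -1, 1], [-1, -1, 1, -1, -1, -3, 1, -3, 1, 1, -3, -1, 1, 1, -3, 1, 1, 1, 1, -1, -1, -3, 1, -1], [1, 1, -1, 1, 1, -1, -1, -1, 3, -1, -1, 1, -1, -1, -1, -5, -1, -1, 3, 1, 1, -1, -1, 1], [1, 1, -1, 1, 1, -1, -1, -1, -1, 3, 3, -3, 3, -1, -1, -1, -1, -1, -1, 1, -3, -1, -1, 1], [-1, 3, 1, -1, 3, 1, 1, 1, 1, 1, 1, 3, 1, 1, -3, 1, 1, 1, 1, 3, -1, 1, 1, -1], [3, -1, -3, -1, 3, 1, 1, 1, 1, 1, -3, -1, 1, -3, 1, 1, 1, 1, 1, -1, -1, 1,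 1, -1], [1, -3, 3, 1, 1, 3, -1, -1, -1, -1, -1, 1, -1, -1, -1, -1, -1, 3, -1, 1, -3, -1, -1, 1], [1, 1, -1, -3, -3, 3, -1, -1, -1, 3, -1, 1, -1, -1, -1, -1, 3, -1, -1, 1, 1, -1, -1, 1], [3, -1, 1, -1, -1, 1, 1, -3, 1, 1, 1, 3, 1, 1, 1, 1, -3, -3, 1, -1, -1, 1, 1, -1], [3, -1, 1, -1, -1, -3, 1, 1, 1, 1, 1, -1, -3, 1, 1, 1, 1, 1, 1, 3, -1, 1, -3, -1], [1, 1, -1, 1, 1, -1, -1, -1, -1, -1, -1, 1, -1, 3, -1, -1, 3, -1, -1, -3, -3, 3, -1, 1], [1, 1, -1, 1, -3, -1, 3, 3, -1, -1, -1, 1, -1, -1, -1, -1, -1, -1, -1, 1, -3, -1, 3, 1], [1, 1, -1, 1, 1, -1, -1, -1, -5, -1, -1, 1, -1, -1, -1, 3, -1, -1, 3, 1, 1, -1, -1, 1], [1, 1, 3, 1, 1, -1, -1, 3, -1, 3, -1, 1, -1, -1, -1, -1, -1, -1, -1, -3, 1, -1, -1, -3]]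

def matT6 : List (List ℤ) := [[-3, -1, 1, 1, -1, 1, 1, 1, 3, 1, 1, -1, 1, 1, -1, 3, 1, 1, 3, 3, 1, 1, 1, 1], [1, -1, 1, 1, -1, 1, 1, 1, 3, -3, -3, -1, 1, 1, 3, -1, -3, 1, -1, -1, 1, 1, 1, 1], [-1, 1, -1, -1, -3, -1, 3, -1, 1, -1, -1, 1, -1, -1, 1, -3, 3, -1, 1, 1, -1, -1, -1, 3], [-3, -1, 1, -3, -1, 1, -3, 1, -1, 1, -3, -1, 1, 1, -1, -1, 1, -3, -1, -1, 1, 1, 1, 1], [1, -1, -3, 1, -1, 1, 1, 1, -1, 1, 1, -1, 1, 1, 3, 3, 1, -3, -1, -1, 1, -3, 1, 1], [-1, 1, -1, -1, 1, -1, -1, 3, 1, -1, -1, -3, -1, -1, 1, 1, 3, 3, 1, -3, -1, -1, -1, -1], [-1, 1, -1, 3, -3, -1, -1, 3, -3, -1, -1, 1, -1, -1, 1, 1, -1, -1, 1, 1, -1, 3, -1, -1], [-1, 1, -1, -1, 1, -1, -1, -1, 1, -1, 3, -3, -1, -1, 1, 1, -1, -1, -3, 1, -1,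 3, -1, 3], [-1, 1, -1, -1, 1, 3, -1, -1, 1, -1, -1, 1, 3, -1, 1, 1, -1, -1, 1, 1, -1, -1, -5, -1], [-1, -3, -1, -1, 1, -1, -1, -1, -3, -1, -1, 1, -1, 3, 1, 1, -1, 3, 1, 1, -1, -1, -1, 3], [-1, 1, -1, 3, 1, -1, -1, -1, 1, 3, -1, -3, -1, 3, 1, -3, -1, -1, 1, 1, -1, -1, -1, -1], [1, -1, 1, 1, -1, 1, -3, -3, -1, 1, 1, -1, 1, -3, 3, -1, 1, 1, 3, -1, 1, 1, 1, 1], [-1, 1, 3, -1, -3, -1, -1, -1, 1, -1, 3, 1, -1, 3, 1, 1, -1, -1, 1, -3, -1, -1, -1, -1], [-1, -3, -1, -1, 1, -1, -1, 3, 1, -1, 3, 1, -1, -1, 1, -3, -1, -1, 1, 1, 3, -1, -1, -1], [3, -3, -1, -1, -3, -1, -1, -1, 1, -1, -1, -3, -1, -1, -3, 1, -1, -1, 1, 1, -1, -1, -1, -1], [-1, 1, -1, -1, 1, 3, -1, -1, 1, -1, -1, 1, -5, -1, 1, 1, -1, -1, 1, 1, -1, -1,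 3, -1], [-1, 1, -1, -1, -3, -1, -1, -1, 1, 3, -1, 1, -1, -1, 1, 1, -1, 3, -3, 1, 3, -1, -1, -1], [-1, -3, 3, 3, 1, -1, -1, -1, 1, -1, -1, 1, -1, -1, 1, 1, 3, -1, -3, 1, -1, -1, -1, -1], [-1, 1, -1, -1, 1, -5, -1, -1, 1, -1, -1, 1, 3, -1, 1, 1, -1, -1, 1, 1, -1, -1, 3, -1], [1, -1, 1, -3, -1, 1, 1, 1, -1, 1, 1, -1, 1, 1, 3, -1, 1, 1, -1, 3, -3, 1, 1, -3], [-3, -1, 1, 1, -1, 1, 1, 1, -1, 1, 1, -1, 1, -3, -1, -1, -3, 1, -1, -1, -3, -3, 1, 1], [-1, 1, 3, -1, 1, -1, 3, -1, -3, -1, -1, -3, -1, -1, 1, 1, -1, -1, 1, 1, 3, -1, -1, -1], [-1, -3, -1, -1, 1, -1, 3, -1, 1, 3, -1, 1, -1, -1, 1, 1, -1, -1, 1, -3, -1, 3, -1, -1], [-3, -1, -3, 1, -1, 1, 1, -3, -1, -3, 1, -1, 1, 1, -1, -1, 1, 1, -1, -1, 1, 1, 1, -3]]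

def matA7 : List (List ℤ) := [[-3, 1, 1, -1, 1, 1, -1, -1, -1, 1, 1, 1, 1, 1, 5, -1, -1, 1, 1, 1, 1, -1, 1, 3], [-1, -1, -1, 1, -1, 3, 1, -3, 1, -1, -1, 3, -1, -1, -1, 1, 1, -1, 3, 3, -1, 1, -1, 1], [-1, -1, -1, 1, -1, -1, 1, 1, 1, -1, -1, -1, 3, -1, -1, 1, -3, 3, 3, -1, -1, 1, 3, 1], [1, 1, -3, -1, 1, 1, 3, -1, -1, -3, 1, 1, 1, -3, 1, -1, -1, 1, -3, 1, 1, -1, 1, -1], [-1, -1, -1, 1, -1, -1, -3, 1, 1, -1, 3, -1, -1, -1, -1, 1, 1, 3, -1, 3, 3, 1, -1, 1], [1, -3, 1, -1, -3, 1, -1, -1, -1, 1, -3, 1, 1, 1, 1, -1, -1, 1, -3, 1, 1, 3, 1, -1], [-1, -1, -1, -3, 3, -1, -3, -3, 1, -1, -1, -1, -1, -1, -1, 1, 1, -1, -1, -1, -1, 1, 3, 1], [1, -3, 1, -1, 1, 1, 3, -1, -1, 1, 1, -3, 1, 1, 1, 3, 3, 1, 1, 1, 1, -1,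 1, -1], [1, 1, 1, -1, -3, -3, -1, -1, -1, -3, 1, 1, 1, 1, 1, -1, 3, 1, 1, 1, -3, -1, 1, -1], [-1, -1, -1, 1, -1, 3, 1, 1, 1, -1, 3, -1, -1, 3, -1, -3, 1, -1, -1, -1, -1, 1, 3, 1], [-1, -1, -1, -3, -1, -1, 1, 1, 1, -1, -1, -1, -1, 3, -1, 1, -3, -1, -1, 3, -1, -3, -1, 1], [-1, 3, -1, 1, -1, -1, 1, -3, 1, -1, -1, -1, 3, 3, -1, 1, 1, -1, -1, -1, 3, 1, -1, 1], [1, 1, 1, -1, -3, 1, -1, -1, 3, 1, 1, -3, 1, -3, 1, -1, -1, -3, 1, 1, 1, -1, 1, -1], [1, 1, -3, -1, 1, 1, -1, -1, -1, 1, 1, -3, 1, 1, 1, -1, -1, 1, 1, 1, -3, 3, -3, -1], [-3, 1, 1, -1, 1, 1, -1, -1, -1, 1, 1, 1, 1, 1, -3, -1, -1, 1, 1, 1, 1, -1, 1, -5], [-1, -1, -1, 1, -1, -1, 1, -3, 1, 3, -1, -1, -1, -1, -1, -3, 1, 3, -1, -1, -1, -3, -1, 1], [-1,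 -1, 3, 1, -1, -1, 1, -3, -3, -1, 3, -1, -1, -1, -1, 1, -3, -1, -1, -1, -1, 1, -1, 1], [-1, -1, -1, -3, -1, -1, 1, 1, -3, -1, -1, -1, -1, -1, -1, -3, 1, -1, 3, -1, 3, 1, -1, 1], [1, -3, 1, -1, 1, 1, -1, -1, 3, -3, 1, 1, 1, 1, 1, -1, -1, 1, 1, -3, 1, -1, -3, -1], [1, -3, -3, 3, 1, -3, -1, -1, -1, 1, 1, 1, 1, 1, 1, -1, -1, -3, 1, 1, 1, -1, 1, -1], [1, 1, 1, 3, 1, 1, -1, -1, -1, -3, -3, -3, -3, 1, 1, -1, -1, 1, 1, 1, 1, -1, 1, -1], [1, 1, -3, -1, -3, 1, -1, -1, -1, 1, 1, 1, -3, 1, 1, 3, -1, 1, 1, -3, 1, -1, 1, -1], [-1, -1, -1, 1, -1, 3, -3, 1, -3, -1, -1, -1, 3, -1, -1, 1, 1, -1, -1, -1, -1, -3, -1, 1], [-5, -1, -1, 1, -1, -1, 1, 1, 1, -1, -1, -1, -1, -1, 3, 1, 1, -1, -1, -1, -1, 1, -1, -3]]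

def matT7 : List (List ℤ) := [[-3, -1, -1, 1, -1, 1, -1, 1, 1, -1, -1, -1, 1, 1, -3, -1, -1, -1, 1, 1, 1, 1, -1, -5], [1, -1, -1, 1, -1, -3, -1, -3, 1, -1, -1, 3, 1, 1, 1, -1, -1, -1, -3, -3, 1, 1, -1, -1], [1, -1, -1, -3, -1, 1, -1, 1, 1, -1, -1, -1, 1, -3, 1, -1, 3, -1, 1, -3, 1, -3, -1, -1], [-1, 1, 1, -1, 1, -1, -3, -1, -1, 1, -3, 1, -1, -1, -1, 1, 1, -3, -1, 3, 3, -1, 1, 1], [1, -1, -1, 1, -1, -3, 3, 1, -3, -1, -1, -1, -3, 1, 1, -1, -1, -1, 1, 1, 1, -3, -1, -1], [1, 3, -1, 1, -1, 1, -1, 1, -3, 3, -1, -1, 1, 1, 1, -1, -1, -1, 1, -3, 1, 1, 3, -1], [-1, 1, 1, 3, -3, -1, -3, 3, -1, 1, 1, 1, -1, -1, -1, 1, 1, 1, -1, -1, -1, -1, -3, 1], [-1, -3, 1, -1, 1, -1, -3, -1, -1, 1, 1, -3, -1, -1, -1, -3, -3,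 1, -1, -1, -1, -1, 1, 1], [-1, 1, 1, -1, 1, -1, 1, -1, -1, 1, 1, 1, 3, -1, -1, 1, -3, -3, 3, -1, -1, -1, -3, 1], [1, -1, -1, -3, -1, 1, -1, 1, -3, -1, -1, -1, 1, 1, 1, 3, -1, -1, -3, 1, -3, 1, -1, -1], [1, -1, -1, 1, 3, -3, -1, 1, 1, 3, -1, -1, 1, 1, 1, -1, 3, -1, 1, 1, -3, 1, -1, -1], [1, 3, -1, 1, -1, 1, -1, -3, 1, -1, -1, -1, -3, -3, 1, -1, -1, -1, 1, 1, -3, 1, -1, -1], [1, -1, 3, 1, -1, 1, -1, 1, 1, -1, -1, 3, 1, 1, 1, -1, -1, -1, 1, 1, -3, -3, 3, -1], [1, -1, -1, -3, -1, 1, -1, 1, 1, 3, 3, 3, -3, 1, 1, -1, -1, -1, 1, 1, 1, 1, -1, -1], [5, -1, -1, 1, -1, 1, -1, 1, 1, -1, -1, -1, 1, 1, -3, -1, -1, -1, 1, 1, 1, 1, -1, 3], [-1, 1, 1, -1, 1, -1, 1, 3, -1, -3, 1, 1, -1, -1, -1, -3, 1, -3, -1, -1, -1,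 3, 1, 1], [-1, 1, -3, -1, 1, -1, 1, 3, 3, 1, -3, 1, -1, -1, -1, 1, -3, 1, -1, -1, -1, -1, 1, 1], [1, -1, 3, 1, 3, 1, -1, 1, 1, -1, -1, -1, -3, 1, 1, 3, -1, -1, 1, -3, 1, 1, -1, -1], [1, 3, 3, -3, -1, -3, -1, 1, 1, -1, -1, -1, 1, 1, 1, -1, -1, 3, 1, 1, 1, 1, -1, -1], [1, 3, -1, 1, 3, 1, -1, 1, 1, -1, 3, -1, 1, 1, 1, -1, -1, -1, -3, 1, 1, -3, -1, -1], [1, -1, -1, 1, 3, 1, -1, 1, -3, -1, -1, 3, 1, -3, 1, -1, -1, 3, 1, 1, 1, 1, -1, -1], [-1, 1, 1, -1, 1, 3, 1, -1, -1, 1, -3, 1, -1, 3, -1, -3, 1, 1, -1, -1, -1, -1, -3, 1], [1, -1, 3, 1, -1, 1, 3, 1, 1, 3, -1, -1, 1, -3, 1, -1, -1, -1, -3, 1, 1, 1, -1, -1], [3, 1, 1, -1, 1, -1, 1, -1, -1, 1, 1, 1, -1, -1, -5, 1, 1, 1, -1, -1, -1, -1, 1, -3]]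

def matA8 : List (List ℤ) := [[4, -2, 0, 0, -2, 0, 0, 0, 0, 0, -2, -2, 2, -2, 0, -2, 0, 0, 0, 0, 0, 0, 4, 2], [0, -2, -4, 0, -2, 0, 0, 0, 0, 0, 2, 2, -2, -2, 0, 2, 4, 0, 0, 0, 0, 0, 0, 2], [2, 0, -2, -2, 0, -2, 2, 2, -2, -2, 0, 0, 0, 0, -2, 0, -2, 2, -2, -2, 2, 2, -2, 0], [0, 2, 0, 0, 2, 0, 4, 0, 0, 0, 2, -2, 2, -2, 0, 2, 0, 0, 0, 4, 0, 0, 0, 2], [0, 2, 0, 0, -2, 0, 0, 0, 0, -4, 2, -2, -2, 2, 0, -2, 0, 0, 4, 0, 0, 0, 0, 2], [2, 0, 2, 2, 0, -2, -2, 2, -2, 2, 0, 0, 0, 0, -2, 0, 2, 2, 2, 2, 2, -2, -2, 0], [0, -2, 0, 0, 2, 0, 0, 0, 4, 0, 2, -2, -2, -2, 0, -2, 0, 0, 0, 0, 4, 0, 0, -2], [2, 0, -2, 2, 0, -2, 2, -2, 2, 2, 0, 0, 0, 0, -2, 0, -2, -2, 2, -2, -2, -2, -2, 0], [0, 2, 0, 4, -2, 0, 0, 0, 0, 0, -2,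 -2, -2, -2, 0, 2, 0, 0, 0, 0, 0, 4, 0, -2], [2, 0, 2, -2, 0, -2, -2, -2, 2, -2, 0, 0, 0, 0, -2, 0, 2, -2, -2, 2, -2, 2, -2, 0], [0, -2, 0, 0, 2, 0, 0, 0, 0, -4, -2, 2, 2, -2, 0, 2, 0, 0, 4, 0, 0, 0, 0, -2], [0, -2, 0, 0, 2, 0, 0, -4, 0, 0, -2, -2, -2, 2, 0, 2, 0, 4, 0, 0, 0, 0, 0, 2], [0, 2, 0, 0, 2, 4, 0, 0, 0, 0, -2, 2, -2, -2, -4, -2, 0, 0, 0, 0, 0, 0, 0, 2], [0, 2, 0, 0, -2, 0, 0, -4, 0, 0, 2, 2, 2, -2, 0, -2, 0, 4, 0, 0, 0, 0, 0, -2], [-2, 0, 2, -2, 0, -2, 2, 2, 2, 2, 0, 0, 0, 0, -2, 0, 2, 2, 2, -2, -2, 2, 2, 0], [0, 2, -4, 0, 2, 0, 0, 0, 0, 0, -2, -2, 2, 2, 0, -2, 4, 0, 0, 0, 0, 0, 0, -2], [-2, 0, -2, 2, 0, -2, -2, 2, 2, -2, 0, 0, 0, 0, -2, 0, -2, 2, -2, 2, -2, -2, 2, 0], [-2, 0, -2, -2, 0, -2,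 -2, -2, -2, 2, 0, 0, 0, 0, -2, 0, -2, -2, 2, 2, 2, 2, 2, 0], [-2, 0, 2, 2, 0, -2, 2, -2, -2, -2, 0, 0, 0, 0, -2, 0, 2, -2, -2, -2, 2, -2, 2, 0], [0, 2, 0, 0, -2, 0, 0, 0, 4, 0, -2, 2, 2, 2, 0, 2, 0, 0, 0, 0, 4, 0, 0, 2], [0, -2, 0, 4, 2, 0, 0, 0, 0, 0, 2, 2, 2, 2, 0, -2, 0, 0, 0, 0, 0, 4, 0, 2], [0, -2, 0, 0, -2, 0, 4, 0, 0, 0, -2, 2, -2, 2, 0, -2, 0, 0, 0, 4, 0, 0, 0, -2], [4, 2, 0, 0, 2, 0, 0, 0, 0, 0, 2, 2, -2, 2, 0, 2, 0, 0, 0, 0, 0, 0, 4, -2], [0, -2, 0, 0, -2, 4, 0, 0, 0, 0, 2, -2, 2, 2, -4, 2, 0, 0, 0, 0, 0, 0, 0, -2]]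

def matT8 : List (List ℤ) := [[4, 0, 2, 0, 0, 2, 0, 2, 0, 2, 0, 0, 0, 0, -2, 0, -2, -2, -2, 0, 0, 0, 4, 0], [-2, -2, 0, 2, 2, 0, -2, 0, 2, 0, -2, -2, 2, 2, 0, 2, 0, 0, 0, 2, -2, -2, 2, -2], [0, -4, -2, 0, 0, 2, 0, -2, 0, 2, 0, 0, 0, 0, 2, -4, -2, -2, 2, 0, 0, 0, 0, 0], [0, 0, -2, 0, 0, 2, 0, 2, 4, -2, 0, 0, 0, 0, -2, 0, 2, -2, 2, 0, 4, 0, 0, 0], [-2, -2, 0, 2, -2, 0, 2, 0, -2, 0, 2, 2, 2, -2, 0, 2, 0, 0, 0, -2, 2, -2, 2, -2], [0, 0, -2, 0, 0, -2, 0, -2, 0, -2, 0, 0, 4, 0, -2, 0, -2, -2, -2, 0, 0, 0, 0, 4], [0, 0, 2, 4, 0, -2, 0, 2, 0, -2, 0, 0, 0, 0, 2, 0, -2, -2, 2, 0, 0, 4, 0, 0], [0, 0, 2, 0, 0, 2, 0, -2, 0, -2, 0, -4, 0, -4, 2, 0, 2, -2, -2, 0, 0, 0, 0, 0], [0, 0, -2, 0, 0, -2, 4, 2, 0, 2, 0, 0,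 0, 0, 2, 0, 2, -2, -2, 4, 0, 0, 0, 0], [0, 0, -2, 0, -4, 2, 0, 2, 0, -2, -4, 0, 0, 0, 2, 0, -2, 2, -2, 0, 0, 0, 0, 0], [-2, 2, 0, 2, 2, 0, 2, 0, -2, 0, -2, -2, -2, 2, 0, -2, 0, 0, 0, -2, 2, -2, 2, 2], [-2, 2, 0, -2, -2, 0, -2, 0, -2, 0, 2, -2, 2, 2, 0, -2, 0, 0, 0, 2, 2, 2, 2, -2], [2, -2, 0, 2, -2, 0, -2, 0, -2, 0, 2, -2, -2, 2, 0, 2, 0, 0, 0, 2, 2, -2, -2, 2], [-2, -2, 0, -2, 2, 0, -2, 0, -2, 0, -2, 2, -2, -2, 0, 2, 0, 0, 0, 2, 2, 2, 2, 2], [0, 0, -2, 0, 0, -2, 0, -2, 0, -2, 0, 0, -4, 0, -2, 0, -2, -2, -2, 0, 0, 0, 0, -4], [-2, 2, 0, 2, -2, 0, -2, 0, 2, 0, 2, 2, -2, -2, 0, -2, 0, 0, 0, 2, -2, -2, 2, 2], [0, 4, -2, 0, 0, 2, 0, -2, 0, 2, 0, 0, 0, 0, 2, 4, -2, -2, 2, 0, 0, 0, 0, 0], [0, 0, 2, 0, 0, 2,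 0, -2, 0, -2, 0, 4, 0, 4, 2, 0, 2, -2, -2, 0, 0, 0, 0, 0], [0, 0, -2, 0, 4, 2, 0, 2, 0, -2, 4, 0, 0, 0, 2, 0, -2, 2, -2, 0, 0, 0, 0, 0], [0, 0, -2, 4, 0, 2, 0, -2, 0, 2, 0, 0, 0, 0, -2, 0, 2, 2, -2, 0, 0, 4, 0, 0], [0, 0, 2, 0, 0, 2, 4, -2, 0, -2, 0, 0, 0, 0, -2, 0, -2, 2, 2, 4, 0, 0, 0, 0], [0, 0, 2, 0, 0, -2, 0, -2, 4, 2, 0, 0, 0, 0, 2, 0, -2, 2, -2, 0, 4, 0, 0, 0], [4, 0, -2, 0, 0, -2, 0, -2, 0, -2, 0, 0, 0, 0, 2, 0, 2, 2, 2, 0, 0, 0, 4, 0], [2, 2, 0, 2, 2, 0, -2, 0, -2, 0, -2, 2, 2, -2, 0, -2, 0, 0, 0, 2, 2, -2, -2, -2]]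

def matA9 : List (List ℤ) := [[-4, 0, 0, 0, 0, -4, 0, 0, 0, 0, 0, 0, 0, 0, 4, 0, 0, 0, 0, 0, 0, 0, 0, -4], [-4, 0, 0, 0, 0, -4, 0, 0, 0, 0, 0, 0, 0, 0, -4, 0, 0, 0, 0, 0, 0, 0, 0, 4], [0, 0, 0, 0, 0, 0, 0, -4, 0, 0, 0, 4, 0, 0, 0, 0, 0, 0, 4, 4, 0, 0, 0, 0], [0, 0, 0, 0, 0, 0, 0, -4, 0, 0, 0, -4, 0, 0, 0, 0, 0, 0, 4, -4, 0, 0, 0, 0], [0, 0, 0, 0, 0, 0, 4, 0, 4, 0, 0, 0, -4, 0, 0, 0, 0, 0, 0, 0, 0, 4, 0, 0], [0, 0, 0, 0, 0, 0, 0, -4, 0, 0, 0, -4, 0, 0, 0, 0, 0, 0, -4, 4, 0, 0, 0, 0], [0, 0, 0, 0, 0, 0, 0, 0, 0, 0, -4, 0, 0, 4, 0, 4, 0, 0, 0, 0, 0, 0, 4, 0], [0, 4, -4, 4, 0, 0, 0, 0, 0, 0, 0, 0, 0, 0, 0, 0, 0, 4, 0, 0, 0, 0, 0, 0], [0, 0, 0, 0, -4, 0, 0, 0, 0, 4, 0, 0, 0, 0, 0, 0, 4, 0, 0, 0, 4, 0, 0,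 0], [0, 0, 0, 0, 4, 0, 0, 0, 0, -4, 0, 0, 0, 0, 0, 0, 4, 0, 0, 0, 4, 0, 0, 0], [0, 0, 0, 0, 0, 0, 4, 0, 4, 0, 0, 0, 4, 0, 0, 0, 0, 0, 0, 0, 0, -4, 0, 0], [0, 0, 0, 0, 0, 0, 0, 0, 0, 0, 4, 0, 0, 4, 0, 4, 0, 0, 0, 0, 0, 0, -4, 0], [0, -4, -4, 4, 0, 0, 0, 0, 0, 0, 0, 0, 0, 0, 0, 0, 0, -4, 0, 0, 0, 0, 0, 0], [0, -4, 4, 4, 0, 0, 0, 0, 0, 0, 0, 0, 0, 0, 0, 0, 0, 4, 0, 0, 0, 0, 0, 0], [4, 0, 0, 0, 0, -4, 0, 0, 0, 0, 0, 0, 0, 0, 4, 0, 0, 0, 0, 0, 0, 0, 0, 4], [0, 0, 0, 0, 0, 0, 0, 0, 0, 0, 4, 0, 0, 4, 0, -4, 0, 0, 0, 0, 0, 0, 4, 0], [0, 0, 0, 0, 0, 0, 0, 0, 0, 0, 4, 0, 0, -4, 0, 4, 0, 0, 0, 0, 0, 0, 4, 0], [0, 0, 0, 0, 0, 0, 0, 4, 0, 0, 0, -4, 0, 0, 0, 0, 0, 0, 4, 4, 0, 0, 0, 0], [0, 0, 0, 0, 0, 0, -4, 0, 4,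 0, 0, 0, 4, 0, 0, 0, 0, 0, 0, 0, 0, 4, 0, 0], [0, 0, 0, 0, -4, 0, 0, 0, 0, -4, 0, 0, 0, 0, 0, 0, 4, 0, 0, 0, -4, 0, 0, 0], [0, -4, -4, -4, 0, 0, 0, 0, 0, 0, 0, 0, 0, 0, 0, 0, 0, 4, 0, 0, 0, 0, 0, 0], [0, 0, 0, 0, 0, 0, 4, 0, -4, 0, 0, 0, 4, 0, 0, 0, 0, 0, 0, 0, 0, 4, 0, 0], [0, 0, 0, 0, -4, 0, 0, 0, 0, -4, 0, 0, 0, 0, 0, 0, -4, 0, 0, 0, 4, 0, 0, 0], [-4, 0, 0, 0, 0, 4, 0, 0, 0, 0, 0, 0, 0, 0, 4, 0, 0, 0, 0, 0, 0, 0, 0, 4]]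

def matT9 : List (List ℤ) := [[-4, -4, 0, 0, 0, 0, 0, 0, 0, 0, 0, 0, 0, 0, 4, 0, 0, 0, 0, 0, 0, 0, 0, -4], [0, 0, 0, 0, 0, 0, 0, 4, 0, 0, 0, 0, -4, -4, 0, 0, 0, 0, 0, 0, -4, 0, 0, 0], [0, 0, 0, 0, 0, 0, 0, -4, 0, 0, 0, 0, -4, 4, 0, 0, 0, 0, 0, 0, -4, 0, 0, 0], [0, 0, 0, 0, 0, 0, 0, 4, 0, 0, 0, 0, 4, 4, 0, 0, 0, 0, 0, 0, -4, 0, 0, 0], [0, 0, 0, 0, 0, 0, 0, 0, -4, 4, 0, 0, 0, 0, 0, 0, 0, 0, 0, -4, 0, 0, -4, 0], [-4, -4, 0, 0, 0, 0, 0, 0, 0, 0, 0, 0, 0, 0, -4, 0, 0, 0, 0, 0, 0, 0, 0, 4], [0, 0, 0, 0, 4, 0, 0, 0, 0, 0, 4, 0, 0, 0, 0, 0, 0, 0, -4, 0, 0, 4, 0, 0], [0, 0, -4, -4, 0, -4, 0, 0, 0, 0, 0, 0, 0, 0, 0, 0, 0, 4, 0, 0, 0, 0, 0, 0], [0, 0, 0, 0, 4, 0, 0, 0, 0, 0, 4, 0, 0, 0, 0, 0, 0, 0, 4, 0, 0, -4,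 0, 0], [0, 0, 0, 0, 0, 0, 0, 0, 4, -4, 0, 0, 0, 0, 0, 0, 0, 0, 0, -4, 0, 0, -4, 0], [0, 0, 0, 0, 0, 0, -4, 0, 0, 0, 0, 4, 0, 0, 0, 4, 4, 0, 0, 0, 0, 0, 0, 0], [0, 0, 4, -4, 0, -4, 0, 0, 0, 0, 0, 0, 0, 0, 0, 0, 0, -4, 0, 0, 0, 0, 0, 0], [0, 0, 0, 0, -4, 0, 0, 0, 0, 0, 4, 0, 0, 0, 0, 0, 0, 0, 4, 0, 0, 4, 0, 0], [0, 0, 0, 0, 0, 0, 4, 0, 0, 0, 0, 4, 0, 0, 0, 4, -4, 0, 0, 0, 0, 0, 0, 0], [4, -4, 0, 0, 0, 0, 0, 0, 0, 0, 0, 0, 0, 0, 4, 0, 0, 0, 0, 0, 0, 0, 0, 4], [0, 0, 0, 0, 0, 0, 4, 0, 0, 0, 0, 4, 0, 0, 0, -4, 4, 0, 0, 0, 0, 0, 0, 0], [0, 0, 0, 0, 0, 0, 0, 0, 4, 4, 0, 0, 0, 0, 0, 0, 0, 0, 0, 4, 0, 0, -4, 0], [0, 0, 0, 0, 0, 0, 0, 4, 0, 0, 0, 0, -4, 4, 0, 0, 0, 0, 0, 0, 4, 0, 0, 0], [0, 0, 4, 4, 0, -4, 0,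 0, 0, 0, 0, 0, 0, 0, 0, 0, 0, 4, 0, 0, 0, 0, 0, 0], [0, 0, 4, -4, 0, 4, 0, 0, 0, 0, 0, 0, 0, 0, 0, 0, 0, 4, 0, 0, 0, 0, 0, 0], [0, 0, 0, 0, 0, 0, 0, 0, 4, 4, 0, 0, 0, 0, 0, 0, 0, 0, 0, -4, 0, 0, 4, 0], [0, 0, 0, 0, 4, 0, 0, 0, 0, 0, -4, 0, 0, 0, 0, 0, 0, 0, 4, 0, 0, 4, 0, 0], [0, 0, 0, 0, 0, 0, 4, 0, 0, 0, 0, -4, 0, 0, 0, 4, 4, 0, 0, 0, 0, 0, 0, 0], [-4, 4, 0, 0, 0, 0, 0, 0, 0, 0, 0, 0, 0, 0, 4, 0, 0, 0, 0, 0, 0, 0, 0, 4]]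

def matA10 : List (List ℤ) := [[3, 1, -1, 3, -1, -1, 3, 1, -3, 1, 1, 1, 1, 1, -1, 1, 1, 1, 3, -1, -1, -1, 1, -1], [-1, 1, -1, -1, 3, -1, -1, 1, 1, 1, 1, -3, -3, 1, -1, -3, 1, 1, 3, -1, -1, -1, 1, -1], [1, -1, 1, 1, 1, 1, 1, -1, -1, -1, -1, -1, -1, -1, 1, -1, -1, -1, -3, -3, -3, -3, 3, 1], [-1, 1, 3, -1, -1, 3, -1, 5, 1, 1, 1, 1, 1, 1, -1, 1, 1, 1, -1, -1, -1, -1, 1, -1], [-1, 1, -1, -1, -1, -1, -1, 1, -3, 1, 1, 1, 1, -3, -1, -3, -3, 1, -1, -1, -1, -1, -3, -1], [3, -3, -1, -1, -1, -1, -1, 1, 1, 1, 1, -3, 1, 1, -1, 1, -3, 1, -1, -1, 3, -1, 1, -1], [3, 1, -1, -1, -1, -1, -1, 1, 1, 1, -3, 1, 1, 1, -1, -3, 1, -3, -1, 3, -1, -1, 1, -1], [1, -1, 1, 1, -3, 1, 1, -1, 3, 3, 3, -1, -1, -1, 1, -1, -1, -1, 1, 1,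 -3, 1, -1, 1], [-1, -3, -1, -1, -1, -1, -1, 1, -3, 1, 1, 1, -3, 1, 3, 1, 1, 1, -1, 3, -1, -1, 1, -1], [1, -1, 1, -3, -3, 1, 1, -1, -1, -1, -1, -1, -1, -1, 1, -1, 3, -1, 1, -3, 1, 1, -1, -3], [1, 3, 1, 1, -3, 1, -3, -1, -1, -1, -1, -1, -1, -1, 1, -1, -1, 3, 1, 1, 1, 1, 3, 1], [3, 1, -1, -1, 3, -1, -1, 1, 1, 1, 1, 1, 1, -3, 3, 1, 1, 1, -1, -1, -1, 3, 1, -1], [1, -1, 1, 1, 1, 1, -3, -1, -1, -1, -1, -1, -1, -1, -3, 3, -1, -1, 1, 1, -3, 1, -1, -3], [1, -1, 5, 1, 1, -3, 1, 3, -1, -1, -1, -1, -1, -1, 1, -1, -1, -1, 1, 1, 1, 1, -1, 1], [-3, -1, 1, 1, 1, 1, 1, -1, -1, 3, -1, -1, 3, -1, 1, -1, -1, -1, 1, 1, 1, 1, 3, -3], [1, -1, 1, 1, 1, 1, -3, -1, -1, 3, -1, 3, -1, 3, 1, -1, -1, -1, 1, -3, 1, 1, -1, 1], [-1,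 1, -1, -1, -1, -1, -1, 1, -3, 1, 1, -3, 1, 1, -1, 1, 1, -3, -1, -1, -1, 3, 1, 3], [-1, 1, -1, 3, -1, -1, -1, 1, 1, 1, 1, 1, -3, -3, -1, 1, 1, -3, -1, -1, 3, -1, 1, -1], [-1, -3, -1, -1, -1, -1, -1, 1, 1, 1, -3, 1, 1, -3, -1, 1, 1, 1, 3, -1, -1, -1, 1, 3], [-1, 1, -1, -1, -1, -1, 3, 1, 1, 1, -3, 1, -3, 1, -1, 1, -3, 1, -1, -1, -1, 3, 1, -1], [-1, 1, 3, -1, -1, -5, -1, -3, 1, 1, 1, 1, 1, 1, -1, 1, 1, 1, -1, -1, -1, -1, 1, -1], [-1, 1, -1, -1, -1, -1, -1, 1, 1, -3, 1, 1, 1, 1, 3, 1, -3, -3, 3, -1, -1, -1, 1, -1], [-1, -3, -1, 3, -1, -1, -1, 1, 1, -3, 1, 1, 1, 1, -1, -3, 1, 1, -1, -1, -1, 3, 1, -1], [-1, 1, -1, 3, -1, -1, -1, 1, 1, 1, -3, -3, 1, 1, 3, 1, 1, 1, -1, -1, -1, -1, -3, -1]]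

def matT10 : List (List ℤ) := [[3, -1, 1, -1, -1, 3, 3, 1, -1, 1, 1, 3, 1, 1, -3, 1, -1, -1, -1, -1, -1, -1, -1, -1], [1, 1, -1, 1, 1, -3, 1, -1, -3, -1, 3, 1, -1, -1, -1, -1, 1, 1, -3, 1, 1, 1, -3, 1], [-1, -1, 1, 3, -1, -1, -1, 1, -1, 1, 1, -1, 1, 5, 1, 1, -1, -1, -1, -1, 3, -1, -1, -1], [3, -1, 1, -1, -1, -1, -1, 1, -1, -3, 1, -1, 1, 1, 1, 1, -1, 3, -1, -1, -1, -1, 3, 3], [-1, 3, 1, -1, -1, -1, -1, -3, -1, -3, -3, 3, 1, 1, 1, 1, -1, -1, -1, -1, -1, -1, -1, -1], [-1, -1, 1, 3, -1, -1, -1, 1, -1, 1, 1, -1, 1, -3, 1, 1, -1, -1, -1, -1, -5, -1, -1, -1], [3, -1, 1, -1, -1, -1, -1, 1, -1, 1, -3, -1, -3, 1, 1, -3, -1, -1, -1, 3, -1, -1, -1, -1], [1, 1, -1, 5, 1, 1, 1, -1, 1, -1, -1, 1, -1, 3, -1, -1, 1,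 1, 1, 1, -3, 1, 1, 1], [-3, 1, -1, 1, -3, 1, 1, 3, -3, -1, -1, 1, -1, -1, -1, -1, -3, 1, 1, 1, 1, 1, 1, 1], [1, 1, -1, 1, 1, 1, 1, 3, 1, -1, -1, 1, -1, -1, 3, 3, 1, 1, 1, 1, 1, -3, -3, 1], [1, 1, -1, 1, 1, 1, -3, 3, 1, -1, -1, 1, -1, -1, -1, -1, 1, 1, -3, -3, 1, 1, 1, -3], [1, -3, -1, 1, 1, -3, 1, -1, 1, -1, -1, 1, -1, -1, -1, 3, -3, 1, 1, 1, 1, 1, 1, -3], [1, -3, -1, 1, 1, 1, 1, -1, -3, -1, -1, 1, -1, -1, 3, -1, 1, -3, 1, -3, 1, 1, 1, 1], [1, 1, -1, 1, -3, 1, 1, -1, 1, -1, -1, -3, -1, -1, -1, 3, 1, -3, -3, 1, 1, 1, 1, 1], [-1, -1, 1, -1, -1, -1, -1, 1, 3, 1, 1, 3, -3, 1, 1, 1, -1, -1, -1, -1, -1, 3, -1, 3], [1, -3, -1, 1, -3, 1, -3, -1, 1, -1, -1, 1, 3, -1, -1, -1, 1, 1, 1, 1, 1, 1, -3, 1], [1, 1,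 -1, 1, -3, -3, 1, -1, 1, 3, -1, 1, -1, -1, -1, -1, 1, 1, 1, -3, 1, -3, 1, 1], [1, 1, -1, 1, 1, 1, -3, -1, 1, -1, 3, 1, -1, -1, -1, -1, -3, -3, 1, 1, 1, -3, 1, 1], [3, 3, -3, -1, -1, -1, -1, 1, -1, 1, 1, -1, 1, 1, 1, 1, -1, -1, 3, -1, -1, 3, -1, -1], [-1, -1, -3, -1, -1, -1, 3, 1, 3, -3, 1, -1, 1, 1, 1, -3, -1, -1, -1, -1, -1, -1, -1, -1], [-1, -1, -3, -1, -1, 3, -1, -3, -1, 1, 1, -1, -3, 1, 1, 1, -1, 3, -1, -1, -1, -1, -1, -1], [-1, -1, -3, -1, -1, -1, -1, 1, -1, 1, 1, 3, 1, 1, 1, 1, 3, -1, -1, 3, -1, -1, 3, -1], [1, 1, 3, 1, -3, 1, 1, -1, 1, -1, 3, 1, -1, -1, 3, -1, 1, 1, 1, 1, 1, 1, 1, -3], [-1, -1, 1, -1, -1, -1, -1, 1, -1, -3, 1, -1, -3, 1, -3, 1, 3, -1, 3, -1, -1, -1, -1, -1]]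

def matA11 : List (List ℤ) := [[-3, -1, -1, -3, -1, -1, -1, -1, -1, 1, -1, -1, -1, 1, 3, -1, -1, 1, -1, 3, 1, -1, 1, -3], [-1, 1, 1, -1, 1, 1, 1, -3, -3, -1, 1, 1, -3, -1, -3, 1, 1, 3, 1, 1, -1, 1, -1, -1], [-1, 1, 1, -1, 1, 1, 1, 1, 1, -1, 1, -3, 1, -1, 1, -3, 1, 3, 1, 1, -1, 1, 3, 3], [-1, 1, 1, -1, 1, 1, 1, 1, 1, -1, 1, 1, 1, -5, 1, 1, -3, -1, 1, 1, -1, -3, -1, -1], [-1, -3, 1, -1, -3, 1, 1, 1, 1, -1, 1, -3, 1, -1, -3, 1, 1, -1, 1, 1, 3, 1, -1, -1], [-1, 1, -3, 3, -3, 1, 1, 1, 1, -1, 1, 1, -3, -1, 1, -3, 1, -1, 1, 1, -1, 1, -1, -1], [-1, 1, 1, -1, -3, 1, -3, -3, 1, -1, 1, 1, 1, -1, 1, 1, 1, -1, 1, -3, -1, 1, 3, -1], [1, -1, -1, 1, 3, 3, -1, -1, 3, 1, 3, -1, -1, 1, -1, -1, -1, 1, -1, -1, 1, -1, 1,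 -3], [-1, -3, 1, 3, 1, 1, 1, 1, -3, 3, 1, 1, 1, -1, 1, 1, 1, -1, 1, 1, -1, 1, 3, -1], [-1, 1, -3, -1, 1, 1, 1, 1, 1, -1, -3, 1, 1, -1, -3, 1, 1, -1, -3, 1, -1, 1, 3, -1], [-3, -1, -1, 1, 3, -1, -1, -1, -1, -3, -1, -1, -1, 1, -1, -1, -1, -3, 3, -1, 1, -1, 1, 1], [-1, 1, -3, -1, 1, 1, 1, -3, 1, 3, 1, 1, 1, -1, 1, 1, 1, -1, 1, 1, 3, 1, -1, 3], [-3, -1, 3, 1, -1, -1, 3, -1, 3, 1, -1, 3, -1, 1, -1, -1, -1, 1, -1, -1, 1, -1, 1, 1], [-1, 1, 1, -1, 1, 1, 1, 1, 1, -1, 1, 1, 1, 3, 1, 1, -3, -1, 1, 1, -1, 5, -1, -1], [1, -1, -1, 1, -1, 3, 3, -1, -1, -3, -1, -1, -1, 1, 3, 3, -1, 1, -1, -1, 1, -1, 1, 1], [-1, 1, 1, -1, 1, 1, 1, 1, 1, -1, 1, 1, 1, 3, 1, 1, 5, -1, 1, 1, -1, -3, -1, -1], [-1, 1, 1, -1, 1, 1, 1, 1,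 1, 3, -3, -3, -3, -1, 1, 1, 1, -1, 1, -3, -1, 1, -1, -1], [-1, 1, 1, 3, 1, 1, -3, 1, 1, -1, -3, 1, 1, -1, 1, 1, 1, 3, 1, 1, 3, 1, -1, -1], [-1, 1, 1, -1, 1, 1, 1, 1, -3, -1, 1, 1, 1, -1, 1, -3, 1, -1, -3, -3, 3, 1, -1, -1], [-3, 3, -1, 1, -1, -1, -1, 3, -1, 1, 3, -1, -1, 1, -1, 3, -1, 1, -1, -1, 1, -1, 1, 1], [3, 1, 1, -1, 1, -3, 1, 1, 1, -1, 1, 1, -3, -1, 1, 1, 1, -1, 1, 1, 3, 1, 3, -1], [1, -1, -1, -3, -1, 3, -1, 3, -1, 1, -1, 3, -1, 1, -1, -1, -1, 1, 3, -1, 1, -1, 1, 1], [1, 3, 3, 1, -1, 3, -1, -1, -1, 1, -1, -1, -1, 1, -1, -1, -1, -3, -1, 3, 1, -1, 1, 1], [-1, -3, 1, -1, 1, 1, -3, 1, 1, -1, 1, 1, -3, -1, 1, 1, 1, -1, -3, 1, -1, 1, -1, 3]]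

def matT11 : List (List ℤ) := [[-3, -1, -1, -1, -1, -1, -1, 1, -1, -1, -3, -1, -3, -1, 1, -1, -1, -1, -1, -3, 3, 1, 1, -1], [-1, 1, 1, 1, -3, 1, 1, -1, -3, 1, -1, 1, -1, 1, -1, 1, 1, 1, 1, 3, 1, -1, 3, -3], [-1, 1, 1, 1, 1, -3, 1, -1, 1, -3, -1, -3, 3, 1, -1, 1, 1, 1, 1, -1, 1, -1, 3, 1], [-3, -1, -1, -1, -1, 3, -1, 1, 3, -1, 1, -1, 1, -1, 1, -1, -1, 3, -1, 1, -1, -3, 1, -1], [-1, 1, 1, 1, -3, -3, -3, 3, 1, 1, 3, 1, -1, 1, -1, 1, 1, 1, 1, -1, 1, -1, -1, 1], [-1, 1, 1, 1, 1, 1, 1, 3, 1, 1, -1, 1, -1, 1, 3, 1, 1, 1, 1, -1, -3, 3, 3, 1], [-1, 1, 1, 1, 1, 1, -3, -1, 1, 1, -1, 1, 3, 1, 3, 1, 1, -3, 1, -1, 1, -1, -1, -3], [-1, -3, 1, 1, 1, 1, -3, -1, 1, 1, -1, -3, -1, 1, -1, 1, 1, 1, 1, 3, 1, 3, -1, 1],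 [-1, -3, 1, 1, 1, 1, 1, 3, -3, 1, -1, 1, 3, 1, -1, 1, 1, 1, -3, -1, 1, -1, -1, 1], [1, -1, -1, -1, -1, -1, -1, 1, 3, -1, -3, 3, 1, -1, -3, -1, 3, -1, -1, 1, -1, 1, 1, -1], [-1, 1, 1, 1, 1, 1, 1, 3, 1, -3, -1, 1, -1, 1, -1, 1, -3, -3, 1, 3, 1, -1, -1, 1], [-1, 1, -3, 1, -3, 1, 1, -1, 1, 1, -1, 1, 3, 1, -1, 1, -3, 1, 1, -1, 1, 3, -1, 1], [-1, -3, 1, 1, 1, -3, 1, -1, 1, 1, -1, 1, -1, 1, -1, 1, -3, 1, 1, -1, -3, -1, -1, -3], [1, -1, -1, -5, -1, -1, -1, 1, -1, -1, 1, -1, 1, 3, 1, 3, -1, -1, -1, 1, -1, 1, 1, -1], [3, -3, 1, 1, -3, 1, 1, -1, 1, -3, -1, 1, -1, 1, 3, 1, 1, 1, 1, -1, 1, -1, -1, 1], [-1, 1, -3, 1, 1, -3, 1, -1, 1, 1, -1, 1, -1, 1, 3, 1, 1, 1, -3, 3, 1, -1, -1, 1], [-1, 1, 1, -3, 1, 1, 1, -1, 1,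 1, -1, 1, -1, -3, -1, 5, 1, 1, 1, -1, 1, -1, -1, 1], [1, 3, 3, -1, -1, -1, -1, 1, -1, -1, -3, -1, 1, -1, 1, -1, -1, 3, -1, 1, -1, 1, -3, -1], [-1, 1, 1, 1, 1, 1, 1, -1, 1, -3, 3, 1, -1, 1, -1, 1, 1, 1, -3, -1, 1, 3, -1, -3], [3, 1, 1, 1, 1, 1, -3, -1, 1, 1, -1, 1, -1, 1, -1, 1, -3, 1, -3, -1, 1, -1, 3, 1], [1, -1, -1, -1, 3, -1, -1, 1, -1, -1, 1, 3, 1, -1, 1, -1, -1, 3, 3, 1, 3, 1, 1, -1], [-1, 1, 1, -3, 1, 1, 1, -1, 1, 1, -1, 1, -1, 5, -1, -3, 1, 1, 1, -1, 1, -1, -1, 1], [1, -1, 3, -1, -1, -1, 3, 1, 3, 3, 1, -1, 1, -1, 1, -1, -1, -1, -1, 1, 3, 1, 1, -1], [-3, -1, 3, -1, -1, -1, -1, -3, -1, -1, 1, 3, 1, -1, 1, -1, -1, -1, -1, 1, -1, 1, 1, 3]]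

def matA12 : List (List ℤ) := [[3, 1, -1, 1, -3, 1, -3, -1, 1, -1, 1, -1, -1, 1, -1, -1, -1, -3, -1, 1, -1, 1, 1, 3], [1, -1, 1, -1, -1, -1, -1, 1, -1, 1, -1, 1, 1, 3, 1, -3, 1, 3, 1, -1, -3, 3, -1, 1], [-1, 1, 3, 1, -3, 1, 1, -1, -3, -1, 1, -1, -1, 1, -1, 3, -1, 1, -1, 1, -1, 1, -3, -1], [1, 3, 1, -1, -1, -1, -1, 1, -1, 5, -1, 1, -3, -1, 1, 1, 1, -1, 1, -1, 1, -1, -1, 1], [1, -1, 1, -1, 3, 3, -1, -3, -1, 1, -1, 1, 1, 3, 1, 1, -3, -1, 1, -1, 1, -1, -1, 1], [-3, -1, 1, -1, -1, -1, -1, 1, -1, 1, 3, 1, 1, 3, 1, 1, 1, -1, -3, -1, 1, -1, 3, 1], [1, -1, 1, -1, -1, -1, -1, 1, 3, 1, -1, 1, 1, -1, 1, 1, -3, 3, -3, 3, 1, -1, -1, 1], [1, -1, -3, 3, -1, -1, -1, 1, -1, 1, -1, 1, 1, 3, 1, 1, 1, -1, 1, 3, 1, -1,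 -1, -3], [1, -1, 1, 3, -1, -1, 3, 1, -1, 1, 3, 1, 1, -1, 1, -3, -3, -1, 1, -1, 1, -1, -1, 1], [3, 1, -1, 1, 1, 1, 1, 3, 1, -1, 1, 3, -1, 1, -1, 3, -1, 1, -1, -3, -1, 1, 1, -1], [-1, 1, -1, 1, 1, -3, 1, -1, 1, -1, 1, -1, -1, 1, 3, 3, -1, 1, 3, 1, -1, 1, 1, 3], [-1, 1, -1, 1, -3, 1, 1, -1, 1, -1, -3, -1, -1, 1, 3, -1, -1, 1, -1, -3, 3, 1, 1, -1], [-1, 1, 3, 1, 1, -3, 1, -1, 1, -1, -3, 3, -1, 1, -1, -1, -1, -3, -1, 1, -1, 1, 1, -1], [1, -1, 1, -1, -1, -1, -1, 1, -1, 1, -1, -3, 1, -1, 1, 1, -3, -1, 1, -1, -3, -1, 3, -3], [-1, 5, -1, 1, 1, 1, 1, -1, 1, 3, 1, -1, 3, 1, -1, -1, -1, 1, -1, 1, -1, 1, 1, -1], [-1, 1, -1, 1, 1, -3, -3, -1, 1, -1, 1, -1, -1, 1, -1, -1, -1, 1, -1, -3, -1, -3, -3, -1], [1, -1, 1,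 3, 3, -1, -1, 1, -1, 1, -1, -3, 1, -1, 1, 1, 1, -1, -3, -1, 1, 3, -1, 1], [-1, 1, -1, 1, 1, 1, 1, 3, -3, -1, -3, -1, -1, 1, -1, -1, -1, 1, -1, 1, -1, -3, 1, 3], [1, 3, 1, -1, -1, -1, -1, 1, -1, -3, -1, 1, 5, -1, 1, 1, 1, -1, 1, -1, 1, -1, -1, 1], [-1, 1, -1, -3, 1, 1, 1, 3, 1, -1, 1, -1, -1, 1, 3, -1, -1, -3, -1, 1, -1, 1, -3, -1], [-1, 1, -1, 1, 1, 1, -3, -1, -3, -1, 1, 3, -1, -3, 3, -1, -1, 1, -1, 1, -1, 1, 1, -1], [3, 1, 3, 1, 1, 1, 1, -1, 1, -1, 1, -1, -1, 1, 3, -1, 3, 1, -1, 1, -1, -3, 1, -1], [-3, -1, 1, 3, -1, 3, -1, 1, 3, 1, -1, 1, 1, -1, 1, 1, 1, -1, 1, -1, -3, -1, -1, 1], [1, -1, -3, -1, -1, -1, 3, -3, -1, 1, -1, 1, 1, -1, 1, 1, 1, -1, -3, -1, -3, -1, -1, 1]]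

def matT12 : List (List ℤ) := [[3, 1, -1, 1, 1, -3, 1, 1, 1, 3, -1, -1, -1, 1, -1, -1, 1, -1, 1, -1, -1, 3, -3, 1], [1, -1, 1, 3, -1, -1, -1, -1, -1, 1, 1, 1, 1, -1, 5, 1, -1, 1, 3, 1, 1, 1, -1, -1], [-1, 1, 3, 1, 1, 1, 1, -3, 1, -1, -1, -1, 3, 1, -1, -1, 1, -1, 1, -1, -1, 3, 1, -3], [1, -1, 1, -1, -1, -1, -1, 3, 3, 1, 1, 1, 1, -1, 1, 1, 3, 1, -1, -3, 1, 1, 3, -1], [-3, -1, -3, -1, 3, -1, -1, -1, -1, 1, 1, -3, 1, -1, 1, 1, 3, 1, -1, 1, 1, 1, -1, -1], [1, -1, 1, -1, 3, -1, -1, -1, -1, 1, -3, 1, -3, -1, 1, -3, -1, 1, -1, 1, 1, 1, 3, -1], [-3, -1, 1, -1, -1, -1, -1, -1, 3, 1, 1, 1, 1, -1, 1, -3, -1, 1, -1, 1, -3, 1, -1, 3], [-1, 1, -1, 1, -3, 1, 1, 1, 1, 3, -1, -1, -1, 1, -1, -1, 1, 3, 1, 3, -1, -1, 1,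 -3], [1, -1, -3, -1, -1, -1, 3, -1, -1, 1, 1, 1, 1, -1, 1, 1, -1, -3, -1, 1, -3, 1, 3, -1], [-1, 1, -1, 5, 1, 1, 1, 1, 1, -1, -1, -1, -1, 1, 3, -1, 1, -1, -3, -1, -1, -1, 1, 1], [1, -1, 1, -1, -1, 3, -1, -1, 3, 1, 1, -3, -3, -1, 1, 1, -1, -3, -1, 1, 1, 1, -1, -1], [-1, 1, -1, 1, 1, 1, 1, 1, 1, 3, -1, -1, 3, -3, -1, -1, -3, -1, 1, -1, 3, -1, 1, 1], [-1, 1, -1, -3, 1, 1, 1, 1, 1, -1, -1, -1, -1, 1, 3, -1, 1, -1, 5, -1, -1, -1, 1, 1], [1, 3, 1, -1, 3, 3, -1, 3, -1, 1, 1, 1, 1, -1, 1, 1, -1, 1, -1, 1, -3, 1, -1, -1], [-1, 1, -1, 1, 1, 1, 1, 1, 1, -1, 3, 3, -1, 1, -1, -1, 1, -1, 1, 3, 3, 3, 1, 1], [-1, -3, 3, 1, 1, 1, 1, 1, -3, 3, 3, -1, -1, 1, -1, -1, 1, -1, 1, -1, -1, -1, 1, 1], [-1, 1, -1, 1, -3, 1, -3,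 1, -3, -1, -1, -1, -1, -3, -1, -1, 1, -1, 1, -1, -1, 3, 1, 1], [-3, 3, 1, -1, -1, -1, 3, -1, -1, 1, 1, 1, -3, -1, 1, 1, -1, 1, -1, -3, 1, 1, -1, -1], [-1, 1, -1, 1, 1, -3, -3, 1, 1, -1, 3, -1, -1, 1, -1, -1, -3, -1, 1, -1, -1, -1, 1, -3], [1, -1, 1, -1, -1, -1, 3, 3, -1, -3, 1, -3, 1, -1, 1, -3, -1, 1, -1, 1, 1, 1, -1, -1], [-1, -3, -1, 1, 1, 1, 1, 1, 1, -1, -1, 3, -1, -3, -1, -1, 1, -1, 1, -1, -1, -1, -3, -3], [1, 3, 1, -1, -1, -1, -1, -1, -1, 1, 1, 1, 1, -1, 1, -3, 3, -3, -1, 1, 1, -3, -1, -1], [1, -1, -3, -1, -1, 3, -1, -1, -1, 1, 1, 1, 1, 3, 1, -3, -1, 1, -1, -3, 1, 1, -1, -1], [3, 1, -1, 1, 1, 1, 1, -3, 1, -1, 3, -1, -1, -3, -1, -1, 1, 3, 1, -1, -1, -1, 1, 1]]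

def matA13 : List (List ℤ) := [[0, 0, 0, 0, 0, 0, 2, 2, -2, 0, 0, -4, -2, -2, 0, -2, -2, -2, 2, -2, 0, 0, -2, -2], [0, 0, -4, 0, 0, 0, -2, -2, -2, 0, 0, 0, -2, -2, 0, -2, 2, -2, -2, -2, 0, 0, 2, 2], [0, -4, 0, 0, 0, 0, 2, -2, 2, 0, 0, 0, -2, 2, 0, -2, 2, -2, 2, 2, 0, 0, -2, 2], [0, 0, 0, 0, 0, 0, -2, 2, 2, -4, 0, 0, -2, -2, 0, 2, 2, -2, 2, 2, 0, 0, 2, -2], [0, 0, 0, 0, 0, 0, 2, -2, -2, 0, 4, 0, -2, 2, 0, 2, -2, -2, -2, 2, 0, 0, 2, -2], [2, 2, 2, 2, -2, -2, 0, 0, 0, -2, 2, -2, 0, 0, 2, 0, 0, 0, 0, 0, 2, -2, 0, 4], [-2, 2, -2, -2, 2, -2, 0, 0, 4, 2, 2, -2, 0, 0, 2, 0, 0, 0, 0, 0, 2, 2, 0, 0], [2, 2, 2, 2, 2, -2, 0, 0, 0, 2, -2, 2, 0, 0, 2, 0, 0, -4, 0, 0, -2, 2, 0, 0], [-2, -2, -2, 2, -2, -2, 0, 0, 0,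 2, -2, -2, 0, 0, 2, 4, 0, 0, 0, 0, -2, -2, 0, 0], [0, 0, 0, 0, 0, 0, -2, -2, 2, 0, 0, 0, 2, -2, 0, -2, -2, -2, -2, 2, 0, -4, -2, -2], [0, 0, 0, 0, 0, -4, 2, -2, -2, 0, 0, 0, 2, -2, 0, -2, 2, 2, 2, 2, 0, 0, 2, -2], [0, 0, 0, 0, 0, 0, -2, -2, -2, 0, 0, 0, 2, 2, 0, 2, 2, -2, 2, -2, 4, 0, -2, -2], [2, -2, -2, 2, 2, 2, 0, 0, 0, -2, 2, -2, 4, 0, 2, 0, 0, 0, 0, 0, -2, 2, 0, 0], [-4, 0, 0, 0, 0, 0, -2, 2, -2, 0, 0, 0, 2, 2, 0, -2, -2, -2, 2, 2, 0, 0, 2, 2], [-2, 2, 2, -2, -2, 2, 0, -4, 0, -2, -2, -2, 0, 0, 2, 0, 0, 0, 0, 0, -2, 2, 0, 0], [2, 2, -2, -2, -2, 2, 0, 0, 0, 2, 2, 2, 0, 0, 2, 0, 0, 0, 4, 0, -2, -2, 0, 0], [2, 2, -2, -2, 2, -2, 0, 0, 0, -2, -2, -2, 0, 4, -2, 0, 0, 0, 0, 0, -2, -2, 0, 0], [0, 0, 0,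 0, 4, 0, -2, -2, -2, 0, 0, 0, -2, -2, 0, 2, -2, 2, 2, 2, 0, 0, -2, 2], [0, 0, 0, 4, 0, 0, -2, -2, 2, 0, 0, 0, -2, 2, 0, -2, -2, 2, 2, -2, 0, 0, 2, -2], [-2, 2, 2, 2, 2, 2, 0, 0, 0, 2, 2, -2, 0, 0, -2, 0, 4, 0, 0, 0, -2, -2, 0, 0], [-2, 2, -2, 2, 2, 2, 4, 0, 0, -2, -2, 2, 0, 0, 2, 0, 0, 0, 0, 0, 2, -2, 0, 0], [-2, 2, -2, 2, -2, -2, 0, 0, 0, -2, 2, 2, 0, 0, -2, 0, 0, 0, 0, 0, -2, 2, -4, 0], [-2, -2, 2, -2, 2, -2, 0, 0, 0, -2, 2, 2, 0, 0, 2, 0, 0, 0, 0, -4, -2, -2, 0, 0], [0, 0, 0, 0, 0, 0, 2, -2, 2, 0, 0, 0, 2, -2, -4, 2, -2, -2, 2, -2, 0, 0, 2, 2]]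

def matT13 : List (List ℤ) := [[0, 0, 0, 0, 0, 2, -2, 2, -2, 0, 0, 0, 2, -4, -2, 2, 2, 0, 0, -2, -2, -2, -2, 0], [0, 0, -4, 0, 0, 2, 2, 2, -2, 0, 0, 0, -2, 0, 2, 2, 2, 0, 0, 2, 2, 2, -2, 0], [0, -4, 0, 0, 0, 2, -2, 2, -2, 0, 0, 0, -2, 0, 2, -2, -2, 0, 0, 2, -2, -2, 2, 0], [0, 0, 0, 0, 0, 2, -2, 2, 2, 0, 0, 0, 2, 0, -2, -2, -2, 0, 4, 2, 2, 2, -2, 0], [0, 0, 0, 0, 0, -2, 2, 2, -2, 0, 0, 0, 2, 0, -2, -2, 2, 4, 0, 2, 2, -2, 2, 0], [0, 0, 0, 0, 0, -2, -2, -2, -2, 0, -4, 0, 2, 0, 2, 2, -2, 0, 0, 2, 2, -2, -2, 0], [2, -2, 2, -2, 2, 0, 0, 0, 0, -2, 2, -2, 0, -2, 0, 0, 0, -2, -2, 0, 4, 0, 0, 2], [2, -2, -2, 2, -2, 0, 0, 0, 0, -2, -2, -2, 0, 2, -4, 0, 0, -2, -2, 0, 0, 0, 0, -2], [-2, -2, 2, 2, -2, 0, 4, 0, 0,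 2, -2, -2, 0, -2, 0, 0, 0, -2, 2, 0, 0, 0, 0, 2], [0, 0, 0, -4, 0, -2, 2, 2, 2, 0, 0, 0, -2, 0, -2, 2, -2, 0, 0, 2, -2, -2, -2, 0], [0, 0, 0, 0, 4, 2, 2, -2, -2, 0, 0, 0, 2, 0, -2, 2, -2, 0, 0, 2, -2, 2, 2, 0], [-4, 0, 0, 0, 0, -2, -2, 2, -2, 0, 0, 0, -2, 0, -2, 2, -2, 0, 0, -2, 2, 2, 2, 0], [-2, -2, -2, -2, -2, 0, 0, 0, 0, 2, 2, 2, 4, 2, 0, 0, 0, -2, -2, 0, 0, 0, 0, 2], [-2, -2, 2, -2, 2, 0, 0, 0, 0, -2, -2, 2, 0, 2, 0, 0, 4, -2, 2, 0, 0, 0, 0, -2], [0, 0, 0, 0, 0, 2, 2, 2, 2, 0, 0, 0, 2, 0, 2, 2, -2, 0, 0, -2, 2, -2, 2, -4], [-2, -2, -2, 2, 2, 0, 0, 0, 4, -2, -2, 2, 0, -2, 0, 0, 0, 2, -2, 0, 0, 0, 0, 2], [-2, 2, 2, 2, -2, 0, 0, 0, 0, -2, 2, 2, 0, -2, 0, 0, 0, -2, -2, 4, 0, 0, 0, -2], [-2, -2, -2,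 -2, -2, 0, 0, -4, 0, -2, 2, -2, 0, -2, 0, 0, 0, 2, 2, 0, 0, 0, 0, -2], [2, -2, 2, 2, -2, 0, 0, 0, 0, -2, 2, 2, 0, 2, 0, 4, 0, 2, 2, 0, 0, 0, 0, 2], [-2, -2, 2, 2, 2, 0, 0, 0, 0, 2, 2, -2, 0, 2, 0, 0, 0, 2, -2, 0, 0, 0, -4, -2], [0, 0, 0, 0, 0, 2, 2, -2, -2, 0, 0, 4, -2, 0, -2, -2, -2, 0, 0, -2, 2, -2, -2, 0], [0, 0, 0, 0, 0, -2, 2, 2, -2, -4, 0, 0, 2, 0, 2, -2, -2, 0, 0, -2, -2, 2, -2, 0], [-2, 2, -2, 2, 2, 0, 0, 0, 0, -2, 2, -2, 0, 2, 0, 0, 0, -2, 2, 0, 0, -4, 0, 2], [-2, 2, 2, -2, -2, 4, 0, 0, 0, -2, -2, -2, 0, 2, 0, 0, 0, 2, -2, 0, 0, 0, 0, 2]]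

def matA14 : List (List ℤ) := [[-3, -1, -1, 1, 1, 1, 1, -1, 1, 1, 1, -1, -1, 3, -3, 1, 1, 1, 1, 1, 1, 3, -1, -3], [-1, -3, 1, -1, -1, -1, -1, -3, -1, -1, -1, 1, -3, 1, -1, -1, -1, -1, -1, -1, 3, -3, 1, -1], [1, 3, -1, 1, 1, 1, -3, -1, 1, 1, 1, -1, -1, -1, 1, 1, 1, -3, 1, 1, 1, -1, 3, -3], [-3, -1, -1, 1, 1, -3, 1, -1, 1, 1, 1, -1, -1, -1, 1, 1, 1, -3, -3, 1, -3, -1, -1, 1], [1, -1, -1, 1, 1, 1, 1, -1, -3, -3, -3, -1, -1, -1, 1, 1, 1, 1, 1, 1, -3, -1, -1, -3], [-3, -1, -1, 1, 1, 1, -3, 3, 1, 1, -3, 3, -1, -1, 1, 1, 1, 1, 1, 1, 1, -1, -1, 1], [-1, 1, -3, -1, 3, 3, -1, -3, -1, -1, -1, 1, 1, 1, -1, -1, -1, -1, -1, -1, -1, 1, 1, 3], [-1, 1, 1, 3, -1, -1, -1, 1, -1, -1, -1, 1, 1, 1, -1, -1, -5, -1, -1, 3,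 -1, 1, 1, -1], [1, -1, -1, 1, 1, -3, -3, -1, -3, 1, 1, -1, 3, 3, 1, 1, 1, 1, 1, 1, 1, -1, -1, 1], [1, -1, -1, 1, 1, 1, 1, -1, 1, 1, 1, 3, 3, -1, 1, -3, 1, 1, -3, 1, 1, -1, -1, -3], [1, -1, -1, 1, -3, 1, 1, -1, -3, 1, 1, 3, -1, -1, 1, 1, 1, -3, 1, 1, 1, 3, -1, 1], [-1, 1, -3, -1, -1, -1, -1, 1, -1, -1, -1, -3, 1, -3, -1, -1, -1, -1, -1, -1, 3, 1, -3, -1], [-3, 3, 3, 1, 1, 1, 1, -1, -3, 1, 1, -1, -1, -1, 1, -3, 1, 1, 1, 1, 1, -1, -1, 1], [1, -1, 3, 1, 1, 1, -3, -1, 1, -3, 1, -1, -1, -1, 1, 1, 1, 1, -3, 1, 1, 3, -1, 1], [3, 1, 1, -1, 3, -1, -1, 1, -1, 3, -1, 1, -3, 1, -1, -1, -1, -1, -1, -1, -1, 1, -3, -1], [1, -1, -1, -3, 1, 1, 1, -1, 1, 1, 1, -1, -1, -1, 1, 1, -3, 1, 1, 5, 1, -1, -1, 1], [1, -1, -1,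 5, 1, 1, 1, -1, 1, 1, 1, -1, -1, -1, 1, 1, -3, 1, 1, -3, 1, -1, -1, 1], [1, 3, -1, 1, -3, 1, 1, -1, 1, 1, -3, -1, -1, 3, 1, 1, 1, 1, -3, 1, 1, -1, -1, 1], [1, -1, -1, 1, 1, 1, 1, 3, 1, -3, 1, -1, -1, 3, 1, -3, 1, -3, 1, 1, 1, -1, -1, 1], [-1, 1, 1, -1, -1, -1, -1, -3, 3, -1, -1, 1, 1, 1, 3, -1, -1, -1, 3, -1, -1, 1, -3, -1], [-1, 1, -3, -1, -1, -1, -1, 1, -1, -1, 3, 1, -3, 1, 3, -1, -1, 3, -1, -1, -1, 1, 1, -1], [1, -1, -1, 1, 1, -3, 1, -1, 1, 1, -3, -1, -1, -1, 1, -3, 1, 1, 1, 1, 1, 3, 3, 1], [-1, 1, 1, -1, 3, -1, 3, 1, -1, -1, -1, 1, 1, 1, 3, 3, -1, -1, -1, -1, 3, 1, 1, -1], [1, 3, -1, 1, 1, -3, 1, -1, 1, -3, 1, 3, -1, -1, -3, 1, 1, 1, 1, 1, 1, -1, -1, 1]]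

def matT14 : List (List ℤ) := [[-3, -1, 1, -3, 1, -3, -1, -1, 1, 1, 1, -1, -3, 1, 3, 1, 1, 1, 1, -1, -1, 1, -1, 1], [-1, -3, 3, -1, -1, -1, 1, 1, -1, -1, -1, 1, 3, -1, 1, -1, -1, 3, -1, 1, 1, -1, 1, 3], [-1, 1, -1, -1, -1, -1, -3, 1, -1, -1, -1, -3, 3, 3, 1, -1, -1, -1, -1, 1, -3, -1, 1, -1], [1, -1, 1, 1, 1, 1, -1, 3, 1, 1, 1, -1, 1, 1, -1, -3, 5, 1, 1, -1, -1, 1, -1, 1], [1, -1, 1, 1, 1, 1, 3, -1, 1, 1, -3, -1, 1, 1, 3, 1, 1, -3, 1, -1, -1, 1, 3, 1], [1, -1, 1, -3, 1, 1, 3, -1, -3, 1, 1, -1, 1, 1, -1, 1, 1, 1, 1, -1, -1, -3, -1, -3], [1, -1, -3, 1, 1, -3, -1, -1, -3, 1, 1, -1, 1, -3, -1, 1, 1, 1, 1, -1, -1, 1, 3, 1], [-1, -3, -1, -1, -1, 3, -3, 1, -1, -1, -1, 1, -1, -1, 1, -1, -1, -1, 3, -3, 1, -1,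 1, -1], [1, -1, 1, 1, -3, 1, -1, -1, -3, 1, -3, -1, -3, 1, -1, 1, 1, 1, 1, 3, -1, 1, -1, 1], [1, -1, 1, 1, -3, 1, -1, -1, 1, 1, 1, -1, 1, -3, 3, 1, 1, 1, -3, -1, -1, 1, -1, -3], [1, -1, 1, 1, -3, -3, -1, -1, 1, 1, 1, -1, 1, 1, -1, 1, 1, -3, 1, -1, 3, -3, -1, 1], [-1, 1, -1, -1, -1, 3, 1, 1, -1, 3, 3, -3, -1, -1, 1, -1, -1, -1, -1, 1, 1, -1, 1, 3], [-1, -3, -1, -1, -1, -1, 1, 1, 3, 3, -1, 1, -1, -1, -3, -1, -1, -1, -1, 1, -3, -1, 1, -1], [3, 1, -1, -1, -1, -1, 1, 1, 3, -1, -1, -3, -1, -1, 1, -1, -1, 3, 3, 1, 1, -1, 1, -1], [-3, -1, 1, 1, 1, 1, -1, -1, 1, 1, 1, -1, 1, 1, -1, 1, 1, 1, 1, 3, 3, 1, 3, -3], [1, -1, 1, 1, 1, 1, -1, -1, 1, -3, 1, -1, -3, 1, -1, 1, 1, 1, -3, -1, -1, -3, 3, 1], [1, -1, 1, 1,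 1, 1, -1, -5, 1, 1, 1, -1, 1, 1, -1, -3, -3, 1, 1, -1, -1, 1, -1, 1], [1, -1, -3, -3, 1, 1, -1, -1, 1, 1, -3, -1, 1, 1, -1, 1, 1, 1, -3, -1, 3, 1, -1, 1], [1, -1, 1, -3, 1, 1, -1, -1, 1, -3, 1, -1, 1, -3, -1, 1, 1, -3, 1, 3, -1, 1, -1, 1], [1, -1, 1, 1, 1, 1, -1, 3, 1, 1, 1, -1, 1, 1, -1, 5, -3, 1, 1, -1, -1, 1, -1, 1], [1, 3, 1, -3, -3, 1, -1, -1, 1, 1, 1, 3, 1, 1, -1, 1, 1, 1, 1, -1, -1, 1, 3, 1], [3, -3, -1, -1, -1, -1, 1, 1, -1, -1, 3, 1, -1, 3, 1, -1, -1, -1, -1, 1, 1, 3, 1, -1], [-1, 1, 3, -1, -1, -1, 1, 1, -1, -1, -1, -3, -1, -1, -3, -1, -1, -1, -1, -3, 1, 3, 1, -1], [-3, -1, -3, 1, -3, 1, 3, -1, 1, -3, 1, -1, 1, 1, -1, 1, 1, 1, 1, -1, -1, 1, -1, 1]]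

def mats : List Mat := [(matA0, matT0), (matA1, matT1), (matA2, matT2), (matA3, matT3), (matA4, matT4), (matA5, matT5), (matA6, matT6), (matA7, matT7), (matA8, matT8), (matA9, matT9), (matA10, matT10), (matA11, matT11), (matA12, matT12), (matA13, matT13), (matA14, matT14)]

def rels : Rels := [
  ([0, 0, 0], []),
  ([1, 0], [0, 1]),
  ([1, 1, 1], []),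
  ([2, 0], [0, 2]),
  ([2, 1], [1, 2]),
  ([2, 2, 2], []),
  ([3, 0], [0, 3]),
  ([3, 1], [1, 2, 3]),
  ([3, 2], [2, 3]),
  ([3, 3, 3], []),
  ([4, 0], [0, 2, 4]),
  ([4, 1], [1, 4]),
  ([4, 2], [2, 4]),
  ([4, 3], [3, 4]),
  ([4, 4, 4], []),
  ([5, 0], [4, 5]),
  ([5, 1], [1, 3, 5]),
  ([5, 2], [2, 5]),
  ([5, 3], [3, 5]),
  ([5, 4], [0, 0, 2, 2, 4, 4, 5]),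
  ([5, 5, 5], []),
  ([6, 0], [0, 6]),
  ([6, 1], [1, 2, 3, 6]),
  ([6, 2], [2, 6]),
  ([6, 3], [3, 6]),
  ([6, 4], [4, 6]),
  ([6, 5], [5, 6]),
  ([6, 6, 6], []),
  ([7, 0], [0, 3, 3, 7]),
  ([7, 1], [0, 1, 2, 4, 4, 7]),
  ([7, 2], [2, 7]),
  ([7, 3], [3, 7]),
  ([7, 4], [3, 3, 4, 7]),
  ([7, 5], [5, 7]),
  ([7, 6], [6, 7]),
  ([7, 7, 7], []),
  ([8, 0], [0, 1, 3, 3, 8]),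
  ([8, 1], [0, 1, 4, 4, 8]),
  ([8, 2], [2, 8]),
  ([8, 3], [0, 3, 4, 4, 8]),
  ([8, 4], [1, 3, 3, 4, 8]),
  ([8, 5], [5, 5, 6, 6, 7, 8]),
  ([8, 6], [0, 4, 4, 5, 7, 8]),
  ([8, 7], [0, 0, 3, 3, 4, 5, 5, 6, 7, 8]),
  ([8, 8, 8], []),
  ([9, 0], [1, 2, 3, 3, 4, 9]),
  ([9, 0, 1], [0, 0, 1, 1, 2, 9]),
  ([9, 2], [2, 2, 9]),
  ([9, 3], [0, 0, 1, 1, 4, 9]),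
  ([9, 0, 1, 4], [0, 4, 9]),
  ([10, 3], [3, 10]),
  ([10, 2, 2, 6], [2, 3, 6, 6, 10]),
  ([11, 5], [5, 11]),
  ([11, 0, 2, 2, 4, 4, 7], [0, 0, 4, 7, 7, 11]),
  ([12, 2], [0, 0, 2, 2, 3, 4, 5, 6, 6, 7, 12]),
  ([12, 3], [3, 5, 12]),
  ([12, 0, 4], [0, 0, 2, 2, 3, 3, 4, 12]),
  ([12, 6], [6, 6, 12]),
  ([13, 8], [8, 8, 13]),
  ([14, 0], [0, 2, 3, 3, 4, 4, 14]),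
  ([14, 1], [0, 0, 1, 3, 3, 14]),
  ([14, 2], [2, 2, 14]),
  ([14, 1, 3], [0, 0, 4, 14]),
  ([14, 1, 4], [0, 3, 4, 14]),
  ([14, 5, 6, 6, 7, 7, 8, 8], [0, 2, 2, 7, 8, 8, 14])]

def paths0 : List (List ℕ × List ℕ) := [
  ([3, 1, 0], [3584, 3074, 1537, 512, 3841, 3328, 769]),
  ([4, 1, 0], [5632, 5121, 512, 2305, 5890, 5376, 769]),
  ([4, 3, 0], [6656, 5121, 3072, 4097, 6914, 5376, 3329]),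
  ([5, 0, 0, 0], [7680, 7681, 7682, 7168, 257]),
  ([5, 5, 5, 1], [10240, 10497, 4865, 9475, 9476, 9474, 8448, 8449, 8450]),
  ([5, 1, 0], [8192, 7682, 6913, 5888, 8449, 7936, 769]),
  ([5, 2, 0], [8704, 7681, 6400, 8961, 7936, 1793]),
  ([5, 3, 0], [9216, 7681, 6912, 9473, 7936, 3329]),
  ([5, 3, 1], [9216, 8193, 3584, 9475, 4353, 8962, 8448, 3841]),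
  ([6, 1, 0], [11264, 10755, 3074, 1537, 512, 11521, 11008, 769]),
  ([6, 4, 0], [12800, 10753, 5120, 13058, 12033, 11008, 5377]),
  ([6, 5, 0], [13312, 10753, 7680, 13569, 13056, 7937]),
  ([6, 5, 1], [13312, 11265, 8192, 8706, 4097, 9219, 13572, 12547, 11520, 8449]),
  ([7, 4, 1], [16384, 14851, 5122, 5636, 6149, 7174, 2051, 3073, 3586, 4100, 4101, 2563, 3072, 3585, 7429, 6916, 6917, 6915, 6916, 16645, 15104, 5889]),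
  ([7, 5, 0], [16896, 14337, 7680, 9217, 6656, 9218, 6657, 17155, 16640, 7937]),
  ([7, 5, 1], [16896, 14849, 7680, 8193, 8707, 9732, 9738, 5129, 5131, 6157, 6158, 7183, 2572, 1546, 5128, 5130, 6156, 1545, 2570, 1543, 1544, 1542, 1543, 5, 1539, 2564, 3074, 513, 5120, 5634, 6659, 2049, 17158, 6915, 6916, 16133, 15104, 8449]),
  ([7, 6, 0], [17408, 14337, 10752, 12289, 12290, 17667, 14592, 11009]),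
  ([7, 6, 1], [17408, 14849, 10752, 11265, 11780, 4099, 12805, 12806, 17671, 6916, 6917, 16134, 6403, 6404, 15621, 15104, 11521]),
  ([8, 5, 5, 5], [20992, 20997, 21002, 16905, 16906, 17419, 17420, 13320, 13321, 13834, 13319, 13320, 10246, 16900, 17413, 17926, 13315, 13314, 13827, 10240, 10497]),
  ([8, 5, 2], [20992, 19461, 15364, 11779, 11778, 8705, 8704, 21249, 19712, 8961]),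
  ([8, 5, 4], [20992, 20485, 14852, 15881, 15882, 16395, 4618, 6664, 6663, 7176, 10755, 11268, 11783, 12296, 4102, 10754, 11267, 11782, 11783, 12296, 12297, 4101, 4102, 4615, 2564, 7681, 8194, 5633, 6658, 8192, 9218, 9731, 3074, 3075, 4100, 4101, 3073, 3074, 4099, 4100, 512, 513, 21257, 6918, 6917, 2306, 2307, 5892, 20741, 4868, 1282, 2308, 3845, 20742, 4356, 19717, 2820, 4358, 19719, 4870, 4357, 3843, 3844, 769, 3330, 3331, 18692, 18688, 9985]),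
  ([8, 8, 8, 6], [22528, 2816, 257, 4870, 4357, 4356, 3331, 3330, 1796, 7433, 6920, 6919, 5381, 5379, 2822, 1797, 6922, 6921, 6408, 5382, 5380, 4359, 3334, 6921, 5383, 2825, 7437, 6924, 6411, 6410, 5384, 6924, 6411, 5385, 1802, 2828, 1803, 4366, 4365, 3340, 270, 1808, 1807, 1809, 1808, 2835, 1810, 6421, 5395, 5393, 1811, 2837, 7448, 6423, 6422, 5396, 5394, 10521, 10003, 9997, 9484, 8971, 8970, 7945, 6925, 6412, 5386, 1803, 2829, 1804, 4367, 4366, 3341, 271, 1809, 1808, 1810, 1809, 2836, 1811, 6422, 5396, 5394, 1812, 2838, 7449, 6424, 6423, 5397, 5395, 10004, 9998, 9485, 8972, 8971, 7946, 13585, 13072, 13071, 12558, 12045, 12044, 11019, 14099, 13586, 13073, 13072, 12559, 12046, 12045, 11020, 4367, 4366,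 4881, 4368, 4367, 4884, 6934, 6933, 18204, 17691, 17690, 17177, 16662, 16659, 16146, 15633, 15632, 14605, 271, 4371, 4370, 3345, 3344, 4885, 4372, 4371, 3346, 3345, 1811, 6935, 6934, 5396, 5394, 2837, 1812, 6937, 6936, 6423, 5397, 5395, 1813, 2839, 7452, 6939, 6938, 6425, 6424, 5398, 5396, 4376, 4375, 3350, 3349, 4377, 4376, 3351, 3350, 10007, 9494, 9493, 7956, 7955, 2838, 1813, 6938, 6937, 6424, 5398, 5396, 1814, 2840, 7453, 6940, 6939, 6426, 6425, 5399, 5397, 4377, 4376, 3351, 3350, 4378, 4377, 3352, 3351, 10526, 10008, 9495, 9494, 7957, 7956, 13595, 13594, 13081, 12568, 12567, 11030, 11029, 3351, 3352, 4890, 4893, 17699, 17186, 17185, 16670, 16157, 16156, 14617, 14614, 22816, 22295, 22286, 21257,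 20229, 20225, 19712, 257, 1284, 771, 770, 2310, 2824, 4362, 4361, 3847, 3845, 3332, 3331, 2311, 3848, 3846, 3333, 3332, 774, 773, 2825, 4876, 4363, 4362, 3848, 3335, 3334, 4363, 3849, 3336, 3335, 2314, 1801, 2828, 2315, 7440, 6927, 6414, 6413, 5900, 5386, 5384, 778, 777, 4365, 4364, 3339, 3338, 4879, 4366, 4365, 3340, 3339, 1805, 6929, 6928, 5390, 5388, 2831, 1806, 6931, 6930, 6417, 5391, 5389, 1807, 2833, 7446, 6933, 6932, 6419, 6418, 5392, 5390, 4370, 4369, 3344, 3343, 4371, 4370, 3345, 3344, 10001, 9488, 9487, 7950, 7949, 2832, 1807, 6932, 6931, 6418, 5392, 5390, 1808, 2834, 7447, 6934, 6933, 6420, 6419, 5393, 5391, 4371, 4370, 3345, 3344, 4372, 4371, 3346, 3345, 10520, 10002, 9489, 9488, 7951, 7950,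 14102, 13589, 13588, 13075, 12562, 12561, 11024, 11023, 13590, 13589, 13076, 12563, 12562, 11025, 11024, 3346, 3347, 4885, 4888, 17694, 17181, 17180, 16665, 16152, 16151, 14612, 14609, 22290, 21261, 20745, 20741, 18689, 21762]),
  ([8, 6, 1], [21504, 18949, 14340, 14855, 16396, 16399, 6670, 6671, 4621, 6667, 7180, 6666, 3078, 3591, 4105, 3077, 3590, 4104, 4105, 4618, 2567, 7683, 7684, 8197, 9735, 3078, 3079, 4104, 4105, 517, 518, 5124, 5126, 5640, 6153, 6154, 6667, 7180, 2055, 2568, 1541, 2054, 5123, 5125, 5639, 6152, 6665, 2054, 1540, 2053, 2566, 5122, 5124, 5638, 6663, 2053, 1539, 2052, 5121, 5123, 5637, 6150, 6151, 6664, 7177, 2052, 2565, 1538, 2051, 0, 7427, 4353, 256, 770, 3331, 5380, 21765, 7428,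 6915, 6916, 2819, 6405, 769, 1794, 5379, 5380, 20229, 6402, 6403, 19716, 19200, 11521]),
  ([8, 6, 4], [21504, 20485, 14852, 15881, 15882, 16395, 4618, 6664, 6663, 7176, 7683, 8196, 8710, 9223, 4101, 5635, 6148, 6661, 6662, 5634, 6147, 6660, 6661, 5633, 6146, 6659, 6660, 7173, 7429, 4354, 4355, 768, 3329, 3330, 5379, 21764, 20736, 13057]),
  ([8, 7, 4], [22016, 20489, 14856, 15885, 15886, 16399, 4622, 6668, 6667, 7180, 10759, 11272, 11787, 12300, 4106, 7686, 8199, 8713, 8714, 9227, 9228, 4104, 4105, 4618, 5638, 6151, 6152, 8197, 8711, 8712, 9737, 1544, 1545, 2570, 1543, 1544, 3078, 3079, 4104, 517, 518, 5124, 5126, 5640, 6153, 6666, 7179, 2055, 1541, 2054, 2567, 3075, 3076, 3589, 3074, 3075, 3588, 4102,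 4615, 1, 7428, 4868, 6918, 6919, 6917, 6918, 4355, 6404, 4354, 768, 3329, 5378, 5379, 2817, 4355, 6404, 4354, 256, 770, 1795, 3332, 5381, 5382, 22279, 6916, 4868, 6918, 4355, 2819, 2306, 2307, 3844, 3845, 5894, 20743, 7430, 6917, 6918, 4355, 6404, 4354, 3329, 5378, 5379, 20228, 20224, 16641])]

def paths1 : List (List ℕ × List ℕ) := [
  ([9, 2, 2, 2], [24064, 24066, 24068, 2560, 2560, 2817]),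
  ([11, 0, 2, 2, 4, 4, 7, 5], [27136, 26629, 16900, 16899, 2818, 1793, 6404, 5378, 5376, 1794, 2820, 7431, 6406, 6405, 5379, 5377, 9986, 7937, 7936, 27393, 26880, 7681, 8706, 6145, 8707, 6146, 9732, 5123, 1538, 1537, 2562, 5122, 6148, 6149, 2563, 7171, 9731, 1, 17158]),
  ([12, 3, 3, 3], [28160, 28162, 28164, 9217, 9219, 9218, 4608, 10240, 4865]),
  ([12, 6, 2], [29184, 27650, 10753, 10752, 10754, 10753, 11779, 11778, 11780, 11779, 12293, 12292, 12806, 12805, 13319, 13318, 13831, 17671, 14087, 17673, 29450, 27904, 12033]),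
  ([12, 6, 3], [29184, 28162, 12289, 12288, 13314, 13313, 29442, 28416, 12545]),
  ([12, 6, 0, 4], [29184, 28674, 10753, 10752, 10754, 10753, 11779, 11778, 11780, 11779, 12293, 12292, 12294, 12293, 12807, 12806, 29447, 28928, 13058, 11009]),
  ([12, 6, 6, 6], [29184, 29186, 29188, 13824, 13824, 14081]),
  ([13, 8, 8, 8], [29696, 29698, 29700, 22528, 22528, 22785]),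
  ([14, 1, 3, 1, 3, 1, 3], [31744, 31747, 31750, 5125, 5127, 1542, 4, 5122, 6148, 6149, 7174, 2563, 0, 4865, 2817, 4355, 1281, 2307, 3844, 3845, 3842]),
  ([14, 1, 4, 1], [32256, 30723, 5122, 3073, 4098, 5124, 3075, 1538, 0, 4097, 5635, 3586, 2049, 2048, 2561, 6658, 6659, 4609, 4865, 256, 770, 3331, 3332, 32517, 30976, 5890]),
  ([14, 1, 4, 1, 3], [32256, 31747, 5122, 3073, 4098, 5124, 3075, 1538, 0, 4097, 2818, 260, 6920, 5382, 32519, 32004, 31490, 31488, 2050, 2049, 3588, 2051, 2050, 2563, 6915, 5890]),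
  ([14, 1, 4, 1, 4, 1, 4], [32256, 32259, 32262, 5125, 6663, 3076, 4101, 5122, 5124, 6150, 6663, 6664, 7177, 1539, 2564, 3073, 3074, 4611, 0, 7425, 1281, 5891, 5892, 5890]),
  ([14, 5, 6, 6, 7, 7, 8, 8, 0], [32768, 30214, 18437, 19465, 19978, 19982, 20498, 20502, 5653, 6678, 6679, 3604, 4630, 3603, 4117, 5649, 5650, 6163, 6164, 6677, 7190, 5648, 5649, 6162, 6163, 6676, 3599, 3601, 4115, 4116, 2578, 2064, 5133, 5647, 5648, 6161, 6674, 6675, 2062, 2063, 5132, 5646, 5647, 6160, 6161, 6674, 6675, 7188, 2061, 2062, 2575, 3083, 3596, 3598, 4624, 2061, 1545, 1546, 2059, 2060, 2573, 3080, 3081, 3594, 3596, 2059, 3079, 3080, 3593, 3595, 4109, 4110, 2572, 2058, 518, 519, 1032, 5, 19460, 19973, 19977, 5128, 6666,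 7179, 5127, 6153, 6666, 3078, 4103, 4104, 1540, 1541, 2566, 14339, 14342, 15881, 15882, 16395, 4618, 4615, 3077, 3076, 1538, 1539, 1537, 1538, 0, 256, 1794, 1793, 4356, 3331, 3330, 4357, 3332, 3331, 1797, 2823, 6409, 6408, 5382, 5380, 1798, 7433, 5383, 5381, 265, 2828, 6414, 6413, 5387, 33036, 32009, 32006, 30464, 3587, 2307, 2306, 7431, 6918, 6917, 5892, 5891, 5377, 2821, 2308, 2307, 6921, 6920, 6407, 6406, 5893, 5892, 5378, 771, 4359, 3845, 3332, 773, 4359, 3334, 1799, 2825, 1800, 266, 1804, 1803, 1805, 1804, 2831, 1806, 6417, 5391, 5389, 1807, 2833, 7444, 6419, 6418, 5392, 5390, 9999, 9993, 8968, 8967, 8453, 8451, 7938, 7937, 2309, 4872, 3846, 2824, 4362, 4361, 13070, 13069, 12556, 12043, 12042,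 11527, 11524, 11011, 11010, 2310, 3847, 2825, 4876, 4363, 4362, 13072, 13071, 12558, 12557, 12044, 12043, 11528, 11525, 11012, 11011, 773, 2311, 1798, 2312, 6923, 6922, 5897, 5383, 2826, 2313, 6926, 6925, 6412, 6411, 5898, 5384, 7439, 6926, 6925, 6412, 6927, 6926, 6413, 16655, 15630, 15113, 15108, 261, 2313, 2827, 4878, 4365, 4364, 3850, 3848, 3335, 3334, 2314, 3851, 3849, 3336, 3335, 777, 2828, 2315, 1802, 2316, 6927, 6414, 5901, 5387, 2317, 7440, 6927, 5902, 5388, 2831, 6930, 6417, 6416, 6931, 6418, 6417, 16148, 15635, 15634, 15117, 15112, 14597, 4362, 3848, 4875, 3849, 266, 780, 779, 2830, 1805, 7443, 6930, 6929, 6416, 5390, 5388, 1806, 2832, 6932, 6931, 6418, 6417, 5391, 5389, 4369, 4368, 3343,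 6931, 6418, 5392, 7444, 6931, 5393, 20242, 20238, 19210, 18694, 18695]),
  ([14, 5, 6, 6, 7, 7, 8, 8, 1], [32768, 30726, 18437, 18441, 18957, 19985, 19989, 5140, 6678, 7191, 5139, 6165, 6678, 3090, 4115, 4116, 5136, 5138, 6164, 6165, 6678, 6679, 2579, 1553, 5135, 5137, 6163, 6676, 6677, 7190, 1552, 2577, 526, 527, 13, 3596, 4622, 3595, 4109, 3080, 3593, 3595, 4109, 4110, 2572, 2058, 3079, 3592, 3594, 4108, 4621, 2057, 2570, 518, 1031, 18436, 18440, 3079, 3592, 4618, 3078, 3591, 4105, 517, 14339, 14342, 14857, 14862, 15379, 15380, 15893, 6162, 6163, 6676, 6161, 6162, 6675, 2576, 5133, 5647, 6672, 7185, 2062, 5132, 5646, 6159, 6672, 2061, 1547, 2060, 2573, 522, 3080, 3081, 3594, 3596, 2059, 3079, 3080,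 3593, 3595, 4109, 4110, 4623, 2572, 2058, 6, 3589, 3591, 4105, 2054, 2567, 3588, 3590, 2053, 1538, 2051, 2052, 2565, 1537, 2050, 2051, 2307, 2306, 1793, 2821, 2308, 4359, 3845, 3843, 3330, 2309, 2823, 4361, 4360, 3846, 3844, 3331, 2310, 2309, 6408, 5895, 5894, 5380, 2311, 2310, 7433, 5896, 5895, 5381, 263, 777, 776, 2828, 4879, 4366, 4365, 3851, 3338, 3337, 4366, 3852, 3339, 3338, 4366, 4880, 4367, 2833, 274, 4374, 4373, 3348, 3347, 1813, 6936, 5398, 5396, 3350, 2840, 6426, 6425, 5399, 33048, 32533, 32530, 31504, 30987, 30982, 30464, 2052, 1026, 5635, 2050, 2306, 5891, 5377, 770, 4868, 3331, 2821, 1796, 4359, 4358, 3333, 4360, 4359, 3334, 264, 1802, 1801, 1803, 1802, 2829, 1804, 6415, 5389, 5387, 1805,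 2831, 7442, 6417, 6416, 5390, 5388, 9997, 9991, 9478, 9477, 8964, 8450, 7937, 13064, 13063, 12550, 11523, 11010, 2821, 4359, 4358, 13066, 13065, 12040, 12039, 11524, 11011, 6407, 6408, 15625, 15108, 261, 4874, 3848, 3335, 3334, 2826, 4364, 4363, 3849, 3336, 3335, 4364, 3850, 3337, 4877, 3851, 3338, 2829, 7442, 6929, 6928, 6415, 6414, 6930, 6929, 6416, 6415, 16658, 15633, 15632, 15115, 14600, 14597, 775, 4875, 4362, 4361, 3336, 4363, 4362, 3337, 1291, 6928, 6415, 6414, 5901, 5900, 7442, 6929, 6416, 6415, 5902, 5901, 4369, 3855, 4882, 3856, 6931, 6930, 5905, 20754, 20750, 19210, 18694, 19207]),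
  ([14, 5, 6, 6, 7, 7, 8, 8, 2], [32768, 31238, 19461, 19460, 15363, 2561, 19459, 19458, 15361, 2817, 1792, 1793, 33026, 31488, 8961, 12034, 12035, 15620, 15621, 19718, 19719]),
  ([14, 5, 6, 6, 7, 7, 8, 8, 1, 3], [32768, 31750, 18437, 18441, 20493, 3596, 4622, 3595, 4109, 3080, 3593, 3595, 4109, 4110, 2572, 2058, 3079, 3592, 3594, 4108, 4621, 2057, 2570, 518, 1031, 18436, 18440, 20492, 3595, 4621, 3594, 4108, 3079, 3592, 3594, 4108, 4109, 2571, 2057, 3078, 3591, 3593, 4107, 4620, 2056, 2569, 517, 1030, 14339, 14342, 16393, 4616, 3077, 3076, 4613, 1538, 1539, 1537, 1538, 0, 258, 2821, 6407, 6406, 5380, 33029, 32002, 31488, 2049, 4354, 8963, 8449, 4868, 12550, 12549, 11522, 2820, 4358, 4357, 12552, 12039,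 12038, 11523, 260, 4361, 3847, 3334, 3333, 4874, 3848, 3335, 3334, 2826, 4364, 4363, 3849, 3336, 4364, 3850, 3337, 7437, 4879, 16656, 16143, 15114, 14599, 14596, 2824, 4362, 4361, 3847, 3334, 4875, 4362, 3848, 3335, 6924, 6923, 7438, 6925, 6924, 4879, 6929, 6928, 16657, 16654, 16141, 15112, 14597, 4873, 266, 1293, 780, 779, 2832, 2319, 4370, 3856, 3854, 3341, 3340, 2320, 2834, 4372, 4371, 3857, 3855, 3342, 3341, 783, 2321, 6419, 5906, 5392, 2322, 5907, 5393, 2836, 2323, 1810, 2324, 1811, 4887, 3861, 7449, 6936, 6935, 5910, 6937, 6936, 5911, 20760, 20244, 19731, 19730, 19214, 18698, 18694, 776, 6924, 6411, 5385, 7437, 6924, 5386, 20235, 19207])]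

def paths2 : List (List ℕ × List ℕ) := [
  ([14, 5, 6, 6, 7, 7, 8, 8, 1, 4], [32768, 32262, 18437, 19977, 20493, 5644, 6669, 6670, 5643, 6668, 6669, 7182, 3594, 4620, 3080, 3593, 4107, 3079, 3592, 4106, 4107, 2569, 518, 18436, 18440, 18956, 18960, 19988, 19992, 5143, 6681, 7194, 5142, 6168, 6681, 3093, 4118, 4119, 5139, 5141, 6167, 6168, 6681, 6682, 2582, 1556, 5138, 5140, 6166, 6679, 6680, 7193, 1555, 2580, 529, 530, 16, 5647, 6672, 6673, 5646, 6671, 6672, 3083, 3596, 3598, 4624, 2061, 3082, 3595, 3597, 4111, 4112, 2574, 2060, 521, 1034, 3079, 3080, 4105, 3078, 3079, 4104, 4617, 517, 518, 4, 14851, 15368, 16393, 16396, 6667, 6668, 4618, 6151, 6664, 7177, 6150, 6663, 1538, 2051, 2564, 1537, 2050, 2306,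 1793, 2820, 4358, 4357, 3843, 3330, 4871, 4358, 3844, 3331, 2309, 6920, 6919, 5894, 5380, 2823, 2310, 7436, 6923, 6922, 6409, 6408, 5895, 5381, 263, 777, 776, 4364, 4363, 3338, 3337, 4365, 4364, 3339, 3338, 1804, 1803, 1805, 1804, 272, 2835, 6421, 6420, 5394, 33043, 32016, 32013, 31499, 30982, 30464, 2051, 3589, 2052, 1026, 7430, 6917, 6916, 6403, 5377, 6917, 6916, 5378, 2820, 1795, 4358, 4357, 3332, 4359, 4358, 3333, 263, 1801, 1800, 1802, 1801, 2828, 1803, 6414, 5388, 5386, 1804, 2830, 7441, 6416, 6415, 5389, 5387, 9996, 9990, 9477, 9476, 8963, 7938, 7937, 13064, 13063, 12550, 12549, 12036, 11011, 11010, 13065, 13064, 12551, 12550, 12037, 11012, 11011, 4358, 3333, 4359, 3334, 4873, 4360, 4361, 4876,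 6926, 6925, 16654, 16651, 15626, 14599, 14596, 4872, 4359, 3334, 4360, 3335, 4361, 4875, 4362, 4878, 6928, 6927, 16656, 16653, 16140, 15627, 14600, 14597, 1288, 775, 2314, 2828, 4366, 4365, 3851, 3849, 3336, 2315, 4878, 3852, 3850, 3337, 6926, 6925, 5900, 6927, 6926, 5901, 270, 784, 783, 2834, 1809, 7447, 6934, 6933, 6420, 5394, 5392, 1810, 2836, 6936, 6935, 6422, 6421, 5395, 5393, 4373, 4372, 3347, 6935, 6422, 5396, 7448, 6935, 5397, 20246, 20242, 19214, 19210, 18694, 7436, 6923, 6922, 5897, 6924, 6923, 5898, 20747, 19207])]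

def paths : List (List ℕ × List ℕ) := paths0 ++ paths1 ++ paths2

def rows : List (List ℕ) := [
  [0, 0, 0, 1, 0, 0, 0, 0, 0, 0, 0, 0, 0, 0, 0, 0, 0, 0, 0, 0, 0, 0, 0, 0, 0, 0, 0, 0, 0, 0, 0, 0, 0, 0, 0, 0, 0, 0, 0, 0, 0, 0, 0, 0, 0, 0, 0, 0, 0, 0, 0, 0, 0, 0, 0, 0, 0, 0, 0, 0, 0, 0, 0, 0, 0],
  [0, 0, 0, 0, 2, 0, 0, 0, 0, 0, 0, 0, 0, 0, 0, 0, 0, 0, 0, 0, 0, 0, 0, 0, 0, 0, 0, 0, 0, 0, 0, 0, 0, 0, 0, 0, 0, 0, 0, 0, 0, 0, 0, 0, 0, 0, 0, 0, 0, 0, 0, 0, 0, 0, 0, 0, 0, 0, 0, 0, 0, 0, 0, 0, 0],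
  [0, 0, 0, 0, 0, 0, 0, 0, 1, 0, 0, 0, 0, 0, 0, 0, 0, 0, 0, 0, 0, 0, 0, 0, 0, 0, 0, 0, 0, 0, 0, 0, 0, 0, 0, 0, 0, 0, 0, 0, 0, 0, 0, 0, 0, 0, 0, 0, 0, 0, 0, 0, 0, 0, 0, 0, 0, 0, 0, 0, 0, 0, 0, 0, 0],
  [2, 0, 0, 0, 0, 0, 0, 0, 0, 0, 0, 0, 0, 0, 1, 0, 0, 0, 0, 0, 0, 0, 0, 0, 0, 0, 0, 0, 0, 0, 0, 0, 0, 0, 0, 0, 0, 0, 0, 0, 0, 0, 0, 0, 0, 0, 0, 0, 0, 0, 0, 0, 0, 0, 0, 0, 0, 0, 0, 0, 0, 0, 0, 0, 0],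
  [0, 0, 0, 0, 0, 0, 0, 0, 0, 2, 0, 0, 0, 0, 0, 0, 0, 0, 0, 0, 0, 0, 0, 0, 0, 0, 0, 0, 0, 0, 0, 0, 0, 0, 0, 0, 0, 0, 0, 0, 0, 0, 0, 0, 0, 0, 0, 0, 0, 0, 0, 0, 0, 0, 0, 0, 0, 0, 0, 0, 0, 0, 0, 0, 0],
  [0, 2, 0, 0, 0, 0, 0, 0, 0, 0, 0, 2, 0, 2, 0, 0, 0, 0, 0, 0, 0, 0, 0, 0, 0, 0, 0, 0, 0, 0, 0, 0, 0, 0, 0, 0, 0, 0, 0, 0, 0, 0, 0, 0, 0, 0, 0, 0, 0, 0, 0, 0, 0, 0, 0, 0, 0, 0, 0, 0, 0, 0, 0, 0, 0],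
  [0, 0, 0, 2, 0, 0, 0, 0, 0, 0, 0, 0, 2, 0, 0, 0, 0, 0, 0, 0, 0, 0, 0, 0, 0, 0, 0, 0, 0, 0, 0, 0, 0, 0, 0, 0, 0, 0, 0, 0, 0, 0, 0, 0, 0, 0, 0, 0, 0, 0, 0, 0, 0, 0, 0, 0, 0, 0, 0, 0, 0, 0, 0, 0, 0],
  [0, 0, 0, 0, 0, 0, 2, 0, 0, 0, 0, 0, 0, 2, 0, 0, 0, 0, 0, 0, 0, 0, 0, 0, 0, 0, 0, 0, 0, 0, 0, 0, 0, 0, 0, 0, 0, 0, 0, 0, 0, 0, 0, 0, 0, 0, 0, 0, 0, 0, 0, 0, 0, 0, 0, 0, 0, 0, 0, 0, 0, 0, 0, 0, 0],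
  [0, 0, 0, 0, 0, 0, 0, 0, 2, 0, 0, 0, 0, 0, 0, 0, 0, 2, 0, 0, 0, 0, 0, 0, 0, 0, 0, 0, 0, 0, 0, 0, 0, 0, 0, 0, 0, 0, 0, 0, 0, 0, 0, 0, 0, 0, 0, 0, 0, 0, 0, 0, 0, 0, 0, 0, 0, 0, 0, 0, 0, 0, 0, 0, 0],
  [0, 0, 0, 1, 0, 0, 1, 0, 0, 0, 0, 0, 0, 0, 0, 0, 0, 0, 0, 0, 0, 0, 0, 0, 0, 0, 0, 0, 0, 0, 0, 0, 0, 0, 0, 0, 0, 0, 0, 0, 0, 0, 0, 0, 0, 0, 0, 0, 0, 0, 0, 0, 0, 0, 0, 0, 0, 0, 0, 0, 0, 0, 0, 0, 0],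
  [0, 0, 0, 0, 0, 0, 0, 0, 0, 0, 0, 0, 0, 0, 0, 0, 0, 0, 0, 0, 0, 0, 0, 2, 0, 0, 0, 0, 0, 0, 0, 0, 0, 0, 0, 0, 0, 0, 0, 0, 0, 0, 0, 0, 0, 0, 0, 0, 0, 0, 0, 0, 0, 0, 0, 0, 0, 0, 0, 0, 0, 0, 0, 0, 0],
  [0, 0, 0, 0, 0, 0, 0, 0, 0, 0, 0, 0, 0, 0, 0, 0, 0, 0, 0, 0, 0, 1, 0, 0, 0, 2, 0, 0, 0, 0, 0, 0, 0, 0, 0, 0, 0, 0, 0, 0, 0, 0, 0, 0, 0, 0, 0, 0, 0, 0, 0, 0, 0, 0, 0, 0, 0, 0, 0, 0, 0, 0, 0, 0, 0],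
  [0, 0, 0, 0, 0, 0, 0, 0, 1, 0, 0, 0, 0, 0, 0, 0, 0, 1, 1, 0, 0, 0, 0, 0, 2, 0, 0, 0, 0, 0, 0, 0, 0, 0, 0, 0, 0, 0, 0, 0, 0, 0, 0, 0, 0, 0, 0, 0, 0, 0, 0, 0, 0, 0, 0, 0, 0, 0, 0, 0, 0, 0, 0, 0, 0],
  [0, 0, 0, 0, 1, 1, 2, 2, 2, 0, 1, 0, 1, 2, 0, 0, 0, 0, 0, 0, 0, 0, 0, 0, 0, 0, 0, 0, 0, 0, 0, 0, 0, 0, 0, 0, 0, 0, 0, 0, 0, 0, 0, 0, 0, 0, 0, 0, 0, 0, 0, 0, 0, 0, 0, 0, 0, 0, 0, 0, 0, 0, 0, 0, 0],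
  [0, 0, 0, 0, 0, 0, 0, 0, 0, 0, 0, 0, 0, 2, 0, 0, 0, 0, 2, 0, 0, 0, 0, 0, 0, 0, 0, 0, 1, 0, 0, 0, 2, 0, 0, 0, 0, 0, 0, 0, 0, 0, 0, 0, 0, 0, 0, 0, 0, 0, 0, 0, 0, 0, 0, 0, 0, 0, 0, 0, 0, 0, 0, 0, 0],
  [1, 1, 0, 1, 1, 0, 1, 0, 0, 0, 2, 1, 0, 2, 1, 1, 0, 1, 0, 2, 0, 0, 0, 0, 0, 0, 0, 0, 0, 0, 0, 2, 0, 0, 0, 0, 0, 0, 0, 0, 0, 0, 0, 0, 0, 0, 0, 0, 0, 0, 0, 0, 0, 0, 0, 0, 0, 0, 0, 0, 0, 0, 0, 0, 0],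
  [0, 0, 0, 0, 0, 0, 0, 0, 0, 0, 0, 0, 0, 0, 0, 0, 0, 0, 0, 0, 0, 0, 0, 0, 2, 0, 0, 0, 0, 0, 0, 0, 0, 0, 0, 0, 0, 0, 0, 0, 0, 0, 0, 0, 0, 0, 0, 0, 0, 0, 0, 0, 0, 0, 0, 0, 0, 0, 0, 0, 0, 0, 0, 0, 0],
  [0, 0, 0, 0, 0, 0, 0, 0, 1, 0, 0, 0, 1, 1, 0, 0, 0, 0, 0, 0, 0, 1, 0, 1, 0, 2, 0, 0, 0, 0, 2, 2, 0, 0, 0, 0, 0, 0, 0, 0, 0, 0, 0, 0, 0, 0, 0, 0, 0, 0, 0, 0, 0, 0, 0, 0, 0, 0, 0, 0, 0, 0, 0, 0, 0],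
  [0, 0, 0, 0, 0, 0, 0, 0, 0, 0, 0, 0, 0, 0, 0, 0, 0, 0, 0, 0, 1, 0, 0, 0, 0, 0, 0, 2, 0, 0, 0, 0, 0, 0, 0, 1, 0, 0, 0, 0, 0, 0, 0, 0, 0, 0, 0, 0, 0, 0, 0, 0, 0, 0, 0, 0, 0, 0, 0, 0, 0, 0, 0, 0, 0],
  [0, 0, 0, 0, 0, 0, 0, 0, 0, 0, 0, 0, 0, 0, 0, 0, 0, 1, 0, 0, 0, 0, 0, 2, 0, 0, 0, 0, 0, 0, 1, 0, 0, 0, 0, 0, 0, 0, 0, 0, 0, 0, 0, 0, 0, 0, 0, 0, 0, 0, 0, 0, 0, 0, 0, 0, 0, 0, 0, 0, 0, 0, 0, 0, 0],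
  [0, 1, 2, 0, 0, 0, 2, 0, 1, 0, 0, 0, 0, 1, 1, 1, 2, 0, 1, 0, 0, 2, 2, 0, 0, 0, 0, 0, 0, 1, 0, 2, 1, 0, 0, 0, 1, 0, 1, 0, 2, 0, 0, 0, 0, 0, 0, 0, 0, 0, 0, 0, 0, 0, 0, 0, 0, 0, 0, 0, 0, 0, 0, 0, 0],
  [1, 0, 2, 1, 2, 1, 1, 0, 2, 2, 1, 2, 2, 2, 0, 2, 0, 2, 2, 1, 0, 1, 0, 2, 1, 2, 1, 1, 1, 0, 1, 1, 2, 1, 2, 2, 2, 0, 2, 1, 1, 1, 2, 0, 0, 0, 0, 0, 0, 0, 0, 0, 0, 0, 0, 0, 0, 0, 0, 0, 0, 0, 0, 0, 0],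
  [0, 0, 0, 0, 2, 0, 0, 2, 1, 2, 2, 1, 2, 0, 1, 2, 1, 0, 0, 1, 0, 0, 2, 0, 0, 0, 0, 0, 1, 1, 0, 0, 2, 0, 0, 0, 0, 0, 2, 2, 0, 0, 0, 0, 0, 0, 0, 0, 0, 0, 0, 0, 0, 0, 0, 0, 0, 0, 0, 0, 0, 0, 0, 0, 0],
  [0, 2, 0, 0, 0, 0, 1, 0, 2, 1, 2, 0, 0, 2, 1, 1, 1, 1, 1, 0, 0, 0, 0, 0, 0, 2, 0, 0, 0, 1, 0, 2, 1, 0, 0, 0, 0, 0, 0, 0, 0, 0, 0, 0, 0, 0, 0, 0, 0, 0, 0, 0, 0, 0, 0, 0, 0, 0, 0, 0, 0, 0, 0, 0, 0],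
  [0, 0, 0, 1, 0, 0, 0, 0, 1, 1, 2, 1, 0, 1, 0, 1, 2, 1, 2, 1, 0, 1, 1, 1, 1, 0, 0, 0, 0, 1, 0, 2, 0, 0, 0, 0, 0, 0, 0, 1, 0, 0, 0, 0, 0, 0, 0, 0, 0, 0, 0, 0, 0, 0, 0, 0, 0, 0, 0, 0, 0, 0, 0, 0, 0],
  [0, 0, 0, 0, 0, 1, 0, 0, 0, 0, 0, 0, 0, 0, 0, 0, 0, 0, 0, 0, 0, 0, 0, 0, 0, 0, 0, 0, 0, 0, 0, 0, 0, 0, 0, 0, 0, 0, 0, 0, 0, 0, 0, 0, 0, 0, 0, 0, 0, 0, 0, 0, 0, 0, 0, 0, 0, 0, 0, 0, 0, 0, 0, 0, 0],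
  [1, 0, 0, 0, 0, 0, 0, 0, 0, 0, 1, 0, 1, 0, 0, 2, 0, 2, 0, 1, 0, 0, 0, 0, 0, 0, 0, 0, 0, 0, 0, 0, 0, 1, 0, 0, 0, 0, 0, 0, 0, 0, 0, 0, 0, 0, 0, 0, 0, 0, 0, 0, 0, 0, 0, 0, 0, 0, 0, 0, 0, 0, 0, 0, 0],
  [0, 0, 0, 0, 0, 0, 0, 0, 0, 0, 0, 0, 0, 0, 0, 0, 0, 0, 0, 0, 1, 0, 0, 0, 0, 0, 0, 0, 0, 0, 0, 0, 0, 0, 0, 0, 0, 0, 0, 0, 0, 0, 0, 0, 0, 0, 0, 0, 0, 0, 0, 0, 0, 0, 0, 0, 0, 0, 0, 0, 0, 0, 0, 0, 0],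
  [0, 0, 0, 0, 0, 0, 0, 0, 0, 0, 0, 0, 0, 0, 0, 0, 0, 0, 0, 0, 0, 1, 0, 0, 2, 2, 2, 0, 0, 0, 0, 0, 0, 0, 1, 0, 0, 0, 0, 0, 0, 0, 0, 0, 0, 0, 0, 0, 0, 0, 0, 0, 0, 0, 0, 0, 0, 0, 0, 0, 0, 0, 0, 0, 0],
  [0, 0, 0, 0, 0, 0, 0, 0, 0, 0, 0, 0, 0, 0, 0, 0, 0, 0, 0, 0, 0, 0, 0, 0, 1, 0, 2, 0, 0, 0, 0, 0, 0, 0, 0, 0, 0, 0, 0, 0, 0, 0, 0, 0, 0, 0, 0, 0, 0, 0, 0, 0, 0, 0, 0, 0, 0, 0, 0, 0, 0, 0, 0, 0, 0],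
  [0, 0, 0, 0, 0, 0, 0, 0, 0, 0, 0, 0, 0, 0, 0, 0, 0, 0, 0, 0, 0, 0, 0, 1, 1, 1, 0, 0, 0, 0, 0, 0, 0, 0, 0, 0, 0, 0, 0, 0, 0, 0, 0, 0, 0, 0, 0, 0, 0, 0, 0, 0, 0, 0, 0, 0, 0, 0, 0, 0, 0, 0, 0, 0, 0],
  [0, 0, 0, 0, 0, 0, 0, 0, 0, 0, 0, 0, 0, 0, 0, 0, 0, 0, 0, 0, 0, 0, 0, 0, 0, 0, 0, 1, 0, 0, 0, 0, 0, 0, 0, 0, 0, 0, 0, 0, 0, 0, 0, 0, 0, 0, 0, 0, 0, 0, 0, 0, 0, 0, 0, 0, 0, 0, 0, 0, 0, 0, 0, 0, 0],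
  [0, 0, 0, 0, 0, 0, 0, 0, 0, 0, 0, 0, 0, 0, 0, 0, 0, 0, 0, 0, 0, 0, 0, 0, 0, 0, 0, 0, 0, 0, 0, 0, 0, 0, 0, 0, 0, 0, 0, 0, 0, 0, 0, 0, 1, 0, 0, 0, 0, 0, 0, 0, 0, 0, 0, 0, 0, 0, 0, 0, 0, 0, 0, 0, 0],
  [2, 0, 2, 1, 2, 0, 0, 0, 2, 2, 0, 0, 2, 0, 1, 0, 0, 0, 0, 0, 0, 0, 0, 0, 0, 0, 0, 0, 0, 0, 0, 0, 0, 0, 0, 0, 0, 0, 0, 0, 0, 0, 0, 0, 0, 0, 0, 0, 0, 0, 0, 0, 0, 0, 0, 0, 0, 0, 0, 0, 0, 0, 0, 0, 0],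
  [0, 2, 0, 1, 2, 1, 0, 1, 2, 0, 2, 0, 0, 2, 0, 0, 0, 0, 0, 0, 0, 0, 0, 0, 0, 0, 0, 0, 0, 0, 0, 0, 0, 0, 0, 0, 0, 0, 0, 0, 0, 0, 0, 0, 0, 0, 0, 0, 0, 0, 0, 0, 0, 0, 0, 0, 0, 0, 0, 0, 0, 0, 0, 0, 0],
  [0, 0, 0, 1, 1, 0, 2, 1, 2, 0, 1, 2, 0, 1, 0, 0, 0, 0, 0, 0, 0, 0, 0, 0, 0, 0, 0, 0, 0, 0, 0, 0, 0, 0, 0, 0, 0, 0, 0, 0, 0, 0, 0, 0, 0, 0, 0, 0, 0, 0, 0, 0, 0, 0, 0, 0, 0, 0, 0, 0, 0, 1, 0, 0, 0],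
  [1, 0, 2, 1, 0, 1, 0, 0, 1, 1, 0, 0, 1, 0, 0, 0, 0, 0, 0, 0, 0, 0, 0, 0, 0, 0, 0, 0, 0, 0, 0, 0, 0, 0, 0, 0, 0, 0, 0, 0, 0, 0, 0, 0, 0, 0, 0, 0, 0, 0, 0, 0, 0, 0, 0, 0, 0, 0, 0, 0, 0, 0, 0, 0, 0],
  [0, 2, 1, 1, 2, 0, 0, 2, 0, 0, 1, 1, 1, 0, 2, 1, 1, 1, 0, 1, 0, 2, 2, 2, 0, 2, 0, 0, 1, 2, 0, 1, 0, 0, 0, 0, 2, 2, 2, 2, 2, 0, 0, 0, 0, 0, 0, 0, 0, 0, 0, 0, 0, 0, 0, 0, 0, 0, 0, 0, 0, 0, 1, 0, 0],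
  [1, 1, 1, 2, 0, 1, 1, 1, 1, 0, 1, 2, 2, 1, 2, 2, 2, 2, 1, 1, 0, 1, 1, 1, 2, 2, 0, 0, 0, 0, 2, 1, 2, 0, 0, 0, 0, 2, 0, 2, 1, 0, 0, 0, 0, 0, 0, 0, 0, 0, 0, 0, 0, 0, 0, 0, 0, 0, 0, 2, 2, 2, 0, 1, 0],
  [0, 0, 0, 1, 0, 0, 0, 0, 0, 0, 0, 0, 0, 0, 0, 0, 0, 2, 0, 0, 0, 0, 0, 1, 0, 0, 0, 0, 0, 0, 0, 0, 0, 0, 0, 0, 0, 0, 2, 0, 0, 0, 0, 0, 0, 0, 0, 0, 0, 0, 0, 0, 0, 0, 0, 0, 0, 0, 0, 0, 0, 0, 0, 0, 0],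
  [1, 1, 1, 2, 2, 0, 0, 1, 1, 2, 1, 2, 2, 0, 2, 0, 2, 2, 0, 0, 0, 0, 1, 1, 0, 0, 0, 0, 2, 1, 0, 1, 1, 0, 0, 0, 2, 1, 1, 1, 1, 0, 0, 0, 0, 0, 0, 0, 0, 0, 0, 0, 0, 0, 0, 0, 0, 0, 0, 0, 0, 2, 0, 0, 0],
  [1, 1, 1, 2, 1, 2, 0, 2, 1, 0, 0, 1, 0, 1, 1, 1, 0, 2, 1, 1, 0, 2, 0, 1, 2, 2, 0, 0, 2, 1, 2, 2, 1, 0, 0, 0, 2, 2, 0, 1, 0, 0, 0, 0, 0, 0, 0, 0, 0, 0, 0, 0, 0, 0, 0, 0, 0, 0, 0, 2, 2, 2, 1, 1, 0]]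

def mu : List (List ℕ) := [
  [0, 0, 0, 0, 0, 0, 0, 0, 0, 0, 0, 0, 0, 0, 0, 0, 0, 0, 0, 0, 0, 0, 0, 0, 0, 0, 0, 0, 0, 0, 0, 0, 0, 0, 0, 0, 0, 0, 0, 0, 0, 0, 0, 0, 0, 0, 0, 0, 0, 0, 0, 0, 0, 0, 0, 0, 0, 0, 0, 0, 0, 0, 0, 0, 0],
  [0, 0, 0, 0, 0, 0, 0, 0, 0, 0, 0, 0, 0, 0, 0, 0, 1, 0, 0, 0, 0, 0, 0, 0, 0, 0, 0, 0, 0, 0, 0, 0, 0, 0, 0, 0, 1, 0, 0, 0, 0, 0, 0, 0, 0, 0, 0, 0, 0, 0, 0, 0, 0, 0, 0, 0, 0, 0, 0, 0, 0, 0, 0, 0, 0],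
  [0, 0, 0, 0, 0, 0, 0, 1, 0, 0, 0, 0, 0, 0, 0, 0, 0, 0, 0, 0, 0, 0, 0, 0, 0, 0, 0, 0, 0, 0, 0, 0, 0, 0, 0, 0, 0, 0, 0, 0, 0, 0, 0, 0, 0, 0, 0, 0, 0, 0, 0, 0, 0, 0, 0, 0, 0, 0, 0, 0, 0, 0, 0, 0, 0],
  [0, 0, 0, 0, 0, 0, 0, 0, 0, 0, 0, 0, 0, 0, 0, 0, 1, 0, 0, 0, 0, 0, 0, 0, 0, 0, 0, 0, 0, 0, 0, 0, 0, 0, 0, 0, 0, 0, 0, 0, 0, 0, 0, 0, 0, 0, 0, 0, 0, 0, 0, 0, 0, 0, 0, 0, 0, 0, 0, 0, 0, 0, 0, 0, 0],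
  [0, 0, 0, 0, 0, 0, 0, 0, 0, 0, 0, 0, 0, 0, 0, 1, 0, 0, 0, 0, 0, 0, 0, 0, 0, 0, 0, 0, 0, 0, 0, 0, 0, 0, 0, 0, 0, 0, 0, 0, 0, 0, 0, 0, 0, 0, 0, 0, 0, 0, 0, 0, 0, 0, 0, 0, 0, 0, 0, 0, 0, 0, 0, 0, 0],
  [0, 0, 0, 0, 0, 0, 0, 0, 0, 0, 0, 0, 0, 0, 0, 0, 0, 0, 0, 0, 0, 0, 0, 0, 0, 0, 0, 0, 0, 0, 0, 0, 0, 0, 0, 0, 0, 0, 0, 0, 0, 0, 0, 0, 0, 0, 0, 0, 0, 0, 0, 0, 0, 0, 0, 0, 0, 0, 0, 0, 0, 0, 0, 0, 0],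
  [0, 0, 0, 0, 0, 0, 0, 0, 0, 0, 0, 0, 0, 0, 0, 2, 1, 0, 0, 0, 0, 0, 0, 0, 0, 0, 0, 0, 0, 0, 0, 0, 0, 0, 0, 0, 0, 0, 0, 0, 0, 0, 0, 1, 0, 0, 0, 0, 0, 0, 0, 0, 0, 0, 0, 0, 0, 0, 0, 0, 0, 0, 0, 0, 0],
  [0, 0, 0, 0, 0, 0, 0, 0, 0, 0, 0, 0, 0, 0, 0, 2, 1, 0, 0, 0, 0, 0, 0, 0, 0, 0, 0, 0, 0, 0, 0, 0, 0, 0, 0, 0, 0, 0, 0, 0, 0, 1, 0, 1, 0, 0, 0, 0, 0, 0, 0, 0, 0, 0, 0, 0, 0, 0, 0, 0, 0, 0, 0, 0, 0],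
  [0, 0, 0, 0, 0, 0, 0, 0, 0, 0, 0, 0, 0, 0, 0, 0, 0, 0, 0, 0, 0, 0, 0, 0, 0, 0, 0, 0, 0, 0, 0, 0, 0, 0, 0, 0, 0, 0, 0, 0, 0, 0, 0, 0, 0, 0, 0, 0, 0, 0, 0, 0, 0, 0, 0, 0, 0, 0, 0, 0, 0, 0, 0, 0, 0]]

def comb : List (List ℕ) := [
  [2, 1, 1, 1, 2, 0, 2, 0, 0, 0, 0, 0, 0, 0, 0, 0, 0, 0, 0, 0, 0, 0, 0, 0, 0, 2, 0, 0, 0, 0, 0, 0, 0, 2, 0, 0, 1, 0, 0, 0, 0, 0],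
  [2, 0, 1, 0, 0, 0, 2, 2, 0, 1, 0, 0, 0, 2, 0, 0, 0, 0, 0, 0, 0, 0, 0, 0, 0, 2, 0, 0, 0, 0, 0, 0, 0, 0, 2, 0, 0, 0, 0, 0, 0, 0],
  [2, 1, 2, 1, 1, 0, 1, 0, 0, 0, 0, 0, 0, 0, 0, 0, 0, 0, 0, 0, 0, 0, 0, 0, 0, 0, 0, 0, 0, 0, 0, 0, 0, 2, 0, 0, 0, 0, 0, 0, 0, 0],
  [1, 0, 0, 0, 0, 0, 0, 0, 0, 0, 0, 0, 0, 0, 0, 0, 0, 0, 0, 0, 0, 0, 0, 0, 0, 0, 0, 0, 0, 0, 0, 0, 0, 0, 0, 0, 0, 0, 0, 0, 0, 0],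
  [0, 2, 0, 0, 0, 0, 0, 0, 0, 0, 0, 0, 0, 0, 0, 0, 0, 0, 0, 0, 0, 0, 0, 0, 0, 0, 0, 0, 0, 0, 0, 0, 0, 0, 0, 0, 0, 0, 0, 0, 0, 0],
  [0, 0, 0, 0, 0, 0, 0, 0, 0, 0, 0, 0, 0, 0, 0, 0, 0, 0, 0, 0, 0, 0, 0, 0, 0, 1, 0, 0, 0, 0, 0, 0, 0, 0, 0, 0, 0, 0, 0, 0, 0, 0],
  [2, 0, 0, 0, 0, 0, 0, 0, 0, 1, 0, 0, 0, 0, 0, 0, 0, 0, 0, 0, 0, 0, 0, 0, 0, 0, 0, 0, 0, 0, 0, 0, 0, 0, 0, 0, 0, 0, 0, 0, 0, 0],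
  [0, 0, 0, 0, 0, 0, 0, 0, 0, 0, 0, 0, 0, 0, 0, 0, 0, 0, 0, 0, 0, 0, 0, 0, 0, 0, 0, 0, 0, 0, 0, 0, 0, 0, 0, 0, 0, 0, 0, 0, 0, 0],
  [0, 0, 1, 0, 0, 0, 0, 0, 0, 0, 0, 0, 0, 0, 0, 0, 0, 0, 0, 0, 0, 0, 0, 0, 0, 0, 0, 0, 0, 0, 0, 0, 0, 0, 0, 0, 0, 0, 0, 0, 0, 0],
  [0, 0, 0, 0, 2, 0, 0, 0, 0, 0, 0, 0, 0, 0, 0, 0, 0, 0, 0, 0, 0, 0, 0, 0, 0, 0, 0, 0, 0, 0, 0, 0, 0, 0, 0, 0, 0, 0, 0, 0, 0, 0],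
  [1, 1, 1, 0, 0, 0, 1, 2, 0, 0, 0, 0, 0, 1, 0, 0, 0, 0, 0, 0, 0, 0, 0, 0, 0, 2, 0, 0, 0, 0, 0, 0, 0, 0, 0, 0, 0, 0, 0, 0, 0, 0],
  [0, 0, 2, 0, 0, 2, 1, 2, 0, 0, 0, 0, 0, 1, 0, 0, 0, 0, 0, 0, 0, 0, 0, 0, 0, 1, 0, 0, 0, 0, 0, 0, 0, 0, 1, 0, 0, 0, 0, 0, 0, 0],
  [2, 0, 0, 0, 0, 0, 2, 0, 0, 0, 0, 0, 0, 0, 0, 0, 0, 0, 0, 0, 0, 0, 0, 0, 0, 0, 0, 0, 0, 0, 0, 0, 0, 0, 0, 0, 0, 0, 0, 0, 0, 0],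
  [1, 0, 0, 0, 0, 0, 0, 2, 0, 2, 0, 0, 0, 0, 0, 0, 0, 0, 0, 0, 0, 0, 0, 0, 0, 0, 0, 0, 0, 0, 0, 0, 0, 0, 0, 0, 0, 0, 0, 0, 0, 0],
  [2, 1, 1, 2, 2, 0, 2, 0, 0, 0, 0, 0, 0, 0, 0, 0, 0, 0, 0, 0, 0, 0, 0, 0, 0, 2, 0, 0, 0, 0, 0, 0, 0, 2, 0, 0, 1, 0, 0, 0, 0, 0],
  [0, 0, 0, 0, 0, 0, 0, 0, 0, 0, 0, 0, 0, 0, 0, 0, 0, 0, 0, 0, 0, 0, 0, 0, 0, 0, 0, 0, 0, 0, 0, 0, 0, 0, 0, 0, 0, 0, 0, 0, 0, 0],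
  [0, 0, 0, 0, 0, 0, 0, 0, 0, 0, 0, 0, 0, 0, 0, 0, 0, 0, 0, 0, 0, 0, 0, 0, 0, 0, 0, 0, 0, 0, 0, 0, 0, 0, 0, 0, 0, 0, 0, 0, 0, 0],
  [0, 0, 2, 0, 0, 0, 0, 0, 2, 0, 0, 0, 0, 0, 0, 0, 0, 0, 0, 0, 0, 0, 0, 0, 0, 0, 0, 0, 0, 0, 0, 0, 0, 0, 0, 0, 0, 0, 0, 0, 0, 0],
  [0, 0, 0, 0, 0, 0, 0, 0, 1, 0, 0, 0, 1, 0, 0, 0, 2, 0, 0, 0, 0, 0, 0, 0, 0, 0, 0, 0, 0, 0, 0, 0, 0, 0, 0, 0, 0, 0, 0, 0, 0, 0],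
  [1, 0, 0, 0, 1, 2, 1, 1, 0, 1, 0, 2, 0, 2, 0, 2, 0, 1, 0, 1, 0, 0, 0, 0, 0, 2, 0, 0, 0, 0, 0, 0, 0, 1, 0, 0, 2, 0, 0, 0, 0, 0],
  [0, 0, 0, 0, 0, 0, 0, 0, 0, 0, 0, 0, 0, 0, 0, 0, 0, 0, 0, 0, 0, 0, 0, 0, 0, 0, 0, 1, 0, 0, 0, 0, 0, 0, 0, 0, 0, 0, 0, 0, 0, 0],
  [0, 0, 0, 0, 0, 0, 0, 0, 0, 0, 1, 1, 0, 0, 0, 0, 1, 0, 0, 0, 0, 0, 0, 0, 0, 0, 0, 0, 0, 0, 1, 0, 0, 0, 0, 0, 0, 0, 0, 0, 0, 0],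
  [0, 0, 0, 2, 2, 0, 0, 1, 2, 2, 0, 2, 2, 1, 2, 1, 1, 1, 0, 1, 2, 0, 2, 1, 0, 0, 0, 0, 0, 0, 0, 0, 0, 0, 2, 2, 2, 2, 2, 0, 2, 1],
  [0, 0, 0, 0, 0, 0, 0, 0, 0, 0, 2, 0, 0, 0, 0, 0, 0, 0, 0, 0, 0, 0, 0, 0, 0, 0, 0, 0, 0, 0, 0, 0, 0, 0, 0, 0, 0, 0, 0, 0, 0, 0],
  [0, 0, 0, 0, 0, 0, 0, 0, 0, 0, 0, 0, 0, 0, 0, 0, 2, 0, 0, 0, 0, 0, 0, 0, 0, 0, 0, 0, 0, 0, 0, 0, 0, 0, 0, 0, 0, 0, 0, 0, 0, 0],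
  [0, 0, 0, 0, 0, 0, 0, 0, 0, 0, 1, 0, 0, 0, 0, 0, 1, 0, 0, 0, 0, 0, 0, 0, 0, 0, 0, 0, 0, 0, 1, 0, 0, 0, 0, 0, 0, 0, 0, 0, 0, 0],
  [0, 0, 0, 0, 0, 0, 0, 0, 0, 0, 0, 0, 0, 0, 0, 0, 2, 0, 0, 0, 0, 0, 0, 0, 0, 0, 0, 0, 0, 2, 0, 0, 0, 0, 0, 0, 0, 0, 0, 0, 0, 0],
  [0, 0, 0, 0, 0, 0, 0, 0, 0, 0, 0, 0, 0, 0, 0, 0, 0, 0, 0, 0, 0, 0, 0, 0, 0, 0, 0, 0, 0, 0, 0, 1, 0, 0, 0, 0, 0, 0, 0, 0, 0, 0],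
  [2, 0, 0, 2, 1, 1, 0, 0, 1, 2, 0, 0, 0, 2, 0, 2, 1, 2, 0, 2, 0, 0, 1, 1, 1, 1, 0, 0, 0, 0, 0, 0, 0, 0, 0, 0, 0, 0, 0, 2, 0, 0],
  [2, 0, 0, 2, 1, 2, 0, 1, 2, 1, 1, 1, 0, 1, 1, 1, 0, 0, 0, 0, 0, 0, 2, 0, 2, 1, 0, 0, 0, 0, 1, 0, 0, 1, 2, 0, 2, 0, 0, 1, 0, 0],
  [0, 0, 1, 0, 0, 0, 0, 0, 1, 0, 2, 0, 0, 0, 0, 0, 0, 0, 0, 1, 0, 0, 0, 0, 0, 0, 0, 0, 0, 0, 0, 0, 0, 0, 0, 0, 0, 0, 0, 0, 0, 0],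
  [0, 0, 0, 0, 0, 0, 2, 2, 2, 2, 0, 1, 0, 0, 0, 0, 0, 2, 0, 2, 0, 0, 0, 0, 0, 0, 0, 0, 0, 0, 0, 0, 0, 0, 0, 0, 0, 0, 0, 0, 0, 0],
  [1, 0, 0, 2, 1, 1, 0, 1, 0, 0, 0, 0, 2, 2, 2, 2, 2, 2, 0, 2, 0, 0, 1, 1, 1, 1, 0, 0, 0, 0, 0, 0, 0, 0, 0, 0, 0, 0, 0, 2, 0, 0],
  [0, 1, 0, 2, 0, 1, 0, 0, 2, 2, 0, 1, 0, 0, 0, 1, 0, 2, 0, 2, 0, 0, 0, 0, 0, 0, 1, 0, 0, 0, 0, 0, 0, 0, 0, 0, 0, 0, 0, 0, 0, 0],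
  [0, 0, 0, 0, 0, 0, 0, 0, 0, 0, 0, 2, 0, 0, 0, 0, 1, 0, 0, 0, 0, 0, 0, 0, 0, 0, 0, 0, 1, 2, 0, 0, 0, 0, 0, 0, 0, 0, 0, 0, 0, 0],
  [0, 0, 0, 0, 0, 0, 0, 0, 0, 0, 0, 0, 0, 0, 0, 0, 0, 0, 1, 0, 0, 0, 0, 0, 0, 0, 0, 2, 0, 0, 0, 1, 0, 0, 0, 0, 0, 0, 0, 0, 0, 0],
  [0, 0, 0, 0, 0, 0, 0, 0, 0, 0, 0, 0, 0, 0, 0, 0, 0, 0, 0, 0, 0, 0, 0, 0, 0, 0, 0, 0, 0, 0, 0, 0, 0, 0, 0, 0, 0, 0, 0, 0, 0, 0],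
  [0, 2, 2, 0, 0, 2, 1, 0, 2, 0, 0, 1, 2, 2, 0, 0, 1, 1, 0, 1, 0, 0, 2, 0, 2, 0, 0, 0, 0, 0, 1, 0, 0, 1, 2, 0, 1, 2, 2, 2, 0, 1],
  [1, 0, 1, 0, 0, 0, 0, 0, 1, 0, 2, 0, 0, 0, 0, 0, 0, 0, 0, 0, 0, 0, 0, 0, 0, 0, 0, 0, 0, 0, 0, 0, 0, 0, 0, 0, 0, 0, 0, 2, 0, 0],
  [2, 1, 2, 2, 0, 0, 1, 0, 0, 2, 2, 1, 2, 2, 0, 2, 1, 0, 0, 0, 1, 0, 2, 2, 2, 1, 0, 0, 0, 0, 1, 0, 0, 1, 1, 1, 0, 1, 1, 2, 1, 2],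
  [2, 0, 2, 0, 1, 0, 1, 0, 0, 2, 2, 0, 1, 1, 1, 2, 2, 2, 0, 2, 0, 0, 1, 0, 0, 0, 0, 0, 0, 0, 0, 0, 0, 1, 2, 1, 1, 1, 1, 2, 1, 2],
  [0, 0, 0, 0, 0, 0, 0, 0, 0, 0, 0, 0, 0, 0, 0, 0, 0, 0, 0, 0, 0, 0, 0, 0, 0, 0, 0, 0, 0, 0, 0, 0, 0, 0, 0, 0, 0, 0, 0, 0, 0, 0],
  [0, 1, 2, 1, 1, 1, 1, 0, 2, 1, 2, 1, 0, 2, 2, 1, 0, 1, 2, 2, 1, 2, 0, 2, 2, 1, 1, 1, 2, 0, 1, 0, 0, 0, 2, 2, 1, 2, 2, 2, 2, 1],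
  [0, 0, 0, 0, 0, 0, 0, 0, 0, 0, 0, 0, 0, 0, 0, 0, 0, 0, 0, 0, 0, 0, 0, 0, 0, 0, 0, 0, 0, 0, 0, 0, 0, 0, 0, 0, 0, 0, 0, 0, 0, 0],
  [0, 0, 0, 0, 0, 0, 0, 0, 0, 0, 0, 0, 0, 0, 0, 0, 0, 0, 0, 0, 0, 0, 0, 0, 0, 0, 0, 0, 0, 0, 0, 0, 1, 0, 0, 0, 0, 0, 0, 0, 0, 0]]

def levels : List Lev := [
  (686053158960052784330142814883562000, [686053158960052784330142814883562000]),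
  (686058229717196202158280598570287632, [686058229717196202158280598570287632]),
  (686058229717196202158280598570549776, [686058229717196202158280598570549776]),
  (686058229717196202158280598570549776, [728850431069426363333753084915007023, 686058229717196202158280598570549776, 645854808575119630591507326660296241]),
  (686058229717196202158280598570549776, [728934014307341201201631163825307183, 728850431069426363333753084915007023, 728850349442679465092514897368563247, 686058388173521230686955785658319376, 686058229717196202158280598570549776, 686053317571120317769349798845628944, 645854808575119630591507326660296241, 645776137483280677112560047474916913, 645854731745541500304070327118970417]),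
  (766533760422085115176983858116049426, [766533760422085115176983858116049426]),
  (852206658587909773353650494292640276, [852206658587909773353650494292640276]),
  (852206658587909773353650494292640276, [645854731822910391506359367398637037, 560098086933565702862013973581514287, 852206658587909773353650494292640276]),
  (852206658587909773353650494292640276, [686053159114800011607157481402810892, 645854731822910391506359367398637037, 560098086933565702862013973581514287, 769129908851354892408275956344043984, 519899659641676082761215859577340432, 769129908851354892552532019351407184, 728931481559465272451733905347233329, 643174836670120583663132448522747379, 852206658587909773353650494292640276])]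

def cert : CfsgLib.SchurPath.Cert where
  m := 9
  rels := rels
  paths := expandAll rels paths
  rows := rows
  mu := mu
  comb := comb

end CfsgLib.SchurCoOne.P3
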