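import Cfsg.Agent.Lib.Schur.CoOne.Check

/-! Generated certificate for the splitting over a Sylow 5-subgroup of Co0. -/

set_option autoImplicit false
set_option linter.all false
set_option maxRecDepth 100000

namespace CfsgLib.SchurCoOne.P5

open CfsgLib.SchurPath (Rels)
open CfsgLib.SchurCoTwo (Mat Lev expandAll)

def matA0 : List (List ℤ) := [[4, -2, 0, -2, -2, -2, 0, 0, 0, 0, 0, 0, -2, 0, 0, -2, 0, -2, 0, -2, 0, 0, 0, 4], [0, 2, 0, 2, 2, -2, 0, 0, 0, 0, 0, 4, -2, 0, 0, -2, 0, -2, 0, 2, 4, 0, 0, 0], [0, -2, 0, -2, 2, 2, 0, 0, 0, 0, 0, 0, -2, 0, 0, -2, 0, 2, 0, 2, 0, 4, 4, 0], [0, 2, 0, 2, -2, -2, 0, 0, 0, 0, 0, 0, 2, 0, 0, 2, 0, -2, 0, -2, 0, 4, 4, 0], [0, 2, 0, -2, 2, -2, 4, 0, 0, 4, 0, 0, 2, 0, 0,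 -2, 0, 2, 0, -2, 0, 0, 0, 0], [0, -2, 0, -2, -2, 2, 0, 0, 0, 0, 0, 4, 2, 0, 0, 2, 0, 2, 0, -2, 4, 0, 0, 0], [-2, 0, 2, 0, 0, 0, 2, -2, 2, -2, -2, 2, 0, 2, -2, 0, 2, 0, -2, 0, -2, 2, -2, 2], [0, -2, 0, 2, -2, -2, 0, 4, 4, 0, 0, 0, 2, 0, 0, -2, 0, 2, 0, 2, 0, 0, 0, 0], [0, -2, 0, 2, -2, 2, 4, 0, 0, 4, 0, 0, -2, 0, 0, 2, 0, -2, 0, 2, 0, 0, 0, 0], [0, 2, 0, -2, -2, 2, 0, 0, 0, 0, 4, 0, 2, 0, 0, -2, 4, -2, 0, 2, 0, 0, 0, 0], [-2, 0, 2, 0, 0, 0, -2, -2, 2, 2, -2, -2, 0, -2, -2, 0, 2, 0, 2, 0, 2, -2, 2, 2], [0, -2, 0, 2, 2, 2, 0, 0, 0, 0, 0, 0, 2, 4, 0, -2, 0, -2, 4, -2, 0, 0, 0, 0], [-2, 0, -2, 0, 0, 0, -2, -2, 2, 2, 2, -2, 0, 2, 2, 0, -2, 0, -2, 0, 2, 2, -2, 2], [0, 2, 0, -2, -2, -2, 0, 0, 0, 0, 0, 0, -2,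 4, 0, 2, 0, 2, 4, 2, 0, 0, 0, 0], [0, 2, 4, 2, -2, 2, 0, 0, 0, 0, 0, 0, -2, 0, 4, -2, 0, 2, 0, -2, 0, 0, 0, 0], [0, 2, 0, -2, 2, 2, 0, 4, 4, 0, 0, 0, -2, 0, 0, 2, 0, -2, 0, -2, 0, 0, 0, 0], [-2, 0, -2, 0, 0, 0, 2, 2, -2, -2, -2, -2, 0, -2, 2, 0, 2, 0, 2, 0, 2, 2, -2, 2], [0, -2, 4, -2, 2, -2, 0, 0, 0, 0, 0, 0, 2, 0, 4, 2, 0, -2, 0, 2, 0, 0, 0, 0], [-2, 0, -2, 0, 0, 0, 2, -2, 2, -2, 2, 2, 0, -2, 2, 0, -2, 0, 2, 0, -2, -2, 2, 2], [-2, 0, 2, 0, 0, 0, 2, 2, -2, -2, 2, -2, 0, 2, -2, 0, -2, 0, -2, 0, 2, -2, 2, 2], [-2, 0, 2, 0, 0, 0, -2, 2, -2, 2, 2, 2, 0, -2, -2, 0, -2, 0, 2, 0, -2, 2, -2, 2], [0, -2, 0, 2, 2, -2, 0, 0, 0, 0, 4, 0, -2, 0, 0, 2, 4, 2, 0, -2, 0, 0, 0, 0], [-2, 0, -2, 0, 0, 0, -2, 2, -2, 2, -2,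 2, 0, 2, 2, 0, 2, 0, -2, 0, -2, -2, 2, 2], [4, 2, 0, 2, 2, 2, 0, 0, 0, 0, 0, 0, 2, 0, 0, 2, 0, 2, 0, 2, 0, 0, 0, 4]]

def matT0 : List (List ℤ) := [[4, 0, 0, 0, 0, 0, -2, 0, 0, 0, -2, 0, -2, 0, 0, 0, -2, 0, -2, -2, -2, 0, -2, 4], [-2, 2, -2, 2, 2, -2, 0, -2, -2, 2, 0, -2, 0, 2, 2, 2, 0, -2, 0, 0, 0, -2, 0, 2], [0, 0, 0, 0, 0, 0, 2, 0, 0, 0, 2, 0, -2, 0, 4, 0, -2, 4, -2, 2, 2, 0, -2, 0], [-2, 2, -2, 2, -2, -2, 0, 2, 2, -2, 0, 2, 0, -2, 2, -2, 0, -2, 0, 0, 0, 2, 0, 2], [-2, 2, 2, -2, 2, -2, 0, -2, -2, -2, 0, 2, 0, -2, -2, 2, 0, 2, 0, 0, 0, 2, 0, 2], [-2, -2, 2, -2, -2, 2, 0, -2, 2, 2, 0, 2, 0, -2, 2, 2, 0, -2, 0, 0, 0, -2, 0, 2], [0, 0, 0, 0, 4, 0, 2, 0, 4, 0, -2, 0, -2, 0, 0, 0, 2, 0, 2, 2, -2, 0, -2,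 0], [0, 0, 0, 0, 0, 0, -2, 4, 0, 0, -2, 0, -2, 0, 0, 4, 2, 0, -2, 2, 2, 0, 2, 0], [0, 0, 0, 0, 0, 0, 2, 4, 0, 0, 2, 0, 2, 0, 0, 4, -2, 0, 2, -2, -2, 0, -2, 0], [0, 0, 0, 0, 4, 0, -2, 0, 4, 0, 2, 0, 2, 0, 0, 0, -2, 0, -2, -2, 2, 0, 2, 0], [0, 0, 0, 0, 0, 0, -2, 0, 0, 4, -2, 0, 2, 0, 0, 0, -2, 0, 2, 2, 2, 4, -2, 0], [0, 4, 0, 0, 0, 4, 2, 0, 0, 0, -2, 0, -2, 0, 0, 0, -2, 0, 2, -2, 2, 0, 2, 0], [-2, -2, -2, 2, 2, 2, 0, 2, -2, 2, 0, 2, 0, -2, -2, -2, 0, 2, 0, 0, 0, -2, 0, 2], [0, 0, 0, 0, 0, 0, 2, 0, 0, 0, -2, 4, 2, 4, 0, 0, -2, 0, -2, 2, -2, 0, 2, 0], [0, 0, 0, 0, 0, 0, -2, 0, 0, 0, -2, 0, 2, 0, 4, 0, 2, 4, 2, -2, -2, 0, 2, 0], [-2, -2, -2, 2, -2, 2, 0, -2, 2, -2, 0, -2, 0, 2, -2, 2, 0, 2, 0, 0, 0, 2, 0,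 2], [0, 0, 0, 0, 0, 0, 2, 0, 0, 4, 2, 0, -2, 0, 0, 0, 2, 0, -2, -2, -2, 4, 2, 0], [-2, -2, 2, -2, 2, 2, 0, 2, -2, -2, 0, -2, 0, 2, 2, -2, 0, -2, 0, 0, 0, 2, 0, 2], [0, 0, 0, 0, 0, 0, -2, 0, 0, 0, 2, 4, -2, 4, 0, 0, 2, 0, 2, -2, 2, 0, -2, 0], [-2, 2, 2, -2, -2, -2, 0, 2, 2, 2, 0, -2, 0, 2, -2, -2, 0, 2, 0, 0, 0, -2, 0, 2], [0, 4, 0, 0, 0, 4, -2, 0, 0, 0, 2, 0, 2, 0, 0, 0, 2, 0, -2, 2, -2, 0, -2, 0], [0, 0, 4, 4, 0, 0, 2, 0, 0, 0, -2, 0, 2, 0, 0, 0, 2, 0, -2, -2, 2, 0, -2, 0], [0, 0, 4, 4, 0, 0, -2, 0, 0, 0, 2, 0, -2, 0, 0, 0, -2, 0, 2, 2, -2, 0, 2, 0], [4, 0, 0, 0, 0, 0, 2, 0, 0, 0, 2, 0, 2, 0, 0, 0, 2, 0, 2, 2, 2, 0, 2, 4]]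

def matA1 : List (List ℤ) := [[4, -2, 0, 0, -2, -2, 0, 0, -2, 0, 0, 0, 0, 0, 0, 0, -2, 0, 0, -2, -2, 0, -2, 4], [-2, 0, -2, 2, 0, 0, 2, 2, 0, 2, -2, -2, 2, 2, -2, -2, 0, -2, -2, 0, 0, 2, 0, 2], [-2, 0, -2, -2, 0, 0, -2, -2, 0, -2, -2, 2, 2, 2, 2, 2, 0, -2, 2, 0, 0, 2, 0, 2], [0, -2, 0, 0, -2, -2, 0, 4, -2, 0, 0, 0, 0, 0, 0, 4, 2, 0, 0, 2, 2, 0, 2, 0], [0, 2, 0, 4, 2, -2, 0, 0, -2, 0, 0, 4, 0, 0, 0, 0, -2, 0, 0, 2, 2, 0, -2, 0], [0, -2, 0, 0, 2, 2, 0, 0, -2, 4, 0, 0, 0, 0, 4, 0, 2, 0, 0, -2, 2, 0, -2, 0], [0, 2, 4, 0, 2, -2, 0, 0, -2, 0, 0, 0, 0, 4, 0, 0, 2, 0, 0, -2, -2, 0, 2, 0], [0, -2, 4, 0, -2, 2, 0, 0, 2, 0, 0, 0, 0, 4, 0, 0, -2, 0, 0, 2, 2, 0, -2, 0], [0, -2, 0, 0, 2, 2, 0, 0, -2, 0, 0, 0, 0, 0,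 0, 0, -2, 4, 0, 2, -2, 4, 2, 0], [0, -2, 0, 0, 2, -2, 0, 0, 2, 0, 4, 0, 4, 0, 0, 0, -2, 0, 0, -2, 2, 0, 2, 0], [-2, 0, 2, 2, 0, 0, -2, -2, 0, 2, -2, -2, 2, -2, -2, 2, 0, 2, 2, 0, 0, -2, 0, 2], [0, 2, 0, 0, -2, -2, 0, 0, 2, 0, 0, 0, 0, 0, 0, 0, 2, 4, 0, -2, 2, 4, -2, 0], [-2, 0, 2, -2, 0, 0, -2, 2, 0, 2, 2, 2, -2, -2, -2, -2, 0, -2, 2, 0, 0, 2, 0, 2], [0, -2, 0, 0, 2, -2, 4, 0, 2, 0, 0, 0, 0, 0, 0, 0, 2, 0, 4, 2, -2, 0, -2, 0], [0, -2, 0, 4, -2, 2, 0, 0, 2, 0, 0, 4, 0, 0, 0, 0, 2, 0, 0, -2, -2, 0, 2, 0], [-2, 0, 2, -2, 0, 0, 2, 2, 0, -2, -2, 2, 2, -2, 2, -2, 0, 2, -2, 0, 0, -2, 0, 2], [0, 2, 0, 0, -2, -2, 0, 0, 2, 4, 0, 0, 0, 0, 4, 0, -2, 0, 0, 2, -2, 0, 2, 0], [0, 2, 0, 0, -2, 2, 4, 0, -2, 0, 0, 0, 0,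 0, 0, 0, -2, 0, 4, -2, 2, 0, 2, 0], [-2, 0, 2, 2, 0, 0, 2, -2, 0, -2, 2, -2, -2, -2, 2, 2, 0, -2, -2, 0, 0, 2, 0, 2], [-2, 0, -2, -2, 0, 0, 2, -2, 0, 2, 2, 2, -2, 2, -2, 2, 0, 2, -2, 0, 0, -2, 0, 2], [0, 2, 0, 0, -2, 2, 0, 0, -2, 0, 4, 0, 4, 0, 0, 0, 2, 0, 0, 2, -2, 0, -2, 0], [-2, 0, -2, 2, 0, 0, -2, 2, 0, -2, 2, -2, -2, 2, 2, -2, 0, 2, 2, 0, 0, -2, 0, 2], [0, 2, 0, 0, 2, 2, 0, 4, 2, 0, 0, 0, 0, 0, 0, 4, -2, 0, 0, -2, -2, 0, -2, 0], [4, 2, 0, 0, 2, 2, 0, 0, 2, 0, 0, 0, 0, 0, 0, 0, 2, 0, 0, 2, 2, 0, 2, 4]]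

def matT1 : List (List ℤ) := [[4, -2, -2, 0, 0, 0, 0, 0, 0, 0, -2, 0, -2, 0, 0, -2, 0, 0, -2, -2, 0, -2, 0, 4], [-2, 0, 0, -2, 2, -2, 2, -2, -2, -2, 0, 2, 0, -2, -2, 0, 2, 2, 0, 0, 2, 0, 2, 2], [0, -2, -2, 0, 0, 0, 4, 4, 0, 0, 2, 0, 2, 0, 0, 2, 0, 0, 2, -2, 0, -2, 0, 0], [0, 2, -2, 0, 4, 0, 0, 0, 0, 0, 2, 0, -2, 0, 4, -2, 0, 0, 2, -2, 0, 2, 0, 0], [-2, 0, 0, -2, 2, 2, 2, -2, 2, 2, 0, -2, 0, 2, -2, 0, -2, -2, 0, 0, -2, 0, 2, 2], [-2, 0, 0, -2, -2, 2, -2, 2, 2, -2, 0, -2, 0, -2, 2, 0, -2, 2, 0, 0, 2, 0, 2, 2], [0, 2, -2, 0, 0, 0, 0, 0, 0, 0, -2, 0, -2, 4, 0, 2, 0, 4, 2, 2, 0, -2, 0, 0], [0, 2, -2, 4, 0, 0, 0, 0, 0, 0, -2, 0, 2, 0, 0, 2, 0, 0, -2, -2, 0, 2, 4, 0], [-2, 0, 0, -2, -2, -2, -2, 2, -2, 2, 0,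 2, 0, 2, 2, 0, 2, -2, 0, 0, -2, 0, 2, 2], [0, 2, -2, 0, 0, 4, 0, 0, 0, 0, 2, 0, 2, 0, 0, -2, 4, 0, -2, 2, 0, -2, 0, 0], [0, -2, -2, 0, 0, 0, 0, 0, 0, 4, -2, 0, 2, 0, 0, -2, 0, 0, 2, 2, 4, 2, 0, 0], [0, -2, 2, 0, 4, 0, 0, 0, 0, 0, -2, 0, 2, 0, 4, 2, 0, 0, -2, 2, 0, -2, 0, 0], [0, 2, 2, 0, 0, 0, 0, 0, 0, 4, 2, 0, -2, 0, 0, 2, 0, 0, -2, -2, 4, -2, 0, 0], [0, 2, 2, 0, 0, 0, 4, 4, 0, 0, -2, 0, -2, 0, 0, -2, 0, 0, -2, 2, 0, 2, 0, 0], [0, -2, 2, 0, 0, 4, 0, 0, 0, 0, -2, 0, -2, 0, 0, 2, 4, 0, 2, -2, 0, 2, 0, 0], [0, -2, 2, 4, 0, 0, 0, 0, 0, 0, 2, 0, -2, 0, 0, -2, 0, 0, 2, 2, 0, -2, 4, 0], [-2, 0, 0, 2, -2, 2, 2, -2, -2, -2, 0, 2, 0, 2, 2, 0, -2, -2, 0, 0, 2, 0, -2, 2], [0, -2, -2, 0, 0, 0, 0, 0, 4, 0, 2, 4, -2,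 0, 0, 2, 0, 0, -2, 2, 0, 2, 0, 0], [0, -2, 2, 0, 0, 0, 0, 0, 0, 0, 2, 0, 2, 4, 0, -2, 0, 4, -2, -2, 0, 2, 0, 0], [-2, 0, 0, 2, 2, -2, -2, 2, 2, -2, 0, -2, 0, 2, -2, 0, 2, -2, 0, 0, 2, 0, -2, 2], [-2, 0, 0, 2, 2, 2, -2, 2, -2, 2, 0, 2, 0, -2, -2, 0, -2, 2, 0, 0, -2, 0, -2, 2], [0, 2, 2, 0, 0, 0, 0, 0, 4, 0, -2, 4, 2, 0, 0, -2, 0, 0, 2, -2, 0, -2, 0, 0], [-2, 0, 0, 2, -2, -2, 2, -2, 2, 2, 0, -2, 0, -2, 2, 0, 2, 2, 0, 0, -2, 0, -2, 2], [4, 2, 2, 0, 0, 0, 0, 0, 0, 0, 2, 0, 2, 0, 0, 2, 0, 0, 2, 2, 0, 2, 0, 4]]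

def matA2 : List (List ℤ) := [[6, 0, 0, 0, 0, -2, 0, 0, 0, 0, -2, 0, 0, -2, 2, -2, 0, 0, 0, 0, 0, 0, -2, 2], [0, 2, 2, -2, 2, 0, 2, -2, 2, 2, 0, -2, 2, 0, 0, 0, -2, -2, 2, 2, -2, 2, 0, 0], [0, -2, -2, 2, -2, 0, 2, -2, 2, -2, 0, -2, 2, 0, 0, 0, 2, 2, 2, 2, 2, 2, 0, 0], [0, -2, -2, 2, 2, 0, 2, 2, 2, 2, 0, 2, 2, 0, 0, 0, -2, 2, -2, -2, -2, 2, 0, 0], [0, 2, -2, -2, 2, 0, 2, -2, 2, 2, 0, 2, -2, 0, 0, 0, 2, 2, -2, 2, 2, -2, 0, 0], [-2, 0, 0, 0, 0, 6, 0, 0, 0, 0, -2, 0, 0, -2, 2, -2, 0, 0, 0, 0, 0, 0, -2, 2], [-2, 0, 0, 0, 0, -2, 0, 0, 0, 0, -2, 0, 0, 6, 2, -2, 0, 0, 0, 0, 0, 0, -2, 2], [0, 2, 2, 2, 2, 0, -2, -2, 2, -2, 0, 2, -2, 0, 0, 0, -2, 2, 2, -2, 2, 2, 0, 0], [-2, 0, 0, 0, 0, -2, 0, 0, 0, 0, -2, 0, 0,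 -2, 2, 6, 0, 0, 0, 0, 0, 0, -2, 2], [0, -2, 2, 2, 2, 0, -2, -2, -2, 2, 0, 2, 2, 0, 0, 0, 2, -2, -2, 2, 2, 2, 0, 0], [0, 2, -2, 2, -2, 0, -2, 2, 2, 2, 0, 2, 2, 0, 0, 0, -2, -2, 2, 2, 2, -2, 0, 0], [0, 2, 2, 2, -2, 0, 2, -2, -2, 2, 0, 2, 2, 0, 0, 0, 2, 2, 2, -2, -2, -2, 0, 0], [-2, 0, 0, 0, 0, -2, 0, 0, 0, 0, 6, 0, 0, -2, 2, -2, 0, 0, 0, 0, 0, 0, -2, 2], [0, 2, -2, 2, 2, 0, 2, 2, -2, -2, 0, 2, -2, 0, 0, 0, 2, -2, 2, 2, -2, 2, 0, 0], [2, 0, 0, 0, 0, 2, 0, 0, 0, 0, 2, 0, 0, 2, 6, 2, 0, 0, 0, 0, 0, 0, 2, -2], [0, -2, 2, -2, -2, 0, 2, 2, -2, 2, 0, 2, -2, 0, 0, 0, -2, 2, 2, 2, 2, 2, 0, 0], [0, -2, 2, 2, 2, 0, 2, 2, 2, 2, 0, -2, -2, 0, 0, 0, 2, -2, 2, -2, 2, -2, 0, 0], [0, 2, 2, -2, -2, 0, 2, 2, 2, -2, 0, 2,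 2, 0, 0, 0, 2, -2, -2, -2, 2, 2, 0, 0], [0, 2, 2, 2, -2, 0, -2, 2, 2, 2, 0, -2, -2, 0, 0, 0, 2, 2, -2, 2, -2, 2, 0, 0], [0, 2, 2, 2, 2, 0, 2, 2, -2, -2, 0, -2, 2, 0, 0, 0, -2, 2, -2, 2, 2, -2, 0, 0], [0, 2, -2, -2, 2, 0, -2, 2, -2, 2, 0, -2, 2, 0, 0, 0, 2, 2, 2, -2, 2, 2, 0, 0], [-2, 0, 0, 0, 0, -2, 0, 0, 0, 0, -2, 0, 0, -2, 2, -2, 0, 0, 0, 0, 0, 0, 6, 2], [0, -2, 2, -2, 2, 0, -2, 2, 2, -2, 0, 2, 2, 0, 0, 0, 2, 2, 2, 2, -2, -2, 0, 0], [2, 0, 0, 0, 0, 2, 0, 0, 0, 0, 2, 0, 0, 2, -2, 2, 0, 0, 0, 0, 0, 0, 2, 6]]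

def matT2 : List (List ℤ) := [[6, 0, 0, 0, 0, -2, -2, 0, -2, 0, 0, 0, -2, 0, 2, 0, 0, 0, 0, 0, 0, -2, 0, 2], [0, 2, -2, -2, 2, 0, 0, 2, 0, -2, 2, 2, 0, 2, 0, -2, -2, 2, 2, 2, 2, 0, -2, 0], [0, 2, -2, -2, -2, 0, 0, 2, 0, 2, -2, 2, 0, -2, 0, 2, 2, 2, 2, 2, -2, 0, 2, 0], [0, -2, 2, 2, -2, 0, 0, 2, 0, 2, 2, 2, 0, 2, 0, -2, 2, -2, 2, 2, -2, 0, -2, 0], [0, 2, -2, 2, 2, 0, 0, 2, 0, 2, -2, -2, 0, 2, 0, -2, 2, -2, -2, 2, 2, 0, 2, 0], [-2, 0, 0, 0, 0, 6, -2, 0, -2, 0, 0, 0, -2, 0, 2, 0, 0, 0, 0, 0, 0, -2, 0, 2], [0, 2, 2, 2, 2, 0, 0, -2, 0, -2, -2, 2, 0, 2, 0, 2, 2, 2, -2, 2, -2, 0, -2, 0], [0, -2, -2, 2, -2, 0, 0, -2, 0, -2, 2, -2, 0, 2, 0, 2, 2, 2, 2, 2, 2, 0, 2, 0], [0, 2, 2, 2, 2, 0, 0, 2, 0, -2, 2, -2, 0,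 -2, 0, -2, 2, 2, 2, -2, -2, 0, 2, 0], [0, 2, -2, 2, 2, 0, 0, -2, 0, 2, 2, 2, 0, -2, 0, 2, 2, -2, 2, -2, 2, 0, -2, 0], [-2, 0, 0, 0, 0, -2, -2, 0, -2, 0, 0, 0, 6, 0, 2, 0, 0, 0, 0, 0, 0, -2, 0, 2], [0, -2, -2, 2, 2, 0, 0, 2, 0, 2, 2, 2, 0, 2, 0, 2, -2, 2, -2, -2, -2, 0, 2, 0], [0, 2, 2, 2, -2, 0, 0, -2, 0, 2, 2, 2, 0, -2, 0, -2, -2, 2, -2, 2, 2, 0, 2, 0], [-2, 0, 0, 0, 0, -2, 6, 0, -2, 0, 0, 0, -2, 0, 2, 0, 0, 0, 0, 0, 0, -2, 0, 2], [2, 0, 0, 0, 0, 2, 2, 0, 2, 0, 0, 0, 2, 0, 6, 0, 0, 0, 0, 0, 0, 2, 0, -2], [-2, 0, 0, 0, 0, -2, -2, 0, 6, 0, 0, 0, -2, 0, 2, 0, 0, 0, 0, 0, 0, -2, 0, 2], [0, -2, 2, -2, 2, 0, 0, -2, 0, 2, -2, 2, 0, 2, 0, -2, 2, 2, 2, -2, 2, 0, 2, 0], [0, -2, 2, 2, 2, 0, 0, 2, 0, -2, -2, 2,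 0, -2, 0, 2, -2, -2, 2, 2, 2, 0, 2, 0], [0, 2, 2, -2, -2, 0, 0, 2, 0, -2, 2, 2, 0, 2, 0, 2, 2, -2, -2, -2, 2, 0, 2, 0], [0, 2, 2, -2, 2, 0, 0, -2, 0, 2, 2, -2, 0, 2, 0, 2, -2, -2, 2, 2, -2, 0, 2, 0], [0, -2, 2, -2, 2, 0, 0, 2, 0, 2, 2, -2, 0, -2, 0, 2, 2, 2, -2, 2, 2, 0, -2, 0], [0, 2, 2, 2, -2, 0, 0, 2, 0, 2, -2, -2, 0, 2, 0, 2, -2, 2, 2, -2, 2, 0, -2, 0], [-2, 0, 0, 0, 0, -2, -2, 0, -2, 0, 0, 0, -2, 0, 2, 0, 0, 0, 0, 0, 0, 6, 0, 2], [2, 0, 0, 0, 0, 2, 2, 0, 2, 0, 0, 0, 2, 0, -2, 0, 0, 0, 0, 0, 0, 2, 0, 6]]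

def matA3 : List (List ℤ) := [[-1, -1, -1, -1, -1, 3, -1, -1, 1, 1, 1, 1, 1, -1, 3, 1, -1, -1, 1, -1, 1, -1, -1, -5], [1, 1, 1, 1, 1, 1, 1, 1, 3, -1, -1, -1, -1, 1, 1, 3, -3, -3, -1, -3, -1, 1, 1, 1], [-1, -1, -1, -1, -1, -5, -1, -1, 1, 1, 1, 1, 1, -1, 3, 1, -1, -1, 1, -1, 1, -1, -1, 3], [1, 1, 1, -3, 1, 1, 1, 1, -1, -1, -1, -1, 3, 1, 1, -1, 1, 1, -1, -3, 3, 1, -3, 1], [1, 1, 1, -3, -3, 1, 1, 1, -1, -1, -1, 3, -1, 1, 1, 3, 1, 1, -1, 1, -1, -3, 1, 1], [3, -1, -1, -1, -1, -1, -1, 3, 1, 1, 1, -3, 1, -1, -1, 1, -1, -1, -3, 3, 1, -1, -1, -1], [1, -3, 1, 1, 1, 1, 1, 1, -1, 3, -1, -1, 3, 1, 1, 3, 1, 1, 3, 1, -1, 1, 1, 1], [1, 1, 1, 1, 1, 1, -3, 1, -1, 3, -1, 3, -1, 1, 1, -1, 1, -3, -1, 1, -1, 1, -3, 1], [1,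 1, -3, 1, 1, 1, -3, -3, -1, -1, -1, -1, -1, 1, 1, 3, 1, 1, -1, 1, 3, 1, 1, 1], [1, -3, 1, 1, 1, 1, 1, -3, -1, -1, -1, -1, -1, 1, 1, -1, -3, 1, -1, 1, -1, -3, -3, 1], [3, -1, -1, -1, -1, -1, 3, -1, -3, 1, 1, 1, -3, -1, -1, 1, -1, -1, 1, -1, 1, 3, -1, -1], [1, 1, 1, -3, 1, 1, 1, -3, 3, 3, -1, -1, -1, -3, 1, -1, 1, 1, -1, 1, -1, 1, 1, 1], [3, -1, -1, -1, 3, -1, -1, -1, 1, -3, 1, 1, 1, -1, -1, 1, 3, -1, 1, -1, -3, -1, -1, -1], [1, -3, 1, 1, 1, 1, 1, 1, 3, -1, 3, 3, -1, 1, 1, -1, 1, 1, -1, 1, 3, 1, 1, 1], [-1, -1, -1, -1, -1, 3, -1, -1, 1, 1, 1, 1, 1, -1, -5, 1, -1, -1, 1, -1, 1, -1, -1, 3], [1, 1, 1, 1, -3, 1, 1, -3, -1, -1, 3, -1, 3, 1, 1, -1, 1, -3, -1, 1, -1, 1, 1, 1], [1, 1, 1, -3, 1, 1, -3, 1, -1, -1,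 3, -1, -1, 1, 1, -1, -3, 1, 3, 1, -1, 1, 1, 1], [1, 1, -3, 1, 1, 1, 1, 1, -1, 3, 3, -1, -1, 1, 1, -1, 1, 1, -1, -3, -1, -3, 1, 1], [3, 3, 3, 3, -1, -1, -1, -1, 1, 1, 1, 1, 1, -1, -1, 1, -1, 3, 1, -1, 1, -1, -1, -1], [1, 1, -3, 1, -3, 1, 1, 1, 3, -1, -1, -1, -1, 1, 1, -1, 1, 1, 3, 1, -1, 1, -3, 1], [3, -1, -1, -1, -1, -1, -1, -1, 1, 1, -3, 1, 1, 3, -1, -3, -1, -1, 1, -1, 1, -1, 3, -1], [1, 1, -3, 1, 1, 1, 1, 1, -1, -1, -1, 3, 3, -3, 1, -1, -3, 1, -1, 1, -1, 1, 1, 1], [1, 1, 1, 1, 1, 1, 1, 1, -1, -1, -1, -1, -1, -3, 1, -1, 1, -3, 3, 1, 3, -3, 1, 1], [1, -3, 1, 1, -3, 1, -3, 1, -1, -1, -1, -1, -1, -3, 1, -1, 1, 1, -1, -3, -1, 1, 1, 1]]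

def matT3 : List (List ℤ) := [[-1, 1, -1, 1, 1, 3, 1, 1, 1, 1, 3, 1, 3, 1, -1, 1, 1, 1, 3, 1, 3, 1, 1, 1], [-1, 1, -1, 1, 1, -1, -3, 1, 1, -3, -1, 1, -1, -3, -1, 1, 1, 1, 3, 1, -1, 1, 1, -3], [-1, 1, -1, 1, 1, -1, 1, 1, -3, 1, -1, 1, -1, 1, -1, 1, 1, -3, 3, -3, -1, -3, 1, 1], [-1, 1, -1, -3, -3, -1, 1, 1, 1, 1, -1, -3, -1, 1, -1, 1, -3, 1, 3, 1, -1, 1, 1, 1], [-1, 1, -1, 1, -3, -1, 1, 1, 1, 1, -1, 1, 3, 1, -1, -3, 1, 1, -1, -3, -1, 1, 1, -3], [3, 1, -5, 1, 1, -1, 1, 1, 1, 1, -1, 1, -1, 1, 3, 1, 1, 1, -1, 1, -1, 1, 1, 1], [-1, 1, -1, 1, 1, -1, 1, -3, -3, 1, 3, 1, -1, 1, -1, 1, -3, 1, -1, 1, -1, 1, 1, -3], [-1, 1, -1, 1, 1, 3, 1, 1, -3, -3, -1, -3, -1, 1, -1, -3, 1, 1, -1, 1, -1, 1, 1, 1], [1, 3, 1, -1,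 -1, 1, -1, -1, -1, -1, -3, 3, 1, 3, 1, -1, -1, -1, 1, 3, 1, -1, -1, -1], [1, -1, 1, -1, -1, 1, 3, 3, -1, -1, 1, 3, -3, -1, 1, -1, -1, 3, 1, -1, 1, -1, -1, -1], [1, -1, 1, -1, -1, 1, -1, -1, -1, -1, 1, -1, 1, 3, 1, 3, 3, 3, 1, -1, -3, -1, -1, -1], [1, -1, 1, -1, 3, -3, -1, 3, -1, -1, 1, -1, 1, 3, 1, -1, -1, -1, 1, -1, 1, 3, -1, -1], [1, -1, 1, 3, -1, 1, 3, -1, -1, -1, -3, -1, 1, -1, 1, 3, -1, -1, 1, -1, 1, 3, -1, -1], [-1, 1, -1, 1, 1, -1, 1, 1, 1, 1, -1, -3, -1, 1, -1, 1, 1, 1, -1, 1, 3, -3, -3, -3], [3, 1, 3, 1, 1, -1, 1, 1, 1, 1, -1, 1, -1, 1, -5, 1, 1, 1, -1, 1, -1, 1, 1, 1], [1, 3, 1, -1, 3, 1, 3, -1, 3, -1, 1, -1, 1, -1, 1, -1, -1, -1, 1, -1, -3, -1, -1, -1], [-1, -3, -1, 1, 1, -1, 1, 1, 1, -3, -1,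 1, 3, 1, -1, 1, -3, 1, -1, 1, -1, -3, 1, 1], [-1, -3, -1, 1, 1, -1, 1, -3, 1, 1, -1, 1, -1, 1, -1, -3, 1, 1, 3, 1, -1, 1, -3, 1], [1, -1, 1, -1, -1, -3, 3, -1, -1, -1, 1, -1, 1, -1, 1, -1, 3, -1, 1, 3, 1, -1, 3, -1], [-1, -3, -1, -3, 1, 3, 1, 1, 1, 1, -1, 1, -1, 1, -1, 1, 1, -3, -1, 1, -1, 1, 1, -3], [1, -1, 1, 3, -1, 1, -1, -1, 3, -1, 1, -1, -3, 3, 1, -1, -1, -1, 1, -1, 1, -1, 3, -1], [-1, 1, -1, 1, -3, -1, 1, 1, 1, -3, 3, 1, -1, 1, -1, 1, 1, -3, -1, 1, -1, 1, -3, 1], [-1, 1, -1, -3, 1, -1, 1, -3, 1, -3, -1, 1, -1, 1, -1, 1, 1, 1, -1, -3, 3, 1, 1, 1], [-5, 1, 3, 1, 1, -1, 1, 1, 1, 1, -1, 1, -1, 1, 3, 1, 1, 1, -1, 1, -1, 1, 1, 1]]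

def matA4 : List (List ℤ) := [[5, -1, 1, -1, -1, -1, -1, -1, 1, -1, -1, -1, -1, -1, -3, -1, -1, 1, 1, 1, -1, 1, -1, 3], [-3, -1, 1, -1, -1, -1, -1, -1, 1, -1, -1, -1, -1, -1, 5, -1, -1, 1, 1, 1, -1, 1, -1, 3], [-1, -3, -1, 1, 1, 1, 1, 1, 3, -3, 1, 1, 1, 1, -1, 1, 1, -1, -1, 3, 1, -1, -3, 1], [-1, 1, -1, 1, 1, 1, -3, 1, -1, 1, -3, 1, 1, 1, -1, 1, 1, 3, -1, 3, -3, -1, 1, 1], [-1, -3, -1, 1, -3, 1, 1, 1, -1, 1, -3, 1, 1, 1, -1, 1, 1, -1, 3, -1, 1, 3, 1, 1], [-1, 1, -1, -3, 1, 1, 1, 1, -1, 1, 1, 1, 1, -3, -1, 1, -3, -1, -1, 3, 1, 3, 1, 1], [1, -1, 1, 3, 3, -1, 3, 3, 1, -1, -1, -1, -1, -1, 1, -1, -1, 1, 1, 1, -1, 1, 3, -1], [-1, 1, 3, 1, 1, 1, 1, 1, -1, 1, 1, -3, 1, 1, -1, 1, 1, -1, -1, -1, -3, 3, -3, 1],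 [-1, 1, -1, 1, 1, -3, -3, 1, 3, 1, 1, 1, -3, 1, -1, 1, 1, -1, -1, -1, 1, 3, 1, 1], [1, -1, 1, -1, 3, 3, -1, -1, 1, 3, -1, -1, -1, -1, 1, -1, 3, 1, 1, 1, 3, 1, -1, -1], [-1, 1, 3, 1, 1, 1, -3, 1, -1, -3, 1, 1, 1, -3, -1, 1, 1, -1, 3, -1, 1, -1, 1, 1], [-1, 1, 3, 1, 1, 1, 1, -3, 3, 1, -3, 1, 1, 1, -1, 1, -3, -1, -1, -1, 1, -1, 1, 1], [-1, 1, -1, 1, -3, 1, 1, 1, 3, 1, 1, -3, 1, -3, -1, 1, 1, 3, -1, -1, 1, -1, 1, 1], [1, 3, 1, -1, -1, -1, 3, -1, 1, -1, -1, 3, -1, -1, 1, 3, 3, 1, 1, 1, -1, 1, -1, -1], [-1, 1, -1, 1, 1, -3, 1, -3, -1, 1, 1, -3, 1, 1, -1, 1, 1, -1, 3, 3, 1, -1, 1, 1], [-1, 1, -1, 1, 1, 1, 1, -3, -1, -3, 1, 1, 1, 1, -1, -3, 1, 3, -1, -1, 1, 3, 1, 1], [1, 3, 1, -1, -1, -1, -1, 3, 1, -1, -1, -1,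 3, 3, 1, -1, -1, 1, 1, 1, 3, 1, -1, -1], [-1, 1, 3, 1, -3, 1, 1, 1, -1, 1, 1, 1, -3, 1, -1, -3, 1, -1, -1, 3, 1, -1, 1, 1], [-1, 1, -1, -3, 1, 1, 1, 1, 3, 1, 1, 1, 1, 1, -1, -3, 1, -1, 3, -1, -3, -1, 1, 1], [1, -1, 1, -1, -1, 3, -1, -1, 1, -1, 3, -1, -1, 3, 1, 3, -1, 1, 1, 1, -1, 1, 3, -1], [1, -1, 1, 3, -1, -1, -1, -1, 1, 3, 3, 3, 3, -1, 1, -1, -1, 1, 1, 1, -1, 1, -1, -1], [-1, 1, -1, 1, 1, 1, 1, 1, -1, 1, 1, 1, -3, 1, -1, 1, -3, 3, 3, -1, 1, -1, -3, 1], [-1, -3, 3, -3, 1, -3, 1, 1, -1, 1, 1, 1, 1, 1, -1, 1, 1, 3, -1, -1, 1, -1, 1, 1], [3, 1, -1, 1, 1, 1, 1, 1, -1, 1, 1, 1, 1, 1, 3, 1, 1, -1, -1, -1, 1, -1, 1, 5]]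

def matT4 : List (List ℤ) := [[5, -3, -1, -1, -1, -1, 1, -1, -1, 1, -1, -1, -1, 1, -1, -1, 1, -1, -1, 1, 1, -1, -1, 3], [-1, -1, -3, 1, -3, 1, -1, 1, 1, -1, 1, 1, 1, 3, 1, 1, 3, 1, 1, -1, -1, 1, -3, 1], [1, 1, -1, -1, -1, -1, 1, 3, -1, 1, 3, 3, -1, 1, -1, -1, 1, 3, -1, 1, 1, -1, 3, -1], [-1, -1, 1, 1, 1, -3, 3, 1, 1, -1, 1, 1, 1, -1, 1, 1, -1, 1, -3, -1, 3, 1, -3, 1], [-1, -1, 1, 1, -3, 1, 3, 1, 1, 3, 1, 1, -3, -1, 1, 1, -1, -3, 1, -1, -1, 1, 1, 1], [-1, -1, 1, 1, 1, 1, -1, 1, -3, 3, 1, 1, 1, -1, -3, 1, -1, 1, 1, 3, -1, 1, -3, 1], [-1, -1, 1, -3, 1, 1, 3, 1, -3, -1, -3, 1, 1, 3, 1, 1, -1, 1, 1, -1, -1, 1, 1, 1], [-1, -1, 1, 1, 1, 1, 3, 1, 1, -1, 1, -3, 1, -1, -3, -3, 3, 1, 1, -1, -1, 1, 1, 1], [1, 1,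 3, -1, -1, -1, 1, -1, 3, 1, -1, 3, 3, 1, -1, -1, 1, -1, 3, 1, 1, -1, -1, -1], [-1, -1, -3, 1, 1, 1, -1, 1, 1, 3, -3, 1, 1, -1, 1, -3, -1, 1, 1, -1, 3, 1, 1, 1], [-1, -1, 1, -3, -3, 1, -1, 1, 1, -1, 1, -3, 1, -1, 1, 1, -1, 1, 1, 3, 3, 1, 1, 1], [-1, -1, 1, 1, 1, 1, -1, -3, 1, -1, 1, 1, -3, 3, -3, 1, -1, 1, 1, -1, 3, 1, 1, 1], [-1, -1, 1, 1, 1, 1, -1, 1, -3, -1, 1, 1, 1, -1, 1, 1, 3, -3, 1, -1, 3, -3, 1, 1], [-1, -1, 1, 1, 1, -3, -1, 1, 1, -1, -3, 1, -3, -1, 1, 1, 3, 1, 1, 3, -1, 1, 1, 1], [-3, 5, -1, -1, -1, -1, 1, -1, -1, 1, -1, -1, -1, 1, -1, -1, 1, -1, -1, 1, 1, -1, -1, 3], [-1, -1, 1, 1, 1, 1, -1, 1, 1, -1, 1, 1, 1, 3, 1, -3, -1, -3, -3, 3, -1, 1, 1, 1], [-1, -1, 1, 1, 1, -3, -1, 1, 1, 3, 1, -3, 1,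 3, 1, 1, -1, 1, 1, -1, -1, -3, 1, 1], [1, 1, -1, 3, -1, -1, 1, -1, -1, 1, -1, -1, 3, 1, -1, 3, 1, -1, -1, 1, 1, 3, 3, -1], [1, 1, -1, -1, 3, -1, 1, -1, -1, 1, 3, -1, -1, 1, 3, -1, 1, -1, 3, 1, 1, 3, -1, -1], [1, 1, 3, 3, -1, 3, 1, -1, -1, 1, -1, -1, -1, 1, 3, -1, 1, 3, -1, 1, 1, -1, -1, -1], [-1, -1, 1, -3, 1, 1, -1, -3, 1, 3, 1, 1, 1, -1, 1, 1, 3, 1, -3, -1, -1, 1, 1, 1], [1, 1, -1, -1, 3, 3, 1, 3, 3, 1, -1, -1, -1, 1, -1, 3, 1, -1, -1, 1, 1, -1, -1, -1], [-1, -1, -3, 1, 1, 1, 3, -3, 1, -1, 1, 1, 1, -1, 1, 1, -1, 1, 1, 3, -1, -3, 1, 1], [3, 3, 1, 1, 1, 1, -1, 1, 1, -1, 1, 1, 1, -1, 1, 1, -1, 1, 1, -1, -1, 1, 1, 5]]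

def matA5 : List (List ℤ) := [[1, -3, -1, -1, 1, 1, -3, 1, -1, -1, -1, 1, -1, -1, -3, -1, 3, 1, -1, -1, 1, -3, -1, 1], [-1, -1, 1, 1, -1, -1, -1, -1, 5, 1, -3, -1, 1, 1, -1, 1, 1, -1, 1, -3, -1, -1, 1, -1], [1, 1, -1, -1, 1, 1, 1, 1, -1, -1, -1, 1, 3, 3, -3, -1, -1, 1, 3, -1, 1, 1, -1, -3], [1, -3, 3, -1, -3, 1, 1, 1, -1, -1, -1, 1, -1, -1, 1, -1, -1, -3, -1, -1, 1, 1, -1, -3], [3, -1, 1, 1, -1, -1, -1, -1, 1, 1, 1, 3, 1, 1, -1, -3, 1, -1, 1, 1, -1, 3, 1, 3], [-3, 1, -1, 3, -3, -3, 1, 1, -1, -1, -1, 1, -1, -1, -3, -1, -1, 1, -1, -1, 1, 1, -1, 1], [-1, -1, 1, -3, -1, -1, 3, -1, 1, 1, 1, -1, 1, 1, -1, -3, 1, 3, -3, 1, -1, -1, 1, -1], [1, 1, 3, -1, 1, 1, 1, 1, -1, -1, -1, 1, -1, -1, -3, 3, -1, 1, -1, -1,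 -3, 1, 3, 1], [-3, 1, -1, -1, 1, 1, 1, 1, -1, -1, -1, 1, -1, 3, 1, -1, 3, -3, -1, -1, 1, 1, 3, 1], [-1, -1, 1, 1, -1, 3, 3, 3, 1, 1, 1, -1, 1, 1, -1, 1, 1, -1, 1, 1, -1, -1, -3, 3], [1, -3, -1, -1, 1, -3, 1, 1, -1, 3, -1, 1, -1, 3, 1, 3, -1, 1, -1, -1, 1, 1, -1, 1], [1, 1, -1, -1, 1, 1, 1, -3, -1, 3, -1, -3, -1, -1, -3, -1, -1, -3, -1, -1, 1, 1, -1, 1], [1, 1, 3, 3, 1, 1, 1, -3, -1, -1, -1, 1, -1, 3, 1, -1, -1, 1, -1, -1, 1, -3, -1, 1], [1, 1, -1, -1, -3, 1, -3, 1, -1, -1, -1, -3, -1, 3, 1, -1, -1, 1, -1, -1, -3, 1, -1, 1], [-1, 3, 1, -3, -1, -1, -1, -1, 1, 1, 1, 3, -3, 1, -1, 1, 1, -1, 1, 1, -1, -1, -3, -1], [1, 1, -1, -1, -3, 1, 1, 1, -1, 3, -1, 1, -1, -1, 1, -1, -1, 1, 3, -1, 1, -3, 3, 1], [-1, -1,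 1, 1, -1, -1, -1, -1, -3, 1, -3, -1, 1, 1, -1, 1, 1, -1, 1, 5, -1, -1, 1, -1], [1, 1, -1, 3, 1, 1, 1, 1, -1, 3, -1, 1, -1, -1, 1, -1, 3, 1, -1, -1, -3, 1, -1, -3], [-1, -1, 1, 1, -1, 3, -1, -1, 1, 1, 1, -1, -3, 1, -1, 1, 1, 3, 1, 1, 3, 3, 1, -1], [-3, 1, 3, -1, 1, 1, -3, 1, -1, 3, -1, 1, 3, -1, 1, -1, -1, 1, -1, -1, 1, 1, -1, 1], [1, 1, -1, -1, 1, 1, 1, 1, 3, -1, -5, 1, -1, -1, 1, -1, -1, 1, -1, 3, 1, 1, -1, 1], [1, 1, 3, -1, 1, -3, 1, 1, -1, -1, -1, -3, -1, -1, 1, -1, 3, 1, 3, -1, 1, 1, -1, 1], [3, 3, 1, 1, -1, -1, -1, 3, 1, 1, 1, -1, 1, 1, -1, 1, 1, -1, -3, 1, 3, -1, 1, -1], [1, 1, -1, -1, -3, 1, 1, -3, -1, -1, -1, 1, 3, -1, 1, 3, 3, 1, -1, -1, 1, 1, -1, 1]]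

def matT5 : List (List ℤ) := [[1, -1, 1, 1, 3, -3, -1, 1, -3, -1, 1, 1, 1, 1, -1, 1, -1, 1, -1, -3, 1, 1, 3, 1], [-3, -1, 1, -3, -1, 1, -1, 1, 1, -1, -3, 1, 1, 1, 3, 1, -1, 1, -1, 1, 1, 1, 3, 1], [-1, 1, -1, 3, 1, -1, 1, 3, -1, 1, -1, -1, 3, -1, 1, -1, 1, -1, 1, 3, -1, 3, 1, -1], [-1, 1, -1, -1, 1, 3, -3, -1, -1, 1, -1, -1, 3, -1, -3, -1, 1, 3, 1, -1, -1, -1, 1, -1], [1, -1, 1, -3, -1, -3, -1, 1, 1, -1, 1, 1, 1, -3, -1, -3, -1, 1, -1, 1, 1, 1, -1, -3], [1, -1, 1, 1, -1, -3, -1, 1, 1, 3, -3, 1, 1, 1, -1, 1, -1, 1, 3, 1, 1, -3, -1, 1], [-3, -1, 1, 1, -1, 1, 3, 1, 1, 3, 1, 1, 1, -3, -1, 1, -1, 1, -1, -3, 1, 1, -1, 1], [1, -1, 1, 1, -1, 1, -1, 1, 1, 3, 1, -3, -3, 1, -1, 1, -1, 1, -1, 1, 1, 1, 3, -3], [-1,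 5, -1, -1, 1, -1, 1, -1, -1, 1, -1, -1, -1, -1, 1, -1, -3, -1, 1, -1, 3, -1, 1, -1], [-1, 1, -1, -1, 1, -1, 1, -1, -1, 1, 3, 3, -1, -1, 1, 3, 1, 3, 1, 3, -1, -1, 1, -1], [-1, -3, -1, -1, 1, -1, 1, -1, -1, 1, -1, -1, -1, -1, 1, -1, -3, -1, 1, -1, -5, -1, 1, -1], [1, -1, 1, 1, 3, 1, -1, 1, 1, -1, 1, -3, 1, -3, 3, 1, -1, 1, -1, 1, 1, -3, -1, 1], [-1, 1, 3, -1, 1, -1, 1, -1, -1, 1, -1, -1, -1, -1, -3, -1, 1, -1, -3, 3, -1, -1, 1, 3], [-1, 1, 3, -1, 1, -1, 1, -1, 3, 1, 3, -1, 3, 3, 1, -1, 1, -1, 1, -1, -1, -1, 1, -1], [-3, -1, -3, 1, -1, -3, -1, -3, 1, -1, 1, -3, 1, 1, -1, 1, -1, 1, -1, 1, 1, 1, -1, 1], [-1, 1, -1, -1, -3, -1, -3, 3, -1, 1, 3, -1, -1, -1, 1, -1, 1, -1, 1, -1, -1, -1, 1, 3], [3, 1, -1, -1,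 1, -1, 1, -1, 3, 1, -1, -1, -1, -1, 1, -1, 1, 3, 1, -1, -1, 3, 1, 3], [1, -1, 1, -3, -1, 1, 3, 1, -3, -1, 1, -3, 1, 1, -1, 1, -1, 1, 3, 1, 1, 1, -1, 1], [-1, 1, 3, -1, 1, -1, -3, -1, -1, 1, -1, -1, -1, -1, 1, 3, 1, -1, 1, -1, -1, 3, -3, -1], [-1, -3, -1, -1, 1, -1, 1, -1, -1, 1, -1, -1, -1, -1, 1, -1, 5, -1, 1, -1, 3, -1, 1, -1], [1, -1, 1, 1, -1, 1, -1, -3, 1, -1, 1, 1, 1, -3, -1, 1, -1, -3, 3, 1, 1, 1, 3, 1], [-3, -1, 1, 1, 3, 1, -1, 1, 1, -1, 1, 1, -3, 1, -1, -3, -1, 1, 3, 1, 1, 1, -1, 1], [-1, 1, -1, -1, 1, -1, 1, 3, 3, -3, -1, -1, -1, -1, -3, 3, 1, -1, 1, -1, -1, -1, 1, -1], [1, -1, -3, -3, 3, 1, -1, 1, 1, 3, 1, 1, 1, 1, -1, 1, -1, -3, -1, 1, 1, 1, -1, 1]]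

def matA6 : List (List ℤ) := [[-1, 1, 1, -1, 3, -3, 1, -1, 1, -1, -1, -1, -1, 3, -3, -1, -1, 1, -1, 1, -3, 1, 1, 1], [-1, 1, 1, -1, -1, 1, 1, -1, 1, 3, 3, 3, -1, -1, 1, -1, -1, 1, 3, 1, -3, 1, 1, 1], [-1, 1, -3, -1, -1, 1, -3, -1, 1, -1, -1, -1, -1, -1, -3, -1, 3, 1, 3, 1, 1, 1, 1, 1], [-1, 1, 1, -1, -1, 1, -3, -1, 1, -1, 3, -1, -1, 3, 1, -1, -1, 1, -1, 1, 1, -3, -3, 1], [-1, 1, 1, -1, 3, 1, 1, 3, 1, -1, 3, -1, -1, -1, 1, -1, 3, 1, -1, -3, 1, 1, 1, 1], [3, -3, 1, -1, -1, 1, 1, -1, 1, -1, 3, -1, -1, -1, -3, -1, -1, -3, -1, 1, 1, 1, 1, 1], [-3, -1, -1, 1, 1, 3, -1, 1, -1, 1, 1, 1, 1, 1, -1, 1, 1, -1, -3, 3, -1, -1, 3, -1], [-1, 1, 1, 3, -1, 1, 1, -1, 1, 3, -1, -1, -1, -1, -3, -1, -1, 1, -1, -3, 1, -3,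 1, 1], [-1, -3, -3, -1, 3, 1, 1, -1, 1, 3, -1, -1, -1, -1, 1, -1, -1, 1, -1, 1, 1, 1, -3, 1], [1, -1, -1, 1, -3, -1, -1, 1, -1, 1, 1, 1, 1, 1, -1, 1, 1, 3, -3, -1, -1, 3, -1, 3], [1, -1, -1, 1, 1, -1, -1, -3, -1, 1, 1, -3, 1, 1, 3, 1, 1, -1, 1, -1, -1, -1, 3, 3], [1, -1, 3, 1, 1, -1, -1, 1, -1, 1, 1, -3, 1, -3, -1, 1, 1, 3, 1, 3, -1, -1, -1, -1], [1, -1, 3, -3, 1, 3, -1, 1, -1, 1, -3, 1, 1, 1, -1, 1, 1, -1, 1, -1, -1, -1, -1, 3], [-3, -1, 3, 1, 1, -1, -1, -3, -1, 1, 1, 1, 1, 1, -1, 1, 1, -1, 1, -1, 3, 3, -1, -1], [1, 3, -1, -3, 1, -1, -1, -3, -1, 1, 1, 1, 1, -3, -1, 1, 1, -1, -3, -1, -1, -1, -1, -1], [1, -1, -1, 1, 1, -1, -1, 1, 3, 1, 1, 1, 5, 1, -1, -3, 1, -1, 1, -1, -1, -1, -1, -1], [1, 3, -1, 1, 1,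 3, -1, 1, -1, 1, 1, -3, 1, 1, -1, 1, -3, -1, 1, -1, -1, 3, -1, -1], [-1, 1, 1, -1, -1, 1, 1, -1, -3, -1, -1, -1, 3, -1, 1, -5, -1, 1, -1, 1, 1, 1, 1, 1], [1, -1, -1, -3, 1, -1, -1, 1, -1, 1, 1, 1, 1, 1, -1, 1, -3, 3, 1, -1, 3, -1, 3, -1], [-1, 1, 1, -1, -1, 1, 1, -1, 5, -1, -1, -1, 3, -1, 1, 3, -1, 1, -1, 1, 1, 1, 1, 1], [3, 1, 1, 3, 3, 1, -3, -1, 1, -1, -1, 3, -1, -1, 1, -1, -1, 1, -1, 1, 1, 1, 1, 1], [-1, 1, 1, -1, -1, -3, -3, 3, 1, 3, -1, -1, -1, -1, 1, -1, -1, -3, -1, 1, 1, 1, 1, 1], [-3, -1, -1, 1, 1, -1, -1, 1, -1, -3, 1, 1, 1, -3, -1, 1, -3, -1, 1, -1, -1, -1, -1, 3], [1, 3, -1, 1, 1, -1, 3, 1, -1, 1, 1, 1, 1, 1, -1, 1, 1, -1, 1, 3, 3, -1, -1, 3]]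

def matT6 : List (List ℤ) := [[-1, -1, -1, -1, -1, 3, -3, -1, -1, 1, 1, 1, 1, -3, 1, 1, 1, -1, 1, -1, 3, -1, -3, 1], [1, 1, 1, 1, 1, -3, -1, 1, -3, -1, -1, -1, -1, -1, 3, -1, 3, 1, -1, 1, 1, 1, -1, 3], [1, 1, -3, 1, 1, 1, -1, 1, -3, -1, -1, 3, 3, 3, -1, -1, -1, 1, -1, 1, 1, 1, -1, -1], [-1, -1, -1, -1, -1, -1, 1, 3, -1, 1, 1, 1, -3, 1, -3, 1, 1, -1, -3, -1, 3, -1, 1, 1], [3, -1, -1, -1, 3, -1, 1, -1, 3, -3, 1, 1, 1, 1, 1, 1, 1, -1, 1, -1, 3, -1, 1, 1], [-3, 1, 1, 1, 1, 1, 3, 1, 1, -1, -1, -1, 3, -1, -1, -1, 3, 1, -1, 1, 1, -3, -1, -1], [1, 1, -3, -3, 1, 1, -1, 1, 1, -1, -1, -1, -1, -1, -1, -1, -1, 1, -1, 1, -3, -3, -1, 3], [-1, -1, -1, -1, 3, -1, 1, -1, -1, 1, -3, 1, 1, -3, -3, 1, 1, -1, 1, -1, -1, 3,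 1, 1], [1, 1, 1, 1, 1, 1, -1, 1, 1, -1, -1, -1, -1, -1, -1, 3, -1, -3, -1, 5, 1, 1, -1, -1], [-1, 3, -1, -1, -1, -1, 1, 3, 3, 1, 1, 1, 1, 1, 1, 1, 1, -1, 1, -1, -1, 3, -3, 1], [-1, 3, -1, 3, 3, 3, 1, -1, -1, 1, 1, 1, -3, 1, 1, 1, 1, -1, 1, -1, -1, -1, 1, 1], [-1, 3, -1, -1, -1, -1, 1, -1, -1, 1, -3, -3, 1, 1, 1, 1, -3, -1, 1, -1, 3, -1, 1, 1], [-1, -1, -1, -1, -1, -1, 1, -1, -1, 1, 1, 1, 1, 1, 1, 5, 1, 3, 1, 3, -1, -1, 1, 1], [3, -1, -1, 3, -1, -1, 1, -1, -1, 1, 1, -3, 1, 1, -3, 1, 1, -1, 1, -1, -1, -1, -3, 1], [-3, 1, -3, 1, 1, -3, -1, -3, 1, -1, 3, -1, -1, -1, -1, -1, -1, 1, -1, 1, 1, 1, -1, -1], [-1, -1, -1, -1, -1, -1, 1, -1, -1, 1, 1, 1, 1, 1, 1, -3, 1, -5, 1, 3, -1, -1, 1, 1], [-1, -1, 3, -1, 3,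 -1, 1, -1, -1, 1, 1, 1, 1, 1, 1, 1, -3, -1, -3, -1, -1, -1, -3, 1], [1, 1, 1, 1, 1, -3, -1, 1, 1, 3, -1, 3, -1, -1, -1, -1, -1, 1, 3, 1, 1, -3, -1, -1], [-1, 3, 3, -1, -1, -1, -3, -1, -1, -3, 1, 1, 1, 1, -3, 1, 1, -1, 1, -1, -1, -1, 1, 1], [1, 1, 1, 1, -3, 1, 3, -3, 1, -1, -1, 3, -1, -1, -1, -1, -1, 1, -1, 1, 1, 1, -1, 3], [-3, -3, 1, 1, 1, 1, -1, 1, 1, -1, -1, -1, -1, 3, -1, -1, -1, 1, 3, 1, 1, 1, -1, 3], [1, 1, 1, -3, 1, 1, -1, -3, 1, 3, -1, -1, -1, 3, -1, -1, 3, 1, -1, 1, 1, 1, -1, -1], [1, 1, 1, -3, 1, 1, 3, 1, -3, -1, 3, -1, -1, -1, -1, -1, -1, 1, 3, 1, 1, 1, -1, -1], [1, 1, 1, 1, 1, 1, -1, 1, 1, 3, 3, -1, 3, -1, -1, -1, -1, 1, -1, 1, 1, 1, 3, 3]]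

def mats : List Mat := [(matA0, matT0), (matA1, matT1), (matA2, matT2), (matA3, matT3), (matA4, matT4), (matA5, matT5), (matA6, matT6)]

def rels : Rels := [
  ([0, 0, 0, 0, 0], []),
  ([1, 0], [0, 1]),
  ([1, 1, 1, 1, 1], []),
  ([2, 0], [0, 1, 2]),
  ([2, 1], [1, 2]),
  ([2, 2, 2, 2, 2], []),
  ([3, 0], [0, 0, 2, 3]),
  ([3, 1], [1, 3]),
  ([3, 2], [0, 0, 0, 0, 3]),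
  ([3, 3, 3, 3, 3], []),
  ([4, 0, 0], [1, 2, 4]),
  ([4, 1], [1, 1, 4]),
  ([4, 1, 2], [0, 1, 4]),
  ([5, 3], [3, 3, 5]),
  ([6, 0], [0, 0, 0, 1, 1, 1, 2, 2, 6]),
  ([6, 1, 1], [1, 6]),
  ([6, 2], [1, 2, 6]),
  ([6, 2, 3, 3], [1, 3, 6])]

def paths0 : List (List ℕ × List ℕ) := [
  ([3, 2, 2, 2, 2, 2], [4096, 4100, 0, 4099, 0, 4098, 0, 4097, 0, 2817]),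
  ([4, 0, 0, 0, 0, 0, 0, 0, 0, 0, 0], [5120, 5122, 5124, 5126, 5128, 2049, 2051, 2050, 2053, 2052, 2051, 2055, 2054, 2053, 2052, 1024, 2560, 257, 257]),
  ([4, 1, 1, 1, 1, 1], [5632, 5634, 5636, 5638, 5640, 1024, 1024, 1281]),
  ([4, 1, 2, 1], [6144, 5634, 768, 769, 6402, 5888, 2306]),
  ([5, 3, 3, 3, 3, 3], [6656, 6658, 6660, 6662, 6664, 4608, 4608, 4865]),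
  ([6, 2, 0], [8192, 7170, 1537, 512, 1539, 514, 513, 1541, 516, 515, 514, 2055, 1027, 2051, 2052, 2308, 2309, 2307, 2308, 1283, 2311, 2312, 2310, 2311, 8459, 7946, 7945, 7944, 7424, 1026, 1793]),
  ([6, 2, 1, 1], [8192, 7682, 2049, 8449, 7936, 2306, 2305]),
  ([6, 2, 3, 3, 0], [8704, 7170, 3073, 3076, 3079, 3594, 3595, 3596, 4109, 4113, 16, 524, 525, 526, 523, 524, 525, 522, 523, 524, 1545, 1547, 1549, 2063, 2064, 2065, 524, 1037, 522, 523, 7, 2054, 1539, 1541, 2055, 516, 512, 513, 514, 515, 771, 772, 773, 1798, 1288, 2316, 2315, 2314, 2313, 1799, 265, 781, 780, 779, 782, 781, 780, 783, 782, 781, 784, 783, 1298, 785, 2326, 2325, 2324, 1810, 1808, 1806, 785, 784, 786, 2837, 1811, 1809, 1807, 1299, 2327,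 2326, 2328, 2327, 1306, 2334, 2333, 2335, 8992, 8478, 8476, 7963, 7962, 7961, 7960, 7440, 7432, 7424, 1028, 771, 770, 772, 1797, 1795, 1793, 1285, 2313, 2312, 2311, 2310, 1796, 262, 778, 777, 776, 779, 778, 780, 1805, 1803, 1801, 1799, 4360, 3333, 3330, 3331]),
  ([6, 2, 3, 3, 1, 1], [8704, 7682, 3585, 8961, 7936, 2306, 3843, 3844, 2305, 3842, 3843]),
  ([6, 2, 3, 3, 2], [8704, 8194, 3585, 4098, 513, 512, 514, 513, 515, 514, 516, 515, 771, 772, 1286, 773, 2827, 2314, 2313, 2312, 1798, 2314, 2313, 1799, 265, 781, 780, 779, 782, 781, 780, 1296, 783, 782, 781, 784, 783, 785, 2324, 1810, 1808, 1806, 785, 784, 1299, 786, 2327, 2326, 2325, 1811, 1809, 1807, 2839, 1304, 2332, 2331, 2330, 2329, 2333, 2332, 2331,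 2334, 2333, 2335, 8992, 8478, 8476, 8474, 8472, 7440, 7432, 7424, 2564, 1284, 771, 770, 772, 2825, 2312, 2311, 1797, 1795, 1793, 2310, 1796, 262, 778, 777, 776, 1292, 779, 778, 780, 2320, 2319, 1805, 1803, 1801, 1799, 779, 1804, 1802, 3339, 3336, 3333, 3330, 4355])]

def paths : List (List ℕ × List ℕ) := paths0

def rows : List (List ℕ) := [
  [4, 0, 0, 0, 0, 4, 0, 0, 0, 0, 0, 0, 0, 0, 0, 0, 0, 0],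
  [3, 0, 1, 0, 0, 1, 0, 0, 0, 0, 0, 0, 0, 0, 0, 0, 0, 0],
  [0, 0, 1, 0, 0, 0, 0, 0, 0, 0, 0, 0, 0, 0, 0, 0, 0, 0],
  [0, 3, 0, 0, 4, 0, 0, 0, 0, 0, 0, 0, 0, 0, 0, 0, 0, 0],
  [0, 0, 0, 0, 0, 0, 0, 0, 0, 1, 0, 0, 0, 0, 0, 0, 0, 0],
  [0, 1, 1, 2, 0, 0, 0, 0, 0, 0, 0, 0, 0, 0, 0, 2, 0, 0],
  [0, 0, 0, 0, 4, 0, 0, 0, 0, 0, 0, 0, 0, 0, 0, 0, 0, 0],
  [0, 0, 2, 4, 2, 4, 0, 3, 1, 0, 0, 0, 0, 0, 3, 1, 3, 0],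
  [0, 0, 0, 0, 3, 0, 0, 2, 0, 0, 0, 0, 0, 0, 0, 0, 0, 0],
  [3, 0, 4, 2, 1, 3, 1, 1, 0, 0, 0, 0, 0, 0, 2, 0, 2, 0]]

def mu : List (List ℕ) := [
  [0, 0, 0, 0, 0, 0, 0, 0, 0, 0, 0, 0, 0, 0, 0, 0, 0, 0],
  [0, 0, 0, 1, 0, 0, 0, 0, 0, 0, 0, 0, 0, 0, 0, 0, 0, 0],
  [0, 0, 0, 0, 0, 0, 1, 0, 0, 0, 0, 0, 0, 0, 0, 0, 0, 0],
  [0, 0, 0, 0, 0, 0, 0, 0, 0, 0, 0, 0, 0, 0, 0, 0, 0, 0]]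

def comb : List (List ℕ) := [
  [3, 3, 2, 0, 0, 0, 0, 0, 0, 0],
  [0, 0, 0, 2, 0, 0, 3, 0, 0, 0],
  [0, 0, 1, 0, 0, 0, 0, 0, 0, 0],
  [0, 0, 0, 0, 0, 0, 0, 0, 0, 0],
  [0, 0, 0, 0, 0, 0, 4, 0, 0, 0],
  [1, 2, 3, 0, 0, 0, 0, 0, 0, 0],
  [0, 0, 0, 0, 0, 0, 0, 0, 0, 0],
  [0, 0, 0, 0, 0, 0, 4, 0, 3, 0],
  [4, 2, 0, 1, 0, 2, 1, 1, 3, 1],
  [0, 0, 0, 0, 1, 0, 0, 0, 0, 0]]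

def levels : List Lev := [
  (686053158960052784330142814883562000, [686053158960052784330142814883562000]),
  (769129985603632605735440636562653714, [769129985603632605735440636562653714]),
  (769129985603632605735440636562653714, [769048858438680299844309959230046738, 766533760422082756299655803467940370, 769129985603632605735440636562653714, 769129908773978917658584850954271314, 769129908851276973433434370893955666]),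
  (852206658587909773353650494292640276, [852206658587909773353650494292640276])]

def cert : CfsgLib.SchurPath.Cert where
  m := 4
  rels := rels
  paths := expandAll rels paths
  rows := rows
  mu := mu
  comb := comb

end CfsgLib.SchurCoOne.P5
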