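import Cfsg.Agent.Lib.Schur.CoOne.Check

/-! Generated certificate for the splitting over a Sylow 7-subgroup of Co0. -/

set_option autoImplicit false
set_option linter.all false
set_option maxRecDepth 100000

namespace CfsgLib.SchurCoOne.P7

open CfsgLib.SchurPath (Rels)
open CfsgLib.SchurCoTwo (Mat Lev expandAll)

def matA0 : List (List ℤ) := [[1, 1, 1, 1, -1, -1, -5, 3, 1, 1, 1, -1, 1, -1, -1, -1, 1, 1, 3, -1, -1, -1, 1, 1], [-3, -3, 1, 1, 3, -1, -1, -1, 1, 1, 1, 3, 1, 3, -1, -1, 1, 1, -1, -1, -1, -1, 1, 1], [1, 1, 1, 1, -1, -1, 3, -5, 1, 1, 1, -1, 1, -1, -1, -1, 1, 1, 3, -1, -1, -1, 1, 1], [-1, 3, -1, 3, 1, 1, 1, 1, -1, -1, 3, 1, -1, 1, 1, 1, -1, -1, 1, 1, 1, -3, 3, -1], [1, 1, 1, 1, 3, 3, -1, -1, 1,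 -3, 1, -1, 1, -1, -1, -1, 1, 1, -1, -1, -1, 3, 1, -3], [1, 1, -3, 1, -1, -1, -1, -1, 1, 1, 1, -1, 1, 3, -1, 3, 1, -3, -1, -1, -1, 3, 1, 1], [1, 1, 1, 1, -1, -1, -1, -1, -3, -3, -3, -1, 1, 3, -1, -1, -3, 1, -1, -1, -1, -1, 1, 1], [-1, -1, -1, 3, 1, 1, 1, 1, -1, 3, -1, -3, -1, 1, -3, -3, -1, -1, 1, 1, 1, 1, -1, -1], [-1, 3, -1, -1, 1, 1, 1, 1, 3, -1, -1, 1, -1, 1, -3, 1, -1, 3, 1, 1, 1, 1, -1, 3], [3, -1, -1, -1, 1, 1, 1, 1, -1, 3, -1, 1, -1, 1, 1, 1, -1, 3, 1, -3, 1, 1, 3, -1], [3, -1, -1, -1, 1, 1, 1, 1, -1, -1, 3, 1, 3, 1, 1, -3, -1, -1, 1, 1, 1, 1, -1, 3], [1, 1, 1, -3, 3, -1, -1, -1, 1, 1, 1, -1, -3, -1, -1, -1, -3, -3, -1, -1, -1, -1, 1, 1], [-1, -1, -1, -1, 1, -3, 1, 1, -1, -1, -1, 1, 3, -3, -3, 1,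 -1, -1, 1, 1, 1, 1, 3, -1], [1, 1, 1, -3, -1, -1, -1, -1, 1, 1, 1, -1, 1, 3, -1, -1, 1, 1, -1, 3, 3, -1, 1, -3], [-1, -1, -1, -1, 1, -3, 1, 1, -1, -1, 3, -3, -1, 1, 1, 1, -1, 3, 1, 1, -3, 1, -1, -1], [-1, -1, -1, -1, 1, 1, -3, -3, -1, -1, -1, 1, -1, 1, 1, 1, -1, -1, 5, 1, 1, 1, -1, -1], [-1, 3, 3, -1, 1, 1, 1, 1, -1, 3, -1, 1, 3, 1, 1, 1, -1, -1, 1, 1, -3, 1, -1, -1], [-1, -1, -1, -1, -3, 1, 1, 1, 3, -1, -1, 1, -1, 1, 1, -3, -1, -1, 1, 1, -3, 1, 3, -1], [-1, -1, 3, -1, 1, 1, 1, 1, -1, -1, -1, -3, -1, 1, 1, 1, 3, -1, 1, 1, 1, 1, 3, 3], [1, -3, 1, 1, -1, 3, -1, -1, 1, 1, 1, -1, 1, -1, -1, 3, -3, 1, -1, 3, -1, -1, 1, 1], [-3, 1, 1, 1, -1, -1, -1, -1, 1, 1, 1, -1, 1, -1, 3, -1, -3, 1, -1, -1, 3, 3, 1, 1], [1,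 1, -3, 1, 3, -1, -1, -1, 1, 1, -3, -1, 1, -1, 3, -1, 1, 1, -1, 3, -1, -1, 1, 1], [1, 1, 1, 1, -1, -1, -1, -1, -3, 1, 1, 3, -3, -1, -1, -1, 1, 1, -1, 3, -1, 3, 1, 1], [3, -1, 3, 3, 1, -3, 1, 1, 3, -1, -1, 1, -1, 1, 1, 1, -1, -1, 1, 1, 1, 1, -1, -1]]

def matT0 : List (List ℤ) := [[1, -3, 1, -1, 1, 1, 1, -1, -1, 3, 3, 1, -1, 1, -1, -1, -1, -1, -1, 1, -3, 1, 1, 3], [1, -3, 1, 3, 1, 1, 1, -1, 3, -1, -1, 1, -1, 1, -1, -1, 3, -1, -1, -3, 1, 1, 1, -1], [1, 1, 1, -1, 1, -3, 1, -1, -1, -1, -1, 1, -1, 1, -1, -1, 3, -1, 3, 1, 1, -3, 1, 3], [1, 1, 1, 3, 1, 1, 1, 3, -1, -1, -1, -3, -1, -3, -1, -1, -1, -1, -1, 1, 1, 1, 1, 3], [-1, 3, -1, 1, 3, -1, -1, 1, 1, 1, 1, 3, 1, -1, 1, 1, 1, -3, 1, -1, -1, 3, -1, 1], [-1, -1,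 -1, 1, 3, -1, -1, 1, 1, 1, 1, -1, -3, -1, -3, 1, 1, 1, 1, 3, -1, -1, -1, -3], [-5, -1, 3, 1, -1, -1, -1, 1, 1, 1, 1, -1, 1, -1, 1, -3, 1, 1, 1, -1, -1, -1, -1, 1], [3, -1, -5, 1, -1, -1, -1, 1, 1, 1, 1, -1, 1, -1, 1, -3, 1, 1, 1, -1, -1, -1, -1, 1], [1, 1, 1, -1, 1, 1, -3, -1, 3, -1, -1, 1, -1, 1, -1, -1, -1, 3, -1, 1, 1, 1, -3, 3], [1, 1, 1, -1, -3, 1, -3, 3, -1, 3, -1, 1, -1, 1, -1, -1, 3, -1, -1, 1, 1, 1, 1, -1], [1, 1, 1, 3, 1, 1, -3, -1, -1, -1, 3, 1, -1, 1, 3, -1, -1, -1, -1, 1, 1, -3, 1, -1], [-1, 3, -1, 1, -1, -1, -1, -3, 1, 1, 1, -1, 1, -1, -3, 1, 1, 1, -3, -1, -1, -1, 3, 1], [1, 1, 1, -1, 1, 1, 1, -1, -1, -1, 3, -3, 3, 1, -1, -1, 3, -1, -1, 1, 1, 1, -3, -1], [-1, 3, -1, 1, -1, 3, 3, 1, 1, 1, 1,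 -1, -3, 3, 1, 1, 1, 1, 1, -1, -1, -1, -1, 1], [-1, -1, -1, 1, -1, -1, -1, -3, -3, 1, 1, -1, -3, -1, 1, 1, 1, 1, 1, -1, 3, 3, -1, 1], [-1, -1, -1, 1, -1, 3, -1, -3, 1, 1, -3, -1, 1, -1, 1, 1, 1, -3, 1, 3, -1, -1, -1, 1], [1, 1, 1, -1, 1, 1, -3, -1, -1, -1, -1, -3, -1, 1, -1, -1, -1, -1, 3, -3, -3, 1, 1, -1], [1, 1, 1, -1, 1, -3, 1, -1, 3, 3, -1, -3, -1, 1, 3, -1, -1, -1, -1, 1, 1, 1, 1, -1], [3, -1, 3, 1, -1, -1, -1, 1, 1, 1, 1, -1, 1, -1, 1, 5, 1, 1, 1, -1, -1, -1, -1, 1], [-1, -1, -1, 1, -1, -1, -1, 1, 1, -3, 1, -1, 1, 3, 1, 1, 1, 1, 1, 3, -1, 3, 3, 1], [-1, -1, -1, 1, -1, -1, -1, 1, 1, 1, 1, -1, 1, 3, -3, 1, -3, -3, 1, -1, 3, -1, -1, 1], [-1, -1, -1, -3, 3, 3, -1, 1, 1, 1, 1, -1, 1, -1, 1, 1, 1, 1, 1,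 -1, 3, -1, 3, 1], [1, 1, 1, 3, 1, 1, 1, -1, -1, 3, -1, 1, 3, 1, -1, -1, -1, 3, 3, 1, 1, 1, 1, -1], [1, 1, 1, -1, -3, 1, 1, -1, 3, -1, 3, 1, -1, -3, -1, -1, -1, -1, 3, 1, 1, 1, 1, -1]]

def matA1 : List (List ℤ) := [[-2, 0, 0, -2, -2, 2, 0, 0, 0, -2, 2, 0, 0, 2, 0, -2, 0, -2, -2, -2, 0, 0, -2, 4], [-2, -4, 0, 2, 2, -2, 0, 0, 0, 2, -2, 0, 0, 2, 0, -2, 0, -2, -2, -2, 0, 0, 2, 0], [0, 2, 2, 0, 0, 0, 2, -2, 2, 0, 0, 2, 2, 0, -2, 0, -2, 0, 0, -4, -2, 2, 0, -2], [0, 2, -2, 0, 0, 0, 2, 2, 2, 0, -4, -2, -2, 0, -2, 0, -2, 0, 0, 0, 2, 2, 0, 2], [2, 0, 0, 2, -2, 2, 0, 0, 0, 2, 2, 0, 0, -2, 0, -2, 0, 2, -2, -2, 4, 0, 2, 0], [-2, 0, 0, 2, -2, -2, 0, 4, 0, -2, 2, 0, 0, 2, 0, 2, 0, 2, 2, -2, 0, 0, 2, 0], [-2, 0, 0, -2,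 2, 2, -4, 0, 0, -2, -2, 0, 0, -2, 0, -2, 0, 2, 2, -2, 0, 0, 2, 0], [0, -2, 2, 0, 0, 0, -2, 2, 2, 0, 0, -2, 2, 0, 2, 0, -2, 0, 0, 0, 2, 2, -4, -2], [2, 0, 0, -2, -2, -2, 0, 0, -4, 2, -2, 0, 0, 2, 0, -2, 0, 2, 2, -2, 0, 0, -2, 0], [0, -2, -2, 0, 0, 0, 2, -2, -2, -4, 0, -2, 2, 0, -2, 0, -2, 0, 0, 0, 2, -2, 0, -2], [0, 2, -2, 0, 0, 0, -2, -2, 2, 0, 0, 2, -2, 4, 2, 0, -2, 0, 0, 0, 2, -2, 0, -2], [0, 2, 2, 0, 0, 0, -2, 2, -2, 0, 0, -2, -2, 0, -2, 0, -2, 0, -4, 0, -2, -2, 0, -2], [2, 0, 0, -2, 2, -2, 0, 0, 0, -2, 2, 0, 0, 2, 0, -2, 0, 2, -2, 2, 0, 4, 2, 0], [-4, 2, 2, 0, 0, 0, 2, -2, -2, 0, 0, -2, -2, 0, 2, 0, 2, 0, 0, 0, 2, 2, 0, -2], [0, -2, 2, 0, 0, 0, -2, -2, -2, 0, 0, 2, -2, 0, -2, 4, -2, 0, 0, 0, 2, 2, 0,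 2], [2, 0, 4, 2, -2, 2, 0, 0, 0, -2, -2, 0, 0, 2, 0, -2, 0, -2, 2, 2, 0, 0, 2, 0], [0, 2, 2, 0, 4, 0, 2, 2, -2, 0, 0, 2, 2, 0, 2, 0, -2, 0, 0, 0, 2, -2, 0, 2], [2, 0, 0, -2, -2, -2, 0, 0, 0, -2, -2, 0, 0, -2, 4, 2, 0, -2, -2, -2, 0, 0, 2, 0], [0, 2, 2, 0, 0, -4, -2, -2, 2, 0, 0, -2, 2, 0, -2, 0, 2, 0, 0, 0, 2, -2, 0, 2], [0, -2, 2, 0, 0, 0, 2, -2, 2, 0, 0, -2, -2, 0, 2, 0, -2, 4, 0, 0, -2, -2, 0, 2], [-2, 0, 0, -2, -2, 2, 0, 0, 0, 2, -2, 0, 4, 2, 0, 2, 0, 2, -2, 2, 0, 0, 2, 0], [-2, 0, 0, -2, -2, -2, 0, 0, 0, 2, 2, 0, 0, -2, 0, -2, -4, -2, 2, 2, 0, 0, 2, 0], [-2, 0, 0, 2, -2, -2, 0, 0, 0, -2, -2, 4, 0, -2, 0, -2, 0, 2, -2, 2, 0, 0, -2, 0], [0, -2, 2, -4, 0, 0, 2, 2, 2, 0, 0, 2, -2, 0, -2, 0, 2, 0, 0, 0,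 2, -2, 0, -2]]

def matT1 : List (List ℤ) := [[-2, -2, 0, 0, 2, -2, -2, 0, 2, 0, 0, 0, 2, -4, 0, 2, 0, 2, 0, 0, -2, -2, -2, 0], [0, -4, 2, 2, 0, 0, 0, -2, 0, -2, 2, 2, 0, 2, -2, 0, 2, 0, 2, -2, 0, 0, 0, -2], [0, 0, 2, -2, 0, 0, 0, 2, 0, -2, -2, 2, 0, 2, 2, 4, 2, 0, 2, 2, 0, 0, 0, 2], [-2, 2, 0, 0, 2, 2, -2, 0, -2, 0, 0, 0, -2, 0, 0, 2, 0, -2, 0, 0, -2, -2, 2, -4], [-2, 2, 0, 0, -2, -2, 2, 0, -2, 0, 0, 0, 2, 0, 0, -2, 4, -2, 0, 0, -2, -2, -2, 0], [2, -2, 0, 0, 2, -2, 2, 0, -2, 0, 0, 0, -2, 0, 0, 2, 0, -2, -4, 0, 2, -2, -2, 0], [0, 0, 2, 2, 0, 0, -4, -2, 0, 2, -2, -2, 0, 2, -2, 0, 2, 0, -2, 2, 0, 0, 0, 2], [0, 0, -2, 2, 0, 4, 0, 2, 0, -2, -2, 2, 0, -2, -2, 0, 2, 0, -2, -2, 0, 0, 0, 2], [0, 0, 2, 2, 0, 0,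 0, 2, -4, -2, 2, -2, 0, -2, -2, 0, -2, 0, 2, 2, 0, 0, 0, 2], [-2, 2, 0, 0, 2, -2, -2, 0, 2, -4, 0, 0, -2, 0, 0, -2, 0, -2, 0, 0, 2, 2, -2, 0], [2, -2, 0, -4, 2, 2, -2, 0, -2, 0, 0, 0, 2, 0, 0, -2, 0, -2, 0, 0, -2, 2, -2, 0], [0, 0, 2, -2, 0, 0, 0, -2, 0, -2, 2, -2, 0, -2, 2, 0, 2, 0, -2, -2, 0, 0, 4, 2], [0, 0, 2, -2, 0, 0, 0, 2, 0, 2, -2, -2, 0, -2, -2, 0, 2, 0, 2, -2, 4, 0, 0, -2], [2, 2, 0, 0, -2, 2, -2, 0, 2, 0, 4, 0, 2, 0, 0, 2, 0, -2, 0, 0, 2, -2, -2, 0], [0, 0, -2, -2, 0, 0, 0, 2, 0, -2, 2, -2, 0, 2, -2, 0, 2, 4, -2, 2, 0, 0, 0, -2], [-2, -2, 0, 0, -2, 2, -2, 0, -2, 0, 0, 0, -2, 0, 4, -2, 0, 2, 0, 0, 2, -2, -2, 0], [0, 0, -2, -2, 0, 0, 0, -2, 0, -2, -2, -2, 0, 2, -2, 0, -2, 0, 2, -2, 0, -4, 0, 2],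 [-2, -2, 0, 0, 2, 2, 2, 0, 2, 0, 0, 0, 2, 0, 0, -2, 0, -2, 0, 4, 2, -2, 2, 0], [-2, -2, 0, 0, -2, 2, 2, 0, 2, 0, 0, -4, -2, 0, 0, 2, 0, -2, 0, 0, -2, 2, -2, 0], [-2, -2, -4, 0, -2, -2, -2, 0, -2, 0, 0, 0, 2, 0, 0, 2, 0, -2, 0, 0, 2, 2, 2, 0], [0, 0, -2, 2, 4, 0, 0, 2, 0, 2, 2, -2, 0, 2, 2, 0, 2, 0, 2, -2, 0, 0, 0, 2], [0, 0, 2, 2, 0, 0, 0, 2, 0, -2, -2, -2, 4, 2, 2, 0, -2, 0, -2, -2, 0, 0, 0, -2], [-2, 2, 0, 0, 2, 2, 2, -4, -2, 0, 0, 0, 2, 0, 0, 2, 0, 2, 0, 0, 2, 2, -2, 0], [4, 0, -2, 2, 0, 0, 0, -2, 0, -2, -2, -2, 0, -2, 2, 0, 2, 0, 2, 2, 0, 0, 0, -2]]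

def matA2 : List (List ℤ) := [[-1, -1, 3, 1, -3, -1, -1, -1, 1, 1, 1, 1, 1, -1, -1, 1, 1, -1, 3, -1, 3, 1, -3, 1], [1, 1, 1, -1, -1, -3, -3, 1, -1, -1, -1, -1, -1, -3, 1, -1, 3, 1, 1, 1, 1, -1, 3, -1], [1, -3, 1, -1, -1, 1, 1, 1, -1, -1, 3, -5, -1, 1, 1, -1, -1, 1, 1, 1, 1, -1, -1, -1], [1, 1, 1, -1, 3, 1, 1, 1, -1, -1, -1, -1, 3, -3, 1, 3, -1, 1, 1, 1, 1, -1, -1, 3], [1, 1, 1, -1, -1, 1, 1, 1, -1, -1, -1, -1, -1, 1, 1, 3, 3, -3, 1, -3, -3, -1, -1, -1], [1, 1, 1, -1, -1, 1, 1, -3, -1, -1, -1, -1, 3, 1, -3, -1, 3, 1, -3, 1, 1, -1, -1, -1], [-1, -1, -1, 1, -3, 3, -1, 3, 1, 1, 1, 1, 1, -1, -1, 1, 1, -1, -1, 3, -1, -3, 1, 1], [-1, -1, 3, 1, 1, 3, -1, -1, 1, -3, 1, 1, -3, -1, -1, 1, 1, 3, -1, -1, -1, 1, 1,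 1], [-1, -1, 3, 1, 1, -1, 3, 3, -3, 1, 1, 1, 1, -1, -1, -3, 1, -1, -1, -1, -1, 1, 1, 1], [1, 1, 1, -1, -1, -3, 1, 1, 3, -1, -1, -1, -1, 1, -3, -1, -1, 1, 1, 1, -3, -1, -1, 3], [-1, -1, -1, 1, 1, -1, 3, -1, 1, -3, 1, 1, 1, -1, -1, 1, 1, -1, 3, 3, -1, 1, 1, -3], [1, 1, 1, 3, -1, 1, 1, -3, -1, 3, -1, -1, -1, -3, 1, -1, -1, 1, 1, 1, -3, -1, -1, -1], [-1, -5, -1, 1, 1, -1, -1, -1, 1, 1, -3, -3, 1, -1, -1, 1, 1, -1, -1, -1, -1, 1, 1, 1], [3, -1, -1, 1, 1, -1, 3, -1, 1, 1, 1, 1, -3, -1, -1, 1, 1, -1, -1, -1, 3, -3, 1, 1], [1, 1, 1, -1, -1, 1, 1, 1, 3, -1, -1, -1, -1, -3, 1, -1, -1, -3, -3, 1, 1, 3, -1, -1], [-3, 1, -3, -1, -1, 1, 1, 1, -1, -1, -1, -1, -1, -3, -3, -1, -1, 1, 1, -3, 1, -1, -1, -1], [-1, -1, -1,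 -3, -3, -1, 3, -1, 1, 1, 1, 1, 1, -1, 3, 1, 1, 3, -1, -1, -1, 1, 1, 1], [1, 1, 1, 3, -1, 1, 1, 1, 3, -1, -1, -1, 3, 1, 1, -1, -1, 1, 1, -3, 1, -1, 3, -1], [-3, 1, 1, 3, -1, -3, 1, 1, -1, -1, -1, -1, -1, 1, 1, 3, -1, 1, -3, 1, 1, -1, -1, -1], [-1, -1, -1, 1, 1, -1, -1, -1, 1, -3, 1, 1, 1, -1, 3, -3, 1, -1, -1, -1, -1, -3, -3, 1], [-1, 3, -1, 1, 1, -1, -1, -1, 1, 1, 5, -3, 1, -1, -1, 1, 1, -1, -1, -1, -1, 1, 1, 1], [-1, -1, 3, -3, 1, -1, -1, -1, 1, 1, 1, 1, 1, -1, -1, 1, -3, -1, -1, -1, -1, -3, 1, -3], [-3, 1, 1, -1, -1, 1, 1, -3, -1, -1, -1, -1, -1, 1, 1, -1, -1, -3, 1, 1, 1, -1, 3, 3], [3, -1, -1, 1, -3, -1, -1, -1, -3, -3, 1, 1, 1, -1, -1, 1, -3, -1, -1, -1, -1, 1, 1, 1]]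

def matT2 : List (List ℤ) := [[-1, 1, 1, 1, 1, 1, -1, -1, -1, 1, -1, 1, -1, 3, 1, -3, -1, 1, -3, -1, -1, -1, -3, 3], [-1, 1, -3, 1, 1, 1, -1, -1, -1, 1, -1, 1, -5, -1, 1, 1, -1, 1, 1, -1, 3, -1, 1, -1], [3, 1, 1, 1, 1, 1, -1, 3, 3, 1, -1, 1, -1, -1, 1, -3, -1, 1, 1, -1, -1, 3, 1, -1], [1, -1, -1, -1, -1, -1, 1, 1, 1, -1, 1, 3, 1, 1, -1, -1, -3, 3, 3, 1, 1, -3, -1, 1], [-3, -1, -1, 3, -1, -1, -3, 1, 1, -1, 1, -1, 1, 1, -1, -1, -3, -1, -1, 1, 1, 1, -1, -3], [-1, -3, 1, 1, 1, 1, 3, 3, -1, -3, -1, 1, -1, -1, 1, 1, -1, 1, -3, -1, -1, -1, 1, -1], [-1, -3, 1, 1, 1, 1, -1, -1, 3, 1, 3, 1, -1, 3, 1, 1, 3, 1, 1, -1, -1, -1, 1, -1], [-1, 1, 1, 1, 1, -3, 3, -1, 3, 1, -1, -3, -1, -1, 1, 1, -1, 1, 1, -1, -1, -1, -3,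 -1], [1, -1, -1, -1, -1, -1, 1, 1, -3, 3, 1, -1, 1, 1, 3, -1, 1, 3, -1, 1, 1, 1, -1, -3], [1, -1, -1, -1, -1, -1, 1, -3, 1, -1, -3, 3, 1, 1, -1, -1, 1, -1, -1, -3, 1, 1, -1, -3], [1, -1, 3, -1, -1, -1, 1, 1, 1, -1, 1, -1, -3, 1, -1, -1, 1, -1, -1, 1, 5, 1, -1, 1], [1, -1, -5, -1, -1, -1, 1, 1, 1, -1, 1, -1, -3, 1, -1, -1, 1, -1, -1, 1, -3, 1, -1, 1], [1, -1, -1, 3, -1, 3, 1, -3, 1, -1, 1, -1, 1, -3, -1, -1, 1, 3, -1, 1, 1, 1, -1, 1], [-1, -3, 1, -3, 1, 1, -1, -1, -1, 1, -1, -3, -1, -1, -3, -3, -1, 1, 1, -1, -1, -1, 1, -1], [-1, 1, 1, 1, 1, -3, -1, -1, -1, -3, -1, 1, -1, -1, 1, -3, 3, 1, 1, 3, -1, -1, 1, -1], [1, -1, -1, 3, 3, -1, 1, 1, -3, -1, 1, -1, 1, 1, -1, -1, 1, -1, 3, -3, 1, 1, -1, 1], [1, 3, -1,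 -1, 3, 3, 1, 1, 1, -1, 1, -1, 1, 1, -1, -1, 1, -1, -1, 1, 1, -3, -1, -3], [-1, 1, 1, 1, -3, 1, -1, 3, -1, 1, -1, 1, -1, -1, -3, 1, 3, 1, 1, -1, -1, -1, -3, -1], [3, 1, 1, 1, 1, -3, -1, -1, -1, 1, 3, 1, -1, -1, -3, 1, -1, 1, -3, -1, -1, -1, 1, -1], [-1, 1, 1, 1, -3, 1, 3, -1, -1, 1, 3, 1, -1, -1, 1, -3, -1, -3, 1, -1, -1, -1, 1, -1], [3, 1, 1, 1, -3, 1, -1, -1, -1, -3, -1, -3, -1, 3, 1, 1, -1, 1, 1, -1, -1, -1, 1, -1], [1, -1, -1, -1, -1, -1, -3, 1, 1, -1, 1, -1, 1, -3, 3, -1, 1, -1, -1, -3, 1, -3, -1, 1], [-3, 3, -1, -1, -1, -1, 1, 1, 1, -1, 1, -1, 1, 1, -1, -1, 1, 3, -1, -3, 1, 1, 3, 1], [1, -1, -1, 3, -1, -1, 1, 1, 1, 3, -3, -1, 1, 1, -1, -1, 1, -1, -1, 1, 1, -3, 3, 1]]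

def matA3 : List (List ℤ) := [[0, -2, 0, 2, 0, -2, 0, -4, 0, -2, -2, 2, 2, 0, 0, -2, 0, 0, 0, -2, -2, 2, 0, 2], [0, -2, 0, 2, 0, 2, 0, 0, 0, -2, -2, 2, -2, -4, 0, 2, 0, 0, 0, 2, -2, -2, 0, -2], [0, 2, 0, 2, 4, 2, 0, 0, 0, -2, 2, -2, 2, 0, 0, -2, 0, 0, 0, 2, -2, -2, 0, 2], [-4, -2, 0, -2, 0, 2, 0, 0, 0, -2, 2, 2, 2, 0, 0, -2, 0, 0, 0, -2, 2, -2, 0, -2], [-2, 0, 2, 0, -2, 0, -2, -2, -2, 0, 0, -4, 0, -2, 2, 0, -2, -2, 2, 0, 0, 0, -2, 0], [0, -2, 0, -2, 0, -2, 0, 0, 0, -2, 2, -2, -2, 0, 0, 2, 0, 4, 0, -2, -2, -2, 0, 2], [-2, 0, 2, 0, 2, 0, -2, 2, -2, 0, 0, 0, 0, -2, -2, 0, -2, 2, -2, 0, 0, 4, 2, 0], [0, 2, 0, -2, 0, 2, 4, 0, 0, -2, -2, -2, -2, 0, 0, -2, 0, 0, 0, -2, -2, 2, 0, -2], [0, -2, 0, -2, 0, 2, 0, 0,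 4, -2, -2, -2, 2, 0, 0, 2, 0, 0, 0, 2, 2, 2, 0, 2], [0, 2, 4, -2, 0, 2, 0, 0, 0, 2, -2, 2, 2, 0, 0, 2, 0, 0, 0, -2, -2, -2, 0, 2], [0, 2, 0, 2, 0, -2, 0, 0, 0, -2, -2, -2, 2, 0, 0, 2, 0, 0, -4, -2, 2, -2, 0, -2], [0, 2, 0, -2, 0, -2, 0, 0, 0, -2, 2, 2, 2, 0, 4, 2, 0, 0, 0, 2, -2, 2, 0, -2], [2, -4, 2, 0, 2, 0, 2, 2, -2, 0, 0, 0, 0, 2, 2, 0, -2, -2, -2, 0, 0, 0, -2, 0], [2, 0, 2, 0, 2, 0, -2, -2, 2, 0, 0, 0, 0, 2, -2, 0, -2, 2, 2, 0, 0, 0, -2, -4], [2, 0, 2, 0, -2, 0, -2, 2, 2, 0, 0, 0, 0, -2, 2, -4, 2, 2, -2, 0, 0, 0, -2, 0], [-2, 0, 2, 4, -2, 0, 2, 2, 2, 0, 0, 0, 0, 2, 2, 0, -2, 2, 2, 0, 0, 0, 2, 0], [2, 0, 2, 0, 2, 0, 2, -2, -2, 0, 0, 0, 0, -2, 2, 0, 2, 2, 2, 0, 4, 0, 2, 0], [-2, 0, 2, 0, 2, 0, -2, -2,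 2, 0, 0, 0, -4, 2, 2, 0, 2, -2, -2, 0, 0, 0, 2, 0], [2, 0, 2, 0, -2, 0, 2, -2, 2, 0, 4, 0, 0, -2, -2, 0, -2, -2, -2, 0, 0, 0, 2, 0], [0, 2, 0, -2, 0, -2, 0, 0, 0, -2, -2, 2, -2, 0, 0, -2, -4, 0, 0, 2, 2, -2, 0, 2], [-2, 0, -2, 0, 2, 0, 2, -2, 2, 4, 0, 0, 0, -2, 2, 0, -2, 2, -2, 0, 0, 0, -2, 0], [-2, 0, 2, 0, -2, 0, 2, -2, -2, 0, 0, 0, 0, 2, -2, 0, 2, 2, -2, 4, 0, 0, -2, 0], [-2, 0, 2, 0, 2, -4, 2, 2, 2, 0, 0, 0, 0, -2, -2, 0, 2, -2, 2, 0, 0, 0, -2, 0], [0, 2, 0, 2, 0, 2, 0, 0, 0, -2, 2, 2, -2, 0, 0, 2, 0, 0, 0, -2, 2, 2, -4, 2]]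

def matT3 : List (List ℤ) := [[0, 0, 0, -4, -2, 0, -2, 0, 0, 0, 0, 0, 2, 2, 2, -2, 2, -2, 2, 0, -2, -2, -2, 0], [-2, -2, 2, -2, 0, -2, 0, 2, -2, 2, 2, 2, -4, 0, 0, 0, 0, 0, 0, 2, 0, 0, 0, 2], [0, 0, 0, 0, 2, 0, 2, 0, 0, 4, 0, 0, 2, 2, 2, 2, 2, 2, 2, 0, -2, 2, 2, 0], [2, 2, 2, -2, 0, -2, 0, -2, -2, -2, 2, -2, 0, 0, 0, 4, 0, 0, 0, -2, 0, 0, 0, 2], [0, 0, 4, 0, -2, 0, 2, 0, 0, 0, 0, 0, 2, 2, -2, -2, 2, 2, -2, 0, 2, -2, 2, 0], [-2, 2, 2, 2, 0, -2, 0, 2, 2, 2, -2, -2, 0, 0, 0, 0, 0, 0, 0, -2, 0, 0, -4, 2], [0, 0, 0, 0, -2, 0, -2, 4, 0, 0, 0, 0, 2, -2, -2, 2, 2, -2, 2, 0, 2, 2, 2, 0], [-4, 0, 0, 0, -2, 0, 2, 0, 0, 0, 0, 0, 2, -2, 2, 2, -2, -2, -2, 0, -2, -2, 2, 0], [0, 0, 0, 0, -2, 0, -2, 0, 4, 0, 0, 0, -2,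 2, 2, 2, -2, 2, 2, 0, 2, -2, 2, 0], [-2, -2, -2, -2, 0, -2, 0, -2, -2, 2, -2, -2, 0, 0, 0, 0, 0, 0, 0, -2, 4, 0, 0, -2], [-2, -2, 2, 2, 0, 2, 0, -2, -2, -2, -2, 2, 0, 0, 0, 0, 0, 0, 4, -2, 0, 0, 0, 2], [2, 2, -2, 2, -4, -2, 0, -2, -2, 2, -2, 2, 0, 0, 0, 0, 0, 0, 0, 2, 0, 0, 0, 2], [2, -2, 2, 2, 0, -2, 0, -2, 2, 2, 2, 2, 0, 0, 0, 0, 0, -4, 0, -2, 0, 0, 0, -2], [0, -4, 0, 0, -2, 0, -2, 0, 0, 0, 0, 0, 2, 2, -2, 2, -2, 2, -2, 0, -2, 2, -2, 0], [0, 0, 0, 0, 2, 0, -2, 0, 0, 0, 0, 4, 2, -2, 2, 2, 2, 2, -2, 0, 2, -2, -2, 0], [-2, 2, -2, -2, 0, 2, 0, -2, 2, 2, 2, 2, 0, 0, -4, 0, 0, 0, 0, -2, 0, 0, 0, 2], [0, 0, 0, 0, -2, 0, -2, 0, 0, 0, 0, 0, -2, -2, 2, -2, 2, 2, -2, -4, -2, 2, 2, 0], [0, 0, 0, 0, -2, 4, 2, 0, 0,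 0, 0, 0, -2, 2, 2, 2, 2, -2, -2, 0, 2, 2, -2, 0], [0, 0, 0, 0, 2, 0, -2, 0, 0, 0, -4, 0, -2, 2, -2, 2, 2, -2, -2, 0, -2, -2, 2, 0], [-2, 2, 2, -2, 0, -2, 0, -2, 2, -2, -2, 2, 0, 0, 0, 0, 0, 0, 0, 2, 0, 4, 0, -2], [-2, -2, -2, 2, 0, -2, 0, -2, 2, -2, 2, -2, 0, 0, 0, 0, 4, 0, 0, 2, 0, 0, 0, 2], [2, -2, -2, -2, 0, -2, 4, 2, 2, -2, -2, 2, 0, 0, 0, 0, 0, 0, 0, -2, 0, 0, 0, 2], [0, 0, 0, 0, -2, 0, 2, 0, 0, 0, 0, 0, -2, -2, -2, 2, 2, 2, 2, 0, -2, -2, -2, -4], [2, -2, 2, -2, 0, 2, 0, -2, 2, 2, -2, -2, 0, -4, 0, 0, 0, 0, 0, 2, 0, 0, 0, 2]]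

def mats : List Mat := [(matA0, matT0), (matA1, matT1), (matA2, matT2), (matA3, matT3)]

def rels : Rels := [
  ([0, 0, 0, 0, 0, 0, 0], []),
  ([1, 0], [0, 1]),
  ([1, 1, 1, 1, 1, 1, 1], []),
  ([2, 0], [0, 0, 2]),
  ([3, 0], [0, 0, 0, 3]),
  ([3, 1], [1, 1, 1, 3])]

def paths0 : List (List ℕ × List ℕ) := [
  ([2, 0, 0, 0, 0, 0, 0, 0], [1536, 1538, 1540, 1542, 1544, 1546, 1548, 0, 0, 257]),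
  ([3, 1, 0], [2560, 2051, 514, 513, 512, 515, 514, 513, 516, 515, 514, 2819, 2304, 769]),
  ([3, 1, 1, 1, 1, 1, 1, 1], [2560, 2563, 2566, 2569, 2572, 2575, 2578, 1024, 1024, 1024, 1281])]

def paths : List (List ℕ × List ℕ) := paths0

def rows : List (List ℕ) := [
  [1, 0, 0, 0, 0, 0],
  [0, 1, 0, 0, 0, 0],
  [0, 0, 2, 0, 0, 0]]

def mu : List (List ℕ) := [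
  [0, 0, 0, 0, 0, 0],
  [0, 0, 0, 0, 0, 0]]

def comb : List (List ℕ) := [
  [1, 0, 0],
  [0, 1, 0],
  [0, 0, 4]]

def levels : List Lev := [
  (852206658587909773353650494292640276, [852206658587909773353650494292640276]),
  (600380179244928040532571479169513998, [600380179244928040532571479169513998])]

def cert : CfsgLib.SchurPath.Cert where
  m := 2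
  rels := rels
  paths := expandAll rels paths
  rows := rows
  mu := mu
  comb := comb

end CfsgLib.SchurCoOne.P7
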