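import Cfsg.Agent.Lib.Schur.CoOne.Data2

/-! Kernel checks of lattice matrices. -/

set_option autoImplicit false
set_option maxRecDepth 100000

namespace CfsgLib.SchurCoOne.P2

theorem let20 : letOK (matA20, matT20) = true := by decide +kernel

theorem let21 : letOK (matA21, matT21) = true := by decide +kernel

theorem let22 : letOK (matA22, matT22) = true := by decide +kernel

theorem let23 : letOK (matA23, matT23) = true := by decide +kernel

end CfsgLib.SchurCoOne.P2
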