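import Cfsg.Agent.Lib.Schur.CoOne.Data7

/-! Kernel checks of lattice matrices. -/

set_option autoImplicit false
set_option maxRecDepth 100000

namespace CfsgLib.SchurCoOne.P7

theorem let0 : letOK (matA0, matT0) = true := by decide +kernel

theorem let1 : letOK (matA1, matT1) = true := by decide +kernel

theorem let2 : letOK (matA2, matT2) = true := by decide +kernel

theorem let3 : letOK (matA3, matT3) = true := by decide +kernel

end CfsgLib.SchurCoOne.P7
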