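import Cfsg.Agent.Lib.Schur.CoOne.Checks2
import Cfsg.Agent.Lib.Schur.CoOne.Checks3
import Cfsg.Agent.Lib.Schur.CoOne.Checks5
import Cfsg.Agent.Lib.Schur.CoOne.Checks7
import Cfsg.Agent.Lib.Schur.CoOne.Cover
import Cfsg.Agent.Lib.Schur.Bound
import Mathlib.Tactic.NormNum.Prime

/-!
The Schur multiplier of Co0 is trivial and that of Co1 has order 2.
-/

set_option autoImplicit false

namespace CfsgLib.SchurCoOne

open Cfsg CfsgLib

theorem prime_cases {r : ℕ} (hr : r.Prime) (h : r ∣ 8315553613086720000) :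
    r ∈ [2, 3, 5, 7, 11, 13, 23] := by
  rw [show 8315553613086720000 = [2 ^ 22, 3 ^ 9, 5 ^ 4, 7 ^ 2, 11, 13, 23].prod by norm_num] at h
  obtain ⟨a, ha, hra⟩ := hr.prime.dvd_prod_iff.1 h
  have key : ∀ q k : ℕ, q.Prime → r ∣ q ^ k → r = q := fun q k hq hh =>
    (Nat.prime_dvd_prime_iff_eq hr hq).1 (hr.dvd_of_dvd_pow hh)
  simp only [List.mem_cons, List.not_mem_nil, or_false] at ha ⊢
  rcases ha with rfl | rfl | rfl | rfl | rfl | rfl | rfl
  · exact Or.inl (key 2 22 Nat.prime_two hra)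
  · exact Or.inr (Or.inl (key 3 9 Nat.prime_three hra))
  · exact Or.inr (Or.inr (Or.inl (key 5 4 Nat.prime_five hra)))
  · exact Or.inr (Or.inr (Or.inr (Or.inl (key 7 2 (by norm_num) hra))))
  · exact Or.inr (Or.inr (Or.inr (Or.inr (Or.inl (key 11 1 (by norm_num) (by rwa [pow_one]))))))
  · exact Or.inr (Or.inr (Or.inr (Or.inr (Or.inr (Or.inl (key 13 1 (by norm_num) (by rwa [pow_one])))))))
  · exact Or.inr (Or.inr (Or.inr (Or.inr (Or.inr (Or.inr (key 23 1 (by norm_num) (by rwa [pow_one])))))))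

theorem not_dvd_ker (Γ : Type) [Group Γ] [Finite Γ] (σ : Γ →* Co0) (hσ : Function.Surjective σ)
    (hc : σ.ker ≤ Subgroup.center Γ) (hd : σ.ker ≤ commutator Γ) (r : ℕ) (hr : r.Prime) :
    ¬ r ∣ Nat.card σ.ker := by
  intro hdvd
  have : Finite Co0 := Finite.of_surjective σ hσ
  have hr' : Fact r.Prime := ⟨hr⟩
  by_cases hrN : r ^ 2 ∣ Nat.card Co0
  swap
  · exact SchurBound.not_dvd_card_ker_of_sq_not_dvd σ hσ hc hd hrN hdvd
  rw [card_G] at hrN
  have h2 : Fact (Nat.Prime 2) := ⟨Nat.prime_two⟩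
  have h3 : Fact (Nat.Prime 3) := ⟨Nat.prime_three⟩
  have h5 : Fact (Nat.Prime 5) := ⟨Nat.prime_five⟩
  have h7 : Fact (Nat.Prime 7) := ⟨by norm_num⟩
  have hm := prime_cases hr (dvd_trans (dvd_pow_self r two_ne_zero) hrN)
  simp only [List.mem_cons, List.not_mem_nil, or_false] at hm
  rcases hm with rfl | rfl | rfl | rfl | rfl | rfl | rfl
  · exact not_dvd_of_maskData P2.mats P2.levels P2.cert P2.mus P2.combs P2.rowsAll P2.check_ok P2.rows_ok P2.lets_ok P2.data_ok (i := 1982582476875)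
      (by norm_num [P2.cert]) (by norm_num) σ hσ hc hd hdvd
  · exact not_dvd_of_data P3.mats P3.levels P3.cert P3.check_ok P3.lets_ok P3.data_ok (i := 422473891840000)
      (by norm_num [P3.cert]) (by norm_num) σ hσ hc hd hdvd
  · exact not_dvd_of_data P5.mats P5.levels P5.cert P5.check_ok P5.lets_ok P5.data_ok (i := 13304885780938752)
      (by norm_num [P5.cert]) (by norm_num) σ hσ hc hd hdvd
  · exact not_dvd_of_data P7.mats P7.levels P7.cert P7.check_ok P7.lets_ok P7.data_ok (i := 169705175777280000)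
      (by norm_num [P7.cert]) (by norm_num) σ hσ hc hd hdvd
  all_goals norm_num at hrN

theorem hasCyclic_co1 : Cfsg.HasCyclicSchurMultiplier (Co0 ⧸ Subgroup.center Co0) 2 :=
  hasCyclic_of_closed not_dvd_ker

end CfsgLib.SchurCoOne
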