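import Cfsg.Agent.Lib.Schur.CoOne.Data2

/-! Kernel checks of closed paths. -/

set_option autoImplicit false
set_option maxRecDepth 100000

namespace CfsgLib.SchurCoOne.P2

theorem rows0_ok : CfsgLib.SchurCoTwo.rowsOK rels paths0 rows0 = true := by decide +kernel

theorem rows1_ok : CfsgLib.SchurCoTwo.rowsOK rels paths1 rows1 = true := by decide +kernel

theorem rows2_ok : CfsgLib.SchurCoTwo.rowsOK rels paths2 rows2 = true := by decide +kernel

theorem rows3_ok : CfsgLib.SchurCoTwo.rowsOK rels paths3 rows3 = true := by decide +kernel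

end CfsgLib.SchurCoOne.P2
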